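import Mathlib

section


/-!
# NO-3S, `OneSz` (`q ≥ 4`, `n = 1`), case (N), the TI world, `D_x = I` (bb OMEGA #19637, #19856), pure form

`F` a finite field of characteristic 2, `M` an `F`-module, `H` a group acting `F`-linearly on `M`;
`L` = the vectors `≠ 0` of the points `λ_l`; `A l`, `I l`, `al l` (`l ∈ L`) the data of the line `l`.

* `Gen` : the record
* `Gen.part_symm`, `Gen.bb_comm`, `Gen.bracket`, `Gen.cc`, `Gen.surj` : the TI world (helper614's `TI.Gen`)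
* `Gen.E` : the submodule `Ebar_l`; `Gen.Phi` : the pairing `Ebar_l × M → F`
-/

set_option autoImplicit false
set_option linter.unusedSimpArgs false
set_option linter.unusedSectionVars false

namespace Cfsg.Agent.Omega.NO3S.OneQ.TIq

/-- `m` is not in the point `F l` -/
def NP (F : Type*) {M : Type*} [SMul F M] (l m : M) : Prop := ∀ c : F, m ≠ c • l

/-- the fields -/
structure Gen (F : Type*) {M H : Type*} [Field F] [AddCommGroup M] [Module F M] [Group H] [DistribMulAction H M]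
    (L : Set M) (A : M → Subgroup H) (I : M → Submodule F M) (al : M → M → H) : Prop where
  two : ∀ m : M, m + m = 0
  lin : ∀ (h : H) (c : F) (m : M), h • (c • m) = c • (h • m)
  zero : (0 : M) ∉ L
  gen : Submodule.span F L = ⊤
  smul : ∀ (h : H) {l : M}, l ∈ L → h • l ∈ L
  fsm : ∀ {c : F} {l : M}, c ≠ 0 → l ∈ L → c • l ∈ L
  A_sm : ∀ {c : F} {l : M}, c ≠ 0 → l ∈ L → A (c • l) = A l
  I_sm : ∀ {c : F} {l : M}, c ≠ 0 → l ∈ L → I (c • l) = I l
  trans : ∀ {l m : M}, l ∈ L → m ∈ L → ∃ (h : H) (c : F), c ≠ 0 ∧ h • l = c • m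
  A_conj : ∀ (h : H) {l : M} {a : H}, l ∈ L → a ∈ A l → h * a * h⁻¹ ∈ A (h • l)
  I_conj : ∀ (h : H) {l u : M}, l ∈ L → u ∈ I l → h • u ∈ I (h • l)
  sq : ∀ {l : M} {a : H}, l ∈ L → a ∈ A l → a * a = 1
  ne : ∀ {l : M}, l ∈ L → ∃ a ∈ A l, a ≠ 1
  self : ∀ {l : M}, l ∈ L → l ∈ I l
  comm : ∀ {l : M} {a : H}, l ∈ L → a ∈ A l → ∀ m : M, a • m + m ∈ I l
  fix : ∀ {l : M} {a : H} {u : M}, l ∈ L → a ∈ A l → u ∈ I l → a • u = u
  /-- `D_x = I` -/
  fixI : ∀ {l u : M}, l ∈ L → (∀ a ∈ A l, a • u = u) → u ∈ I l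
  /-- TI -/
  ti : ∀ {l m : M} {a : H}, l ∈ L → m ∈ L → a ∈ A l → a ∈ A m → a ≠ 1 → ∃ c : F, m = c • l
  /-- planes -/
  plane : ∀ {l m : M}, l ∈ L → m ∈ L → m ∈ I l → ∀ c : F, l + c • m = 0 ∨ l + c • m ∈ L
  /-- coplanar ⟹ `Ibar_m ≤ Ebar_l` (uses TI) -/
  cop : ∀ {l m u : M}, l ∈ L → m ∈ L → m ∈ I l → u ∈ I m → al l u = 1
  al_mem : ∀ {l : M}, l ∈ L → ∀ m, al l m ∈ A l
  al_add : ∀ {l : M}, l ∈ L → ∀ m m', al l (m + m') = al l m * al l m'
  al_surj : ∀ {l : M} {a : H}, l ∈ L → a ∈ A l → ∃ m, al l m = a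
  al_conj : ∀ {l : M} {h : H}, l ∈ L → h • l = l → ∀ m, al l (h • m) = h * al l m * h⁻¹
  al_ker : ∀ {l : M}, l ∈ L → ∀ m, al l m = 1 ↔ ∀ a ∈ A l, ∃ c : F, a • m = m + c • l
  /-- `beta` is symmetric -/
  sy : ∀ {l : M}, l ∈ L → ∀ m m', ∃ c : F, al l m' • m + m + (al l m • m' + m') = c • l
  /-- `phi_e` is `F`-linear -/
  phl : ∀ {l : M}, l ∈ L → ∀ (c : F) (e x : M), al l e = 1 → al l (c • x) • e + e = c • (al l x • e + e)
  /-- `beta` is `F`-linear -/
  bl : ∀ {l : M}, l ∈ L → ∀ (c : F) (m x : M), ∃ d : F, al l (c • x) • m + m = c • (al l x • m + m) + d • l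
  /-- the duality `Ebar / Dbar = Hom_F(A, F)` -/
  dual : ∀ {l : M}, l ∈ L → ∀ f : M →ₗ[F] F, (∀ e, al l e = 1 → f e = 0) →
    ∃ e, al l e = 1 ∧ ∀ x, al l x • e + e = f x • l
  /-- ALPHA -/
  alpha : ∀ {l m u : M}, l ∈ L → m ∈ L → NP F l m → u ∈ I l → u ∈ I m → u ≠ 0 → al l m • m = m

/-- the fields with `K~_l` (= image of `K_y ∩ C_G(V_l)`) -/
structure GenK (F : Type*) {M H : Type*} [Field F] [AddCommGroup M] [Module F M] [Group H] [DistribMulAction H M]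
    (L : Set M) (A : M → Subgroup H) (I : M → Submodule F M) (al : M → M → H) (Kt : M → Subgroup H) : Prop
    extends Gen F L A I al where
  faith : ∀ h : H, (∀ m : M, h • m = m) → h = 1
  Kt_sm : ∀ {c : F} {l : M}, c ≠ 0 → l ∈ L → Kt (c • l) = Kt l
  Kt_two : ∀ {l : M}, l ∈ L → IsPGroup 2 (Kt l)
  Kt_conj : ∀ (h : H) {l : M} {t : H}, l ∈ L → t ∈ Kt l → h * t * h⁻¹ ∈ Kt (h • l)
  A_le_Kt : ∀ {l : M}, l ∈ L → A l ≤ Kt l
  Kt_fix : ∀ {l : M} {t : H}, l ∈ L → t ∈ Kt l → t • l = l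
  Kt_A : ∀ {l : M} {t a : H}, l ∈ L → t ∈ Kt l → a ∈ A l → t * a = a * t
  Kt_E : ∀ {l : M} {t : H} {e : M}, l ∈ L → t ∈ Kt l → al l e = 1 → t • e + e ∈ I l
  Kt_I : ∀ {l : M} {t : H} {u : M}, l ∈ L → t ∈ Kt l → u ∈ I l → ∃ c : F, t • u + u = c • l
  /-- `K~_l` induces `Hom_F(Ibar_l / lam_l, lam_l)` on `Ibar_l` (weak form) -/
  Kt_hom : ∀ {l u : M}, l ∈ L → u ∈ I l → NP F l u → ∃ t ∈ Kt l, t • u = u + l

namespace Gen

variable {F M H : Type*} [Field F] [AddCommGroup M] [Module F M] [Group H] [DistribMulAction H M] {L : Set M}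
    {A : M → Subgroup H} {I : M → Submodule F M} {al : M → M → H}

section

variable (G : Gen F L A I al)
include G

theorem two_left (x y : M) : x + (x + y) = y := by
  rw [← add_assoc, G.two, zero_add]

theorem eq_of_add {x y : M} (h : x + y = 0) : x = y := by
  calc x = x + y + y := by rw [add_assoc, G.two, add_zero]
    _ = y := by rw [h, zero_add]

theorem neg_eq (x : M) : -x = x := neg_eq_of_add_eq_zero_left (G.two x)

theorem ne_zero {l : M} (hl : l ∈ L) : l ≠ 0 := fun h => G.zero (h ▸ hl)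

theorem sq_one {c : F} {l : M} (hl : l ∈ L) (h : (c * c) • l = l) : c = 1 := by
  have h0 := G.ne_zero hl
  have h1 : (c * c - 1) • l = 0 := by rw [sub_smul, one_smul, h, sub_self]
  have h2 : c * c - 1 = 0 := (smul_eq_zero.1 h1).resolve_right h0
  have h3 : (1 : F) + 1 = 0 := by
    have : ((1 : F) + 1) • l = 0 := by rw [add_smul, one_smul, G.two]
    exact (smul_eq_zero.1 this).resolve_right h0
  have h4 : (c - 1) * (c - 1) = 0 := by
    have : (c - 1) * (c - 1) = (c * c - 1) - (1 + 1) * (c - 1) := by ring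
    rw [this, h2, h3]; ring
  have h5 := mul_self_eq_zero.1 h4
  exact sub_eq_zero.1 h5

/-- an involution which fixes the point fixes the vector -/
theorem fix_of_inv {h : H} {c : F} {l : M} (hl : l ∈ L) (hh : h * h = 1) (hc : h • l = c • l) : h • l = l := by
  have h1 : (c * c) • l = l := by
    have : h • (h • l) = l := by rw [← mul_smul, hh, one_smul]
    rw [hc, G.lin, hc, smul_smul] at this
    exact this
  rw [hc, G.sq_one hl h1, one_smul]

theorem np_symm {l m : M} (hl : l ∈ L) (_hm : m ∈ L) (h : NP F l m) : NP F m l := by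
  intro c hc
  have hc0 : c ≠ 0 := by
    rintro rfl
    rw [zero_smul] at hc
    exact G.ne_zero hl hc
  exact h c⁻¹ (by rw [hc, smul_smul, inv_mul_cancel₀ hc0, one_smul])

theorem np_smul {l m : M} {c : F} (hc : c ≠ 0) (h : NP F l m) : NP F l (c • m) := by
  intro d hd
  exact h (c⁻¹ * d) (by rw [mul_smul, ← hd, smul_smul, inv_mul_cancel₀ hc, one_smul])

theorem inv {l : M} {a : H} (hl : l ∈ L) (ha : a ∈ A l) : a⁻¹ = a :=
  inv_eq_of_mul_eq_one_left (G.sq hl ha)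

theorem A_comm {l : M} {a b : H} (hl : l ∈ L) (ha : a ∈ A l) (hb : b ∈ A l) : a * b = b * a := by
  have h := G.sq hl (mul_mem ha hb)
  calc a * b = (a * b)⁻¹ := (inv_eq_of_mul_eq_one_left h).symm
    _ = b * a := by rw [mul_inv_rev, G.inv hl ha, G.inv hl hb]

/-- conjugate by an involution fixing `l` -/
theorem A_conj' {l : M} {a h : H} (hl : l ∈ L) (ha : a ∈ A l) (hh : h * h = 1) (hhl : h • l = l) :
    h * a * h ∈ A l := by
  have := G.A_conj h hl ha
  rwa [hhl, inv_eq_of_mul_eq_one_left hh] at this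

theorem I_conj' {l u : M} {h : H} (hl : l ∈ L) (hu : u ∈ I l) (hhl : h • l = l) : h • u ∈ I l := by
  have := G.I_conj h hl hu
  rwa [hhl] at this

theorem A_fix {l : M} {a : H} (hl : l ∈ L) (ha : a ∈ A l) : a • l = l := G.fix hl ha (G.self hl)

theorem al_I_one {l u : M} (hl : l ∈ L) (hu : u ∈ I l) : al l u = 1 :=
  (G.al_ker hl u).2 fun _ ha => ⟨0, by rw [zero_smul, add_zero]; exact G.fix hl ha hu⟩

theorem al_zero {l : M} (hl : l ∈ L) : al l 0 = 1 := by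
  have := G.al_add hl 0 0
  rw [add_zero] at this
  exact (mul_eq_left.1 this.symm)

theorem al_sm_one {l e : M} (hl : l ∈ L) (c : F) (he : al l e = 1) : al l (c • e) = 1 := by
  rw [G.al_ker hl] at he ⊢
  intro a ha
  obtain ⟨d, hd⟩ := he a ha
  exact ⟨c * d, by rw [G.lin, hd, smul_add, smul_smul]⟩

theorem fsm' {l : M} {c : F} (hl : l ∈ L) (h : c • l ≠ 0) : c • l ∈ L :=
  G.fsm (fun h0 => h (by rw [h0, zero_smul])) hl

/-- every `a ≠ 1` moves some `e ∈ E_l` by `l` -/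
theorem phi {l : M} {a : H} (hl : l ∈ L) (ha : a ∈ A l) (h1 : a ≠ 1) : ∃ e, al l e = 1 ∧ a • e = e + l := by
  classical
  obtain ⟨x, rfl⟩ := G.al_surj hl ha
  let E : Submodule F M :=
    { carrier := {e | al l e = 1}
      add_mem' := fun {a b} ha hb => by
        change al l (a + b) = 1
        rw [G.al_add hl]
        rw [show al l a = 1 from ha, show al l b = 1 from hb, one_mul]
      zero_mem' := G.al_zero hl
      smul_mem' := fun c x hx => G.al_sm_one hl c hx }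
  have hx : x ∉ E := h1
  obtain ⟨f, hf, hf'⟩ := Submodule.exists_le_ker_of_notMem hx
  obtain ⟨e, he, he'⟩ := G.dual hl ((f x)⁻¹ • f) (fun y hy => by
    have : y ∈ LinearMap.ker f := hf' hy
    rw [LinearMap.mem_ker] at this
    simp [this])
  refine ⟨e, he, ?_⟩
  have := he' x
  rw [LinearMap.smul_apply, smul_eq_mul, inv_mul_cancel₀ hf, one_smul] at this
  calc al l x • e = e + (al l x • e + e) := by rw [add_comm (al l x • e) e, G.two_left]
    _ = e + l := by rw [this]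

/-- a central involution -/
theorem cent {l : M} {b h : H} (hl : l ∈ L) (hb : b ∈ A l) (h1 : b ≠ 1) (hh : h * h = 1) (hc : h * b = b * h) :
    h • l = l := by
  have h2 := G.A_conj h hl hb
  rw [hc, mul_assoc, mul_inv_cancel, mul_one] at h2
  obtain ⟨c, h3⟩ := G.ti hl (G.smul h hl) hb h2 h1
  exact G.fix_of_inv hl hh h3

theorem part_symm {l m : M} {b : H} (hl : l ∈ L) (hm : m ∈ L) (hb : b ∈ A l) (hb1 : b ≠ 1)
    (hbm : b • m = m) : ∃ b' ∈ A m, b' ≠ 1 ∧ b' • l = l := by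
  obtain ⟨a, ha, ha1⟩ := G.ne hm
  have hbb := G.sq hl hb
  have haa := G.sq hm ha
  by_cases hc : a * b = b * a
  · exact ⟨a, ha, ha1, G.cent hl hb hb1 haa hc⟩
  · have h1 : b * a * b ∈ A m := G.A_conj' hm ha hbb hbm
    refine ⟨a * (b * a * b), mul_mem ha h1, ?_, ?_⟩
    · intro h
      apply hc
      have h2 : b * a * b = a := by
        have h4 := inv_eq_of_mul_eq_one_right h
        rw [G.inv hm ha] at h4
        exact h4.symm
      calc a * b = b * a * b * b := by rw [h2]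
        _ = b * a := by rw [mul_assoc, hbb, mul_one]
    · refine G.cent hl hb hb1 (G.sq hm (mul_mem ha h1)) ?_
      have h3 := G.A_comm hm ha h1
      calc a * (b * a * b) * b = a * (b * a) * (b * b) := by group
        _ = a * (b * a * b) * b := by rw [hbb]; simp only [mul_assoc, hbb, mul_one]
        _ = b * a * b * a * b := by rw [h3]
        _ = b * (a * (b * a * b)) := by group

theorem bb_comm {l m : M} {b b' : H} (hl : l ∈ L) (hm : m ∈ L) (hlm : NP F l m) (hb : b ∈ A l) (hbm : b • m = m)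
    (hb' : b' ∈ A m) (hbl : b' • l = l) : b * b' = b' * b := by
  have hbb := G.sq hl hb
  have hbb' := G.sq hm hb'
  have h1 : b * b' * b ∈ A m := G.A_conj' hm hb' hbb hbm
  have h2 : b' * b * b' ∈ A l := G.A_conj' hl hb hbb' hbl
  have h3 : b * (b' * b * b') ∈ A l := mul_mem hb h2
  have h4 : b * (b' * b * b') ∈ A m := by
    have : b * b' * b * b' ∈ A m := mul_mem h1 hb'
    simpa only [mul_assoc] using this
  have h5 : b * (b' * b * b') = 1 := by
    by_contra hne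
    obtain ⟨c, hc⟩ := G.ti hl hm h3 h4 hne
    exact hlm c hc
  calc b * b' = b * b' * (b * (b' * b * b'))⁻¹ := by rw [h5, inv_one, mul_one]
    _ = b * b' * (b'⁻¹ * b⁻¹ * b'⁻¹ * b⁻¹) := by group
    _ = b'⁻¹ * b⁻¹ := by group
    _ = b' * b := by rw [G.inv hl hb, G.inv hm hb']

/-- `[b', a]` for `a ∈ A l`, `b' ∈ A m` fixing `l` -/
theorem bracket {l m : M} {a b' : H} (hl : l ∈ L) (hm : m ∈ L) (ha : a ∈ A l) (hb' : b' ∈ A m)
    (hbl : b' • l = l) : b' * (a * b' * a) ∈ A l ∧ (b' * (a * b' * a)) • m = m := by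
  have hbb' := G.sq hm hb'
  have haa := G.sq hl ha
  have h1 : b' * a * b' ∈ A l := G.A_conj' hl ha hbb' hbl
  have h2 : b' * (a * b' * a) ∈ A l := by
    have := mul_mem h1 ha
    simpa only [mul_assoc] using this
  refine ⟨h2, ?_⟩
  by_cases hb1 : b' = 1
  · subst hb1
    rw [one_mul, mul_one, haa, one_smul]
  · refine G.cent hm hb' hb1 (G.sq hl h2) ?_
    have h3 := G.A_comm hl h1 ha
    calc b' * (a * b' * a) * b' = b' * a * b' * a * b' := by group
      _ = a * (b' * a * b') * b' := by rw [h3]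
      _ = a * b' * a * (b' * b') := by group
      _ = b' * b' * (a * b' * a) := by rw [hbb', one_mul, mul_one]
      _ = b' * (b' * (a * b' * a)) := by group

/-- `(CC)` -/
theorem cc {l m : M} {b a' : H} (hl : l ∈ L) (hm : m ∈ L) (hb : b ∈ A l) (hbm : b • m = m) (ha' : a' ∈ A m)
    (e : M) : ((b * (a' * b * a')) • e + e) + (a' • (b • e + e) + (b • e + e)) ∈ I l ⊓ I m := by
  have two := G.two
  have tl := G.two_left
  obtain ⟨f, hf⟩ : ∃ f, f = a' • e + e := ⟨_, rfl⟩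
  obtain ⟨w, hw⟩ : ∃ w, w = b • e + e := ⟨_, rfl⟩
  have hfm : f ∈ I m := hf ▸ G.comm hm ha' e
  have hwl : w ∈ I l := hw ▸ G.comm hl hb e
  obtain ⟨g, hg⟩ : ∃ g, g = b • f + f := ⟨_, rfl⟩
  have hgl : g ∈ I l := hg ▸ G.comm hl hb f
  have hgm : g ∈ I m := hg ▸ add_mem (G.I_conj' hm hfm hbm) hfm
  obtain ⟨v, hv⟩ : ∃ v, v = a' • w + w := ⟨_, rfl⟩
  have hvm : v ∈ I m := hv ▸ G.comm hm ha' w
  obtain ⟨g', hg'⟩ : ∃ g', g' = b • v + v := ⟨_, rfl⟩
  have hgl' : g' ∈ I l := hg' ▸ G.comm hl hb v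
  have hgm' : g' ∈ I m := hg' ▸ add_mem (G.I_conj' hm hvm hbm) hvm
  have e1 : a' • e = e + f := by
    rw [hf]; simp only [add_comm, add_left_comm, two, tl, add_zero]
  have e2 : b • e = e + w := by
    rw [hw]; simp only [add_comm, add_left_comm, two, tl, add_zero]
  have e3 : b • f = f + g := by
    rw [hg]; simp only [add_comm, add_left_comm, two, tl, add_zero]
  have e4 : a' • w = w + v := by
    rw [hv]; simp only [add_comm, add_left_comm, two, tl, add_zero]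
  have e5 : b • v = v + g' := by
    rw [hg']; simp only [add_comm, add_left_comm, two, tl, add_zero]
  have e6 : a' • f = f := G.fix hm ha' hfm
  have e7 : a' • g = g := G.fix hm ha' hgm
  have e8 : b • g = g := G.fix hl hb hgl
  have e9 : b • w = w := G.fix hl hb hwl
  have : (b * (a' * b * a')) • e + e + (a' • (b • e + e) + (b • e + e)) = g + g' := by
    rw [← hw, e4, mul_smul, mul_smul, mul_smul, e1]
    simp only [smul_add, e2, e3, e1, e4, e6, e7, e8, e9, e5]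
    simp only [add_assoc, add_comm, add_left_comm, two, tl, add_zero]
  rw [this]
  exact add_mem ⟨hgl, hgm⟩ ⟨hgl', hgm'⟩

/-- the map `b ↦ [b, a']` is injective -/
theorem br_inj {l m : M} {a' b b₂ : H} (hl : l ∈ L) (hm : m ∈ L) (ha' : a' ∈ A m) (hal : a' • l ≠ l)
    (hb : b ∈ A l) (hb₂ : b₂ ∈ A l) (h : b * (a' * b * a') = b₂ * (a' * b₂ * a')) : b = b₂ := by
  by_contra hne
  apply hal
  have hbb := G.sq hl hb
  have hbb₂ := G.sq hl hb₂
  have haa := G.sq hm ha'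
  have hn1 : b₂ * b ≠ 1 := by
    intro h1
    apply hne
    have := inv_eq_of_mul_eq_one_left h1
    rw [← this, G.inv hl hb]
  refine G.cent hl (mul_mem hb₂ hb) hn1 haa ?_
  have h3 : a' * b * a' = b * b₂ * (a' * b₂ * a') := by
    calc a' * b * a' = b * b * (a' * b * a') := by rw [hbb, one_mul]
      _ = b * (b * (a' * b * a')) := by group
      _ = b * b₂ * (a' * b₂ * a') := by rw [h]; group
  calc a' * (b₂ * b) = a' * (b * b₂) := by rw [G.A_comm hl hb₂ hb]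
    _ = a' * b * (a' * a') * b₂ := by rw [haa, mul_one]; group
    _ = a' * b * a' * a' * b₂ := by group
    _ = b * b₂ * (a' * b₂ * a') * a' * b₂ := by rw [h3]
    _ = b * b₂ * a' * b₂ * (a' * a') * b₂ := by group
    _ = b * b₂ * a' * (b₂ * b₂) := by rw [haa, mul_one]; group
    _ = b * b₂ * a' := by rw [hbb₂, mul_one]
    _ = b₂ * b * a' := by rw [G.A_comm hl hb₂ hb]

theorem br_ne {l m : M} {a' b : H} (hl : l ∈ L) (hm : m ∈ L) (ha' : a' ∈ A m) (hal : a' • l ≠ l)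
    (hb : b ∈ A l) (hb1 : b ≠ 1) : b * (a' * b * a') ≠ 1 := by
  intro h
  apply hb1
  refine G.br_inj hl hm ha' hal hb (one_mem _) ?_
  rw [h, one_mul, mul_one, G.sq hm ha']

/-- `|A l| = |A m|` -/
theorem card_A [Finite H] {l m : M} (hl : l ∈ L) (hm : m ∈ L) : Nat.card (A l) ≤ Nat.card (A m) := by
  obtain ⟨h, c, hc, e⟩ := G.trans hl hm
  have e1 : A (h • l) = A m := by rw [e, G.A_sm hc hm]
  exact Nat.card_le_card_of_injective
    (fun a : A l => (⟨h * a * h⁻¹, e1 ▸ G.A_conj h hl a.2⟩ : A m))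
    fun a b hab => Subtype.ext (by simpa using congrArg Subtype.val hab)

/-- not commuting is symmetric -/
theorem exists_move [Finite H] {l m : M} {a : H} (hl : l ∈ L) (hm : m ∈ L) (ha : a ∈ A l) (ham : a • m ≠ m) :
    ∃ a' ∈ A m, a' • l ≠ l := by
  by_contra hcon
  push Not at hcon
  have hcard := G.card_A hl hm
  let f : A m → A l := fun b' => ⟨b' * (a * b' * a), (G.bracket hl hm ha b'.2 (hcon b' b'.2)).1⟩
  have hf : Function.Injective f := fun x y hxy =>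
    Subtype.ext (G.br_inj hm hl ha ham x.2 y.2 (congrArg Subtype.val hxy))
  have hs : Function.Surjective f := (hf.bijective_of_nat_card_le hcard).2
  obtain ⟨x, hx⟩ := hs ⟨a, ha⟩
  apply ham
  have h1 := (G.bracket hl hm ha x.2 (hcon x x.2)).2
  have h2 : (x : H) * (a * x * a) = a := congrArg Subtype.val hx
  rwa [h2] at h1

theorem I_symm [Finite H] {l m : M} (hl : l ∈ L) (hm : m ∈ L) (h : m ∈ I l) : l ∈ I m := by
  refine G.fixI hm fun a ha => ?_
  by_contra hal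
  obtain ⟨a', ha', h'⟩ := G.exists_move hm hl ha hal
  exact h' (G.fix hl ha' h)

/-- the composite `b ↦ [[b, a'], a]` is onto `B` -/
theorem surj [Finite H] {l m : M} {a a' b₀ : H} (hl : l ∈ L) (hm : m ∈ L) (ha : a ∈ A l) (ham : a • m ≠ m)
    (ha' : a' ∈ A m) (hal : a' • l ≠ l) (hb₀ : b₀ ∈ A l) (hbm : b₀ • m = m) :
    ∃ b ∈ A l, b • m = m ∧ (b * (a' * b * a')) ∈ A m ∧ (b * (a' * b * a')) • l = l ∧
      (b * (a' * b * a')) * (a * (b * (a' * b * a')) * a) = b₀ := by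
  let B : Type _ := {b : H // b ∈ A l ∧ b • m = m}
  let B' : Type _ := {b : H // b ∈ A m ∧ b • l = l}
  let f : B → B' := fun b => ⟨b.1 * (a' * b.1 * a'), G.bracket hm hl ha' b.2.1 b.2.2⟩
  let g : B' → B := fun b => ⟨b.1 * (a * b.1 * a), G.bracket hl hm ha b.2.1 b.2.2⟩
  have hf : Function.Injective f := fun x y hxy =>
    Subtype.ext (G.br_inj hl hm ha' hal x.2.1 y.2.1 (congrArg Subtype.val hxy))
  have hg : Function.Injective g := fun x y hxy =>
    Subtype.ext (G.br_inj hm hl ha ham x.2.1 y.2.1 (congrArg Subtype.val hxy))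
  have hs : Function.Surjective (g ∘ f) := Finite.injective_iff_surjective.1 (hg.comp hf)
  obtain ⟨x, hx⟩ := hs ⟨b₀, hb₀, hbm⟩
  exact ⟨x.1, x.2.1, x.2.2, (f x).2.1, (f x).2.2, congrArg Subtype.val hx⟩

end

end Gen

end Cfsg.Agent.Omega.NO3S.OneQ.TIq

end

section


/-!
# NO-3S, `OneSz` (`q ≥ 4`, `n = 1`), case (N): from one vector to all line vectors, pure form

`H` acts `F`-linearly on `M`; `v0` the vector of one line, `A0`, `I0`, `al0`, `Kt0` the data of this line.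

* `Loc F v0 A0 I0 al0` : the facts at `v0`; `LocK` : with `Kt0`;
* `LL F H v0` : the vectors `c • x • v0`; `AA`, `II`, `AL`, `KT` : the data at every `l ∈ LL`;
* `Loc.at_*` : every fact at every `l ∈ LL F H v0`; `Loc.at_fixI`, `Loc.at_ti`, `Loc.at_cop`, `Loc.at_alpha`,
  `Loc.at_plane` : the facts which are not in `Loc`, from their form at `v0`;
* **`Loc.toGen`**, **`LocK.toGenK`** : `TIq.Gen`, `TIq.GenK`.
-/

set_option autoImplicit false
set_option linter.unusedSectionVars false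

namespace Cfsg.Agent.Omega.NO3S.OneQ.TIq

section defs

variable (F : Type*) {M : Type*} (H : Type*) [Field F] [AddCommGroup M] [Module F M] [Group H] [DistribMulAction H M]

/-- the line vectors -/
def LL (v0 : M) : Set M := {m | ∃ (x : H) (c : F), c ≠ 0 ∧ m = c • x • v0}

open Classical in
/-- an element which maps `v0` into `F l` -/
noncomputable def rr (v0 l : M) : H := if hl : ∃ (x : H) (c : F), c ≠ 0 ∧ l = c • x • v0 then hl.choose else 1

theorem mem_LL {v0 l : M} : l ∈ LL F H v0 ↔ ∃ (x : H) (c : F), c ≠ 0 ∧ l = c • x • v0 := Iff.rfl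

theorem rr_spec {v0 l : M} (hl : l ∈ LL F H v0) : ∃ c : F, c ≠ 0 ∧ l = c • rr F H v0 l • v0 := by
  have hl' : ∃ (x : H) (c : F), c ≠ 0 ∧ l = c • x • v0 := hl
  unfold rr
  rw [dif_pos hl']
  exact hl'.choose_spec

variable {H}

/-- `A_l` -/
noncomputable def AA (v0 : M) (A0 : Subgroup H) (l : M) : Subgroup H :=
  A0.map (MulAut.conj (rr F H v0 l)).toMonoidHom

/-- `Ī_l` -/
noncomputable def II [SMulCommClass H F M] (v0 : M) (I0 : Submodule F M) (l : M) : Submodule F M :=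
  I0.map (DistribSMul.toLinearMap F M (rr F H v0 l))

/-- `M → A_l` -/
noncomputable def AL (v0 : M) (al0 : M → H) (l m : M) : H :=
  rr F H v0 l * al0 ((rr F H v0 l)⁻¹ • m) * (rr F H v0 l)⁻¹

end defs

/-- the facts at one vector -/
structure Loc (F : Type*) {M H : Type*} [Field F] [AddCommGroup M] [Module F M] [Group H] [DistribMulAction H M]
    (v0 : M) (A0 : Subgroup H) (I0 : Submodule F M) (al0 : M → H) : Prop where
  two : ∀ m : M, m + m = 0
  ne0 : v0 ≠ 0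
  gen : Submodule.span F (Set.range fun x : H => x • v0) = ⊤
  sA : ∀ {x a : H} {c : F}, x • v0 = c • v0 → a ∈ A0 → x * a * x⁻¹ ∈ A0
  sI : ∀ {x : H} {c : F} {u : M}, x • v0 = c • v0 → u ∈ I0 → x • u ∈ I0
  sq : ∀ {a : H}, a ∈ A0 → a * a = 1
  ne : ∃ a ∈ A0, a ≠ 1
  self : v0 ∈ I0
  comm : ∀ {a : H}, a ∈ A0 → ∀ m : M, a • m + m ∈ I0
  fix : ∀ {a : H} {u : M}, a ∈ A0 → u ∈ I0 → a • u = u
  al_mem : ∀ m, al0 m ∈ A0
  al_add : ∀ m m', al0 (m + m') = al0 m * al0 m'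
  al_surj : ∀ {a : H}, a ∈ A0 → ∃ m, al0 m = a
  al_conj : ∀ {x : H}, x • v0 = v0 → ∀ m, al0 (x • m) = x * al0 m * x⁻¹
  al_ker : ∀ m, al0 m = 1 ↔ ∀ a ∈ A0, ∃ c : F, a • m = m + c • v0
  sy : ∀ m m', ∃ c : F, al0 m' • m + m + (al0 m • m' + m') = c • v0
  phl : ∀ (c : F) (e x : M), al0 e = 1 → al0 (c • x) • e + e = c • (al0 x • e + e)
  bl : ∀ (c : F) (m x : M), ∃ d : F, al0 (c • x) • m + m = c • (al0 x • m + m) + d • v0
  dual : ∀ f : M →ₗ[F] F, (∀ e, al0 e = 1 → f e = 0) → ∃ e, al0 e = 1 ∧ ∀ x, al0 x • e + e = f x • v0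

/-- the facts at one vector, with `Kt0` -/
structure LocK (F : Type*) {M H : Type*} [Field F] [AddCommGroup M] [Module F M] [Group H] [DistribMulAction H M]
    (v0 : M) (A0 : Subgroup H) (I0 : Submodule F M) (al0 : M → H) (Kt0 : Subgroup H) : Prop
    extends Loc F v0 A0 I0 al0 where
  faith : ∀ x : H, (∀ m : M, x • m = m) → x = 1
  sK : ∀ {x t : H} {c : F}, x • v0 = c • v0 → t ∈ Kt0 → x * t * x⁻¹ ∈ Kt0
  Kt_two : IsPGroup 2 Kt0
  A_le_Kt : A0 ≤ Kt0
  Kt_fix : ∀ {t : H}, t ∈ Kt0 → t • v0 = v0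
  Kt_A : ∀ {t a : H}, t ∈ Kt0 → a ∈ A0 → t * a = a * t
  Kt_E : ∀ {t : H} {e : M}, t ∈ Kt0 → al0 e = 1 → t • e + e ∈ I0
  Kt_I : ∀ {t : H} {u : M}, t ∈ Kt0 → u ∈ I0 → ∃ c : F, t • u + u = c • v0
  Kt_hom : ∀ {u : M}, u ∈ I0 → NP F v0 u → ∃ t ∈ Kt0, t • u = u + v0

namespace Loc

variable {F M H : Type*} [Field F] [AddCommGroup M] [Module F M] [Group H] [DistribMulAction H M]
  [SMulCommClass H F M] {v0 : M} {A0 : Subgroup H} {I0 : Submodule F M} {al0 : M → H}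

section nofact

theorem lin (x : H) (c : F) (m : M) : x • (c • m) = c • (x • m) := smul_comm x c m

theorem self_mem : v0 ∈ LL F H v0 := ⟨1, 1, one_ne_zero, by rw [one_smul, one_smul]⟩

theorem smul_mem (x : H) {l : M} (hl : l ∈ LL F H v0) : x • l ∈ LL F H v0 := by
  obtain ⟨y, c, hc, rfl⟩ := hl
  exact ⟨x * y, c, hc, by rw [lin, mul_smul]⟩

theorem fsm_mem {c : F} {l : M} (hc : c ≠ 0) (hl : l ∈ LL F H v0) : c • l ∈ LL F H v0 := by
  obtain ⟨y, d, hd, rfl⟩ := hl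
  exact ⟨y, c * d, mul_ne_zero hc hd, (mul_smul c d _).symm⟩

theorem trans {l m : M} (hl : l ∈ LL F H v0) (hm : m ∈ LL F H v0) : ∃ (h : H) (c : F), c ≠ 0 ∧ h • l = c • m := by
  obtain ⟨x, c, hc, rfl⟩ := hl
  obtain ⟨y, d, hd, rfl⟩ := hm
  refine ⟨y * x⁻¹, c * d⁻¹, mul_ne_zero hc (inv_ne_zero hd), ?_⟩
  rw [lin, smul_smul, inv_mul_cancel_right, smul_smul, inv_mul_cancel_right₀ hd]

end nofact

variable (D : Loc F v0 A0 I0 al0)
include D

theorem zero_notMem : (0 : M) ∉ LL F H v0 := by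
  rintro ⟨x, c, hc, h0⟩
  rcases smul_eq_zero.1 h0.symm with e | e
  · exact hc e
  · exact D.ne0 ((smul_eq_zero_iff_eq x).1 e)

theorem span_LL : Submodule.span F (LL F H v0) = ⊤ := by
  rw [eq_top_iff, ← D.gen]
  refine Submodule.span_mono ?_
  rintro _ ⟨x, rfl⟩
  exact ⟨x, 1, one_ne_zero, (one_smul F _).symm⟩

/-- two representatives of the same point -/
theorem stab {x y : H} {c d : F} (_hc : c ≠ 0) (hd : d ≠ 0) (h : c • x • v0 = d • y • v0) :
    (x⁻¹ * y) • v0 = (d⁻¹ * c) • v0 := by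
  have h1 : y • v0 = (d⁻¹ * c) • x • v0 := by
    rw [mul_smul, h, smul_smul, inv_mul_cancel₀ hd, one_smul]
  rw [mul_smul, h1, lin, inv_smul_smul]

theorem stab' {x y : H} {c d : F} (hc : c ≠ 0) (hd : d ≠ 0) (h : c • x • v0 = d • y • v0) :
    (y⁻¹ * x) • v0 = (c⁻¹ * d) • v0 := D.stab hd hc h.symm

theorem mem_AA {l : M} {x a : H} {c : F} (hc : c ≠ 0) (hx : l = c • x • v0) :
    a ∈ AA F v0 A0 l ↔ x⁻¹ * a * x ∈ A0 := by
  have hl : l ∈ LL F H v0 := ⟨x, c, hc, hx⟩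
  obtain ⟨d, hd, hg⟩ := rr_spec F H hl
  unfold AA
  obtain ⟨g, hgd⟩ : ∃ g, g = rr F H v0 l := ⟨_, rfl⟩
  rw [← hgd] at hg ⊢
  have h0 : a ∈ A0.map (MulAut.conj g).toMonoidHom ↔ g⁻¹ * a * g ∈ A0 := by
    rw [Subgroup.mem_map]
    constructor
    · rintro ⟨b, hb, rfl⟩
      have e : g⁻¹ * ((MulAut.conj g).toMonoidHom b) * g = b := by
        change g⁻¹ * (g * b * g⁻¹) * g = b
        group
      rw [e]; exact hb
    · intro hb
      refine ⟨_, hb, ?_⟩
      change g * (g⁻¹ * a * g) * g⁻¹ = a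
      group
  rw [h0]
  have e1 := hx.symm.trans hg
  constructor
  · intro ha
    have := D.sA (D.stab' hd hc e1.symm) ha
    have e : x⁻¹ * g * (g⁻¹ * a * g) * (x⁻¹ * g)⁻¹ = x⁻¹ * a * x := by group
    rwa [e] at this
  · intro ha
    have := D.sA (D.stab' hc hd e1) ha
    have e : g⁻¹ * x * (x⁻¹ * a * x) * (g⁻¹ * x)⁻¹ = g⁻¹ * a * g := by group
    rwa [e] at this

theorem mem_II {l u : M} {x : H} {c : F} (hc : c ≠ 0) (hx : l = c • x • v0) :
    u ∈ II F (H := H) v0 I0 l ↔ x⁻¹ • u ∈ I0 := by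
  have hl : l ∈ LL F H v0 := ⟨x, c, hc, hx⟩
  obtain ⟨d, hd, hg⟩ := rr_spec F H hl
  unfold II
  obtain ⟨g, hgd⟩ : ∃ g, g = rr F H v0 l := ⟨_, rfl⟩
  rw [← hgd] at hg ⊢
  have h0 : u ∈ I0.map (DistribSMul.toLinearMap F M g) ↔ g⁻¹ • u ∈ I0 := by
    rw [Submodule.mem_map]
    constructor
    · rintro ⟨b, hb, rfl⟩
      change g⁻¹ • (g • b) ∈ I0
      rw [inv_smul_smul]; exact hb
    · intro hb
      exact ⟨_, hb, smul_inv_smul g u⟩
  rw [h0]
  have e1 := hx.symm.trans hg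
  constructor
  · intro ha
    have := D.sI (D.stab' hd hc e1.symm) ha
    rwa [smul_smul, mul_inv_cancel_right] at this
  · intro ha
    have := D.sI (D.stab' hc hd e1) ha
    rwa [smul_smul, mul_inv_cancel_right] at this

/-! ### the facts at every line vector -/

theorem at_A_sm {c : F} {l : M} (hc : c ≠ 0) (hl : l ∈ LL F H v0) : AA F v0 A0 (c • l) = AA F v0 A0 l := by
  obtain ⟨x, d, hd, hx⟩ := hl
  ext a
  rw [D.mem_AA (mul_ne_zero hc hd) (by rw [hx, smul_smul]), D.mem_AA hd hx]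

theorem at_I_sm {c : F} {l : M} (hc : c ≠ 0) (hl : l ∈ LL F H v0) :
    II F (H := H) v0 I0 (c • l) = II F (H := H) v0 I0 l := by
  obtain ⟨x, d, hd, hx⟩ := hl
  ext a
  rw [D.mem_II (mul_ne_zero hc hd) (by rw [hx, smul_smul]), D.mem_II hd hx]

theorem at_A_conj (y : H) {l : M} {a : H} (hl : l ∈ LL F H v0) (ha : a ∈ AA F v0 A0 l) :
    y * a * y⁻¹ ∈ AA F v0 A0 (y • l) := by
  obtain ⟨x, d, hd, hx⟩ := hl
  rw [D.mem_AA hd hx] at ha
  rw [D.mem_AA (x := y * x) hd (by rw [hx, lin, mul_smul])]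
  have e : (y * x)⁻¹ * (y * a * y⁻¹) * (y * x) = x⁻¹ * a * x := by group
  rw [e]; exact ha

theorem at_I_conj (y : H) {l u : M} (hl : l ∈ LL F H v0) (hu : u ∈ II F (H := H) v0 I0 l) :
    y • u ∈ II F (H := H) v0 I0 (y • l) := by
  obtain ⟨x, d, hd, hx⟩ := hl
  rw [D.mem_II hd hx] at hu
  rw [D.mem_II (x := y * x) hd (by rw [hx, lin, mul_smul]), smul_smul]
  have e : (y * x)⁻¹ * y = x⁻¹ := by group
  rw [e]; exact hu

theorem at_sq {l : M} {a : H} (hl : l ∈ LL F H v0) (ha : a ∈ AA F v0 A0 l) : a * a = 1 := by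
  obtain ⟨x, d, hd, hx⟩ := hl
  rw [D.mem_AA hd hx] at ha
  have := D.sq ha
  calc a * a = x * ((x⁻¹ * a * x) * (x⁻¹ * a * x)) * x⁻¹ := by group
    _ = 1 := by rw [this]; group

theorem at_ne {l : M} (hl : l ∈ LL F H v0) : ∃ a ∈ AA F v0 A0 l, a ≠ 1 := by
  obtain ⟨x, d, hd, hx⟩ := hl
  obtain ⟨a, ha, ha1⟩ := D.ne
  refine ⟨x * a * x⁻¹, ?_, fun e => ha1 (conj_eq_one_iff.1 e)⟩
  rw [D.mem_AA hd hx]
  have e : x⁻¹ * (x * a * x⁻¹) * x = a := by group
  rw [e]; exact ha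

theorem at_self {l : M} (hl : l ∈ LL F H v0) : l ∈ II F (H := H) v0 I0 l := by
  obtain ⟨x, d, hd, hx⟩ := hl
  rw [D.mem_II hd hx, hx, lin, inv_smul_smul]
  exact I0.smul_mem d D.self

theorem at_comm {l : M} {a : H} (hl : l ∈ LL F H v0) (ha : a ∈ AA F v0 A0 l) (m : M) :
    a • m + m ∈ II F (H := H) v0 I0 l := by
  obtain ⟨x, d, hd, hx⟩ := hl
  rw [D.mem_AA hd hx] at ha
  rw [D.mem_II hd hx]
  have := D.comm ha (x⁻¹ • m)
  have e : (x⁻¹ * a * x) • x⁻¹ • m + x⁻¹ • m = x⁻¹ • (a • m + m) := by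
    rw [smul_add, smul_smul, smul_smul]
    congr 2
    group
  rwa [e] at this

theorem at_fix {l : M} {a : H} {u : M} (hl : l ∈ LL F H v0) (ha : a ∈ AA F v0 A0 l)
    (hu : u ∈ II F (H := H) v0 I0 l) : a • u = u := by
  obtain ⟨x, d, hd, hx⟩ := hl
  rw [D.mem_AA hd hx] at ha
  rw [D.mem_II hd hx] at hu
  have := D.fix ha hu
  have e : (x⁻¹ * a * x) • x⁻¹ • u = x⁻¹ • (a • u) := by
    rw [smul_smul, smul_smul]
    congr 1
    group
  rw [e] at this
  exact smul_left_cancel x⁻¹ this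

/-- conjugation into `A0` -/
theorem mem_AA_rr {l : M} {a : H} (hl : l ∈ LL F H v0) :
    a ∈ AA F v0 A0 l ↔ (rr F H v0 l)⁻¹ * a * rr F H v0 l ∈ A0 := by
  obtain ⟨c, hc, hg⟩ := rr_spec F H hl
  exact D.mem_AA hc hg

theorem at_al_mem {l : M} (hl : l ∈ LL F H v0) (m : M) : AL F v0 al0 l m ∈ AA F v0 A0 l := by
  rw [D.mem_AA_rr hl, AL]
  have e : (rr F H v0 l)⁻¹ * (rr F H v0 l * al0 ((rr F H v0 l)⁻¹ • m) * (rr F H v0 l)⁻¹) * rr F H v0 l =
      al0 ((rr F H v0 l)⁻¹ • m) := by group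
  rw [e]
  exact D.al_mem _

theorem at_al_add {l : M} (m m' : M) : AL F v0 al0 l (m + m') = AL F v0 al0 l m * AL F v0 al0 l m' := by
  unfold AL
  rw [smul_add, D.al_add]
  group

theorem at_al_surj {l : M} {a : H} (hl : l ∈ LL F H v0) (ha : a ∈ AA F v0 A0 l) : ∃ m, AL F v0 al0 l m = a := by
  rw [D.mem_AA_rr hl] at ha
  obtain ⟨m, hm⟩ := D.al_surj ha
  refine ⟨rr F H v0 l • m, ?_⟩
  rw [AL, inv_smul_smul, hm]
  group

theorem at_al_one {l m : M} : AL F v0 al0 l m = 1 ↔ al0 ((rr F H v0 l)⁻¹ • m) = 1 := conj_eq_one_iff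

theorem at_al_conj {l : M} {y : H} (hl : l ∈ LL F H v0) (hy : y • l = l) (m : M) :
    AL F v0 al0 l (y • m) = y * AL F v0 al0 l m * y⁻¹ := by
  obtain ⟨c, hc, hg⟩ := rr_spec F H hl
  unfold AL
  obtain ⟨g, hgd⟩ : ∃ g, g = rr F H v0 l := ⟨_, rfl⟩
  rw [← hgd] at hg ⊢
  have hs : (g⁻¹ * y * g) • v0 = v0 := by
    have h1 : g • v0 = c⁻¹ • l := by rw [hg, smul_smul, inv_mul_cancel₀ hc, one_smul]
    rw [mul_smul, mul_smul, h1, lin y, hy, ← h1, inv_smul_smul]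
  have h2 := D.al_conj hs (g⁻¹ • m)
  have e : (g⁻¹ * y * g) • g⁻¹ • m = g⁻¹ • y • m := by
    rw [smul_smul, smul_smul]
    congr 1
    group
  rw [e] at h2
  rw [h2]
  group

/-- action of `a ∈ A_l` in terms of `A0` -/
theorem act (g a : H) (m : M) : a • m = g • ((g⁻¹ * a * g) • g⁻¹ • m) := by
  have e : g * (g⁻¹ * a * g) * g⁻¹ = a := by group
  rw [smul_smul, smul_smul, e]

/-- action of `AL l x` in terms of `al0` -/
theorem act_AL (l m x : M) :
    AL F v0 al0 l x • m = rr F H v0 l • (al0 ((rr F H v0 l)⁻¹ • x) • (rr F H v0 l)⁻¹ • m) := by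
  unfold AL
  rw [smul_smul, smul_smul]

theorem act_AL' (l m x : M) : AL F v0 al0 l x • m + m =
    rr F H v0 l • (al0 ((rr F H v0 l)⁻¹ • x) • (rr F H v0 l)⁻¹ • m + (rr F H v0 l)⁻¹ • m) := by
  rw [D.act_AL, smul_add, smul_inv_smul]

/-- `g • v0` is a multiple of `l` -/
theorem rr_v0 {l : M} (hl : l ∈ LL F H v0) : ∃ c : F, c ≠ 0 ∧ rr F H v0 l • v0 = c • l := by
  obtain ⟨c, hc, hg⟩ := rr_spec F H hl
  refine ⟨c⁻¹, inv_ne_zero hc, ?_⟩
  have h1 : c⁻¹ • l = c⁻¹ • c • rr F H v0 l • v0 := congrArg (fun w => c⁻¹ • w) hg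
  rw [h1, smul_smul, inv_mul_cancel₀ hc, one_smul]

theorem at_al_ker {l : M} (hl : l ∈ LL F H v0) (m : M) :
    AL F v0 al0 l m = 1 ↔ ∀ a ∈ AA F v0 A0 l, ∃ c : F, a • m = m + c • l := by
  obtain ⟨c, hc, hg⟩ := D.rr_v0 hl
  rw [D.at_al_one, D.al_ker]
  obtain ⟨g, hgd⟩ : ∃ g, g = rr F H v0 l := ⟨_, rfl⟩
  constructor
  · intro h1 a ha
    rw [D.mem_AA_rr hl] at ha
    obtain ⟨d, hd⟩ := h1 _ ha
    refine ⟨d * c, ?_⟩
    rw [D.act (rr F H v0 l) a m, hd, smul_add, smul_inv_smul, lin, hg, smul_smul]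
  · intro h1 a ha
    have h2 : rr F H v0 l * a * (rr F H v0 l)⁻¹ ∈ AA F v0 A0 l := by
      rw [D.mem_AA_rr hl]
      have e : (rr F H v0 l)⁻¹ * (rr F H v0 l * a * (rr F H v0 l)⁻¹) * rr F H v0 l = a := by group
      rw [e]; exact ha
    obtain ⟨d, hd⟩ := h1 _ h2
    refine ⟨d * c⁻¹, ?_⟩
    have h4 : a • (rr F H v0 l)⁻¹ • m = (rr F H v0 l)⁻¹ • ((rr F H v0 l * a * (rr F H v0 l)⁻¹) • m) := by
      rw [smul_smul, smul_smul]
      congr 1
      group
    have h5 : (rr F H v0 l)⁻¹ • l = c⁻¹ • v0 := by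
      have h6 : v0 = c • (rr F H v0 l)⁻¹ • l := by
        calc v0 = (rr F H v0 l)⁻¹ • rr F H v0 l • v0 := (inv_smul_smul _ _).symm
          _ = c • (rr F H v0 l)⁻¹ • l := by rw [hg, lin]
      calc (rr F H v0 l)⁻¹ • l = c⁻¹ • c • (rr F H v0 l)⁻¹ • l := by
            rw [smul_smul, inv_mul_cancel₀ hc, one_smul]
        _ = c⁻¹ • v0 := by rw [← h6]
    rw [h4, hd, smul_add, lin, h5, smul_smul]

theorem at_sy {l : M} (hl : l ∈ LL F H v0) (m m' : M) :
    ∃ c : F, AL F v0 al0 l m' • m + m + (AL F v0 al0 l m • m' + m') = c • l := by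
  obtain ⟨c, hc, hg⟩ := D.rr_v0 hl
  obtain ⟨d, hd⟩ := D.sy ((rr F H v0 l)⁻¹ • m) ((rr F H v0 l)⁻¹ • m')
  refine ⟨d * c, ?_⟩
  rw [D.act_AL', D.act_AL', ← smul_add, hd, lin, hg, smul_smul]

theorem at_phl {l : M} (c : F) (e x : M) (he : AL F v0 al0 l e = 1) :
    AL F v0 al0 l (c • x) • e + e = c • (AL F v0 al0 l x • e + e) := by
  rw [D.at_al_one] at he
  rw [D.act_AL', D.act_AL', lin, D.phl c _ _ he, lin]

theorem at_bl {l : M} (hl : l ∈ LL F H v0) (c : F) (m x : M) :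
    ∃ d : F, AL F v0 al0 l (c • x) • m + m = c • (AL F v0 al0 l x • m + m) + d • l := by
  obtain ⟨c', hc', hg⟩ := D.rr_v0 hl
  obtain ⟨d, hd⟩ := D.bl c ((rr F H v0 l)⁻¹ • m) ((rr F H v0 l)⁻¹ • x)
  refine ⟨d * c', ?_⟩
  rw [D.act_AL', D.act_AL', lin, hd, smul_add, lin, lin, hg, smul_smul d c' l]

theorem at_dual {l : M} (hl : l ∈ LL F H v0) (f : M →ₗ[F] F) (hf : ∀ e, AL F v0 al0 l e = 1 → f e = 0) :
    ∃ e, AL F v0 al0 l e = 1 ∧ ∀ x, AL F v0 al0 l x • e + e = f x • l := by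
  obtain ⟨c, hc, hg⟩ := D.rr_v0 hl
  obtain ⟨e, he, hex⟩ := D.dual (f.comp (DistribSMul.toLinearMap F M (rr F H v0 l))) (fun e he => hf _ (by
    rw [D.at_al_one]
    change al0 ((rr F H v0 l)⁻¹ • rr F H v0 l • e) = 1
    rw [inv_smul_smul]; exact he))
  refine ⟨c⁻¹ • rr F H v0 l • e, ?_, fun x => ?_⟩
  · rw [D.at_al_one, lin, inv_smul_smul, D.al_ker]
    intro a ha
    obtain ⟨d, hd⟩ := (D.al_ker e).1 he a ha
    exact ⟨c⁻¹ * d, by rw [lin, hd, smul_add, smul_smul]⟩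
  · have h1 := hex ((rr F H v0 l)⁻¹ • x)
    have h2 : (f.comp (DistribSMul.toLinearMap F M (rr F H v0 l))) ((rr F H v0 l)⁻¹ • x) = f x := by
      change f (rr F H v0 l • (rr F H v0 l)⁻¹ • x) = f x
      rw [smul_inv_smul]
    rw [h2] at h1
    rw [D.act_AL', lin, inv_smul_smul, lin, ← smul_add, h1, lin, lin, hg, smul_smul, smul_smul]
    congr 1
    rw [mul_comm c⁻¹, mul_assoc, inv_mul_cancel₀ hc, mul_one]

/-! ### the facts which are not in `Loc` -/

/-- `D_x = I` -/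
theorem at_fixI (hf : ∀ u : M, (∀ a ∈ A0, a • u = u) → u ∈ I0) {l u : M} (hl : l ∈ LL F H v0)
    (h1 : ∀ a ∈ AA F v0 A0 l, a • u = u) : u ∈ II F (H := H) v0 I0 l := by
  obtain ⟨x, d, hd, hx⟩ := hl
  rw [D.mem_II hd hx]
  refine hf _ fun a ha => ?_
  have h2 : x * a * x⁻¹ ∈ AA F v0 A0 l := by
    rw [D.mem_AA hd hx]
    have e : x⁻¹ * (x * a * x⁻¹) * x = a := by group
    rw [e]; exact ha
  have h3 := h1 _ h2
  have h4 : a • x⁻¹ • u = x⁻¹ • ((x * a * x⁻¹) • u) := by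
    rw [smul_smul, smul_smul]
    congr 1
    group
  rw [h4, h3]

/-- TI -/
theorem at_ti (ht : ∀ {x a : H}, a ∈ A0 → x⁻¹ * a * x ∈ A0 → a ≠ 1 → ∃ c : F, x • v0 = c • v0) {l m : M} {a : H}
    (hl : l ∈ LL F H v0) (hm : m ∈ LL F H v0) (ha : a ∈ AA F v0 A0 l) (ham : a ∈ AA F v0 A0 m) (ha1 : a ≠ 1) :
    ∃ c : F, m = c • l := by
  obtain ⟨x, c, hc, hx⟩ := hl
  obtain ⟨y, d, hd, hy⟩ := hm
  rw [D.mem_AA hc hx] at ha
  rw [D.mem_AA hd hy] at ham
  obtain ⟨b, hb⟩ := ht (x := x⁻¹ * y) ha (by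
    have e : (x⁻¹ * y)⁻¹ * (x⁻¹ * a * x) * (x⁻¹ * y) = y⁻¹ * a * y := by group
    rw [e]; exact ham) (fun e => ha1 (by
      calc a = x * (x⁻¹ * a * x) * x⁻¹ := by group
        _ = 1 := by rw [e]; group))
  refine ⟨d * b * c⁻¹, ?_⟩
  have h1 : y • v0 = b • x • v0 := by
    rw [← lin, ← hb, smul_smul, mul_inv_cancel_left]
  rw [hy, h1, hx, smul_smul, smul_smul]
  congr 1
  rw [inv_mul_cancel_right₀ hc]

/-- THEOREM P: `N_H(A_l)` fixes the point -/
theorem at_norm (hn : ∀ {x : H}, (∀ a ∈ A0, x * a * x⁻¹ ∈ A0) → ∃ c : F, x • v0 = c • v0) {l : M} {y : H}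
    (hl : l ∈ LL F H v0) (hy : ∀ a ∈ AA F v0 A0 l, y * a * y⁻¹ ∈ AA F v0 A0 l) : ∃ c : F, y • l = c • l := by
  obtain ⟨x, c, hc, hx⟩ := hl
  obtain ⟨b, hb⟩ := hn (x := x⁻¹ * y * x) (fun a ha => by
    have h2 := hy (x * a * x⁻¹) (by
      rw [D.mem_AA hc hx]
      have e : x⁻¹ * (x * a * x⁻¹) * x = a := by group
      rw [e]; exact ha)
    rw [D.mem_AA hc hx] at h2
    have e : x⁻¹ * y * x * a * (x⁻¹ * y * x)⁻¹ = x⁻¹ * (y * (x * a * x⁻¹) * y⁻¹) * x := by group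
    rw [e]; exact h2)
  refine ⟨b, ?_⟩
  have h1 : y • x • v0 = b • x • v0 := by
    rw [← lin, ← hb, smul_smul, smul_smul]
    congr 1
    group
  rw [hx, lin, h1, smul_smul, smul_smul, mul_comm]

/-- planes -/
theorem at_plane (hp : ∀ {x : H} (c : F), x • v0 ∈ I0 → v0 + c • x • v0 = 0 ∨ v0 + c • x • v0 ∈ LL F H v0) {l m : M}
    (hl : l ∈ LL F H v0) (hm : m ∈ LL F H v0) (hml : m ∈ II F (H := H) v0 I0 l) (c : F) :
    l + c • m = 0 ∨ l + c • m ∈ LL F H v0 := by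
  obtain ⟨x, d, hd, hx⟩ := hl
  obtain ⟨y, b, hb, hy⟩ := hm
  rw [D.mem_II hd hx, hy, lin, smul_smul] at hml
  have h1 : (x⁻¹ * y) • v0 ∈ I0 := by
    have := I0.smul_mem b⁻¹ hml
    rwa [smul_smul, inv_mul_cancel₀ hb, one_smul] at this
  have h2 : l + c • m = d • x • (v0 + (d⁻¹ * c * b) • (x⁻¹ * y) • v0) := by
    rw [smul_add, smul_add, lin, smul_smul x, mul_inv_cancel_left, smul_smul d, ← hx, hy, smul_smul c b]
    congr 2
    rw [mul_assoc d⁻¹, ← mul_assoc d, mul_inv_cancel₀ hd, one_mul]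
  rw [h2]
  rcases hp (d⁻¹ * c * b) h1 with e | e
  · left; rw [e, smul_zero, smul_zero]
  · right; exact fsm_mem hd (smul_mem x e)

/-- `g⁻¹ m` for a second line vector -/
theorem exists_rep {l m : M} (hm : m ∈ LL F H v0) :
    ∃ (x : H) (c : F), c ≠ 0 ∧ (rr F H v0 l)⁻¹ • m = c • x • v0 ∧ m = c • (rr F H v0 l * x) • v0 := by
  obtain ⟨y, c, hc, rfl⟩ := hm
  refine ⟨(rr F H v0 (l : M))⁻¹ * y, c, hc, ?_, ?_⟩
  · rw [lin, mul_smul]
  · rw [mul_inv_cancel_left]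

/-- coplanar -/
theorem at_cop (hc0 : ∀ {x : H} {u : M}, x • v0 ∈ I0 → u ∈ I0 → al0 (x • u) = 1) {l m u : M} (hl : l ∈ LL F H v0)
    (hm : m ∈ LL F H v0) (hml : m ∈ II F (H := H) v0 I0 l) (hu : u ∈ II F (H := H) v0 I0 m) :
    AL F v0 al0 l u = 1 := by
  obtain ⟨d, hd, hx⟩ := rr_spec F H hl
  obtain ⟨x, c, hc, h1, h2⟩ := D.exists_rep (l := l) hm
  rw [D.mem_II hd hx, h1] at hml
  rw [D.mem_II hc h2] at hu
  rw [D.at_al_one]
  have h3 : x • v0 ∈ I0 := by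
    have := I0.smul_mem c⁻¹ hml
    rwa [smul_smul, inv_mul_cancel₀ hc, one_smul] at this
  have h4 := hc0 h3 hu
  have e : x • (rr F H v0 l * x)⁻¹ • u = (rr F H v0 l)⁻¹ • u := by
    rw [smul_smul]
    congr 1
    group
  rwa [e] at h4

theorem np_of {l m : M} (hl : l ∈ LL F H v0) (hnp : NP F l m) {x : H} {c : F}
    (hm : m = c • (rr F H v0 l * x) • v0) : NP F v0 (x • v0) := by
  obtain ⟨d, hd, hx⟩ := rr_spec F H hl
  intro b hb
  refine hnp (c * b * d⁻¹) ?_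
  have h1 : (c * b * d⁻¹) • l = (c * b * d⁻¹) • d • rr F H v0 l • v0 := congrArg (fun w => (c * b * d⁻¹) • w) hx
  rw [h1, hm, mul_smul (rr F H v0 l) x, hb, lin, smul_smul, smul_smul, inv_mul_cancel_right₀ hd]

/-- ALPHA -/
theorem at_alpha (ha : ∀ {x : H} {u : M} (c : F), c ≠ 0 → NP F v0 (x • v0) → u ∈ I0 → x⁻¹ • u ∈ I0 → u ≠ 0 →
      al0 (c • x • v0) • x • v0 = x • v0) {l m u : M} (hl : l ∈ LL F H v0)
    (hm : m ∈ LL F H v0) (hnp : NP F l m) (hul : u ∈ II F (H := H) v0 I0 l) (hum : u ∈ II F (H := H) v0 I0 m)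
    (hu : u ≠ 0) : AL F v0 al0 l m • m = m := by
  obtain ⟨d, hd, hx⟩ := rr_spec F H hl
  obtain ⟨x, c, hc, h1, h2⟩ := D.exists_rep (l := l) hm
  rw [D.mem_II hd hx] at hul
  rw [D.mem_II hc h2] at hum
  have h3 := ha c hc (D.np_of hl hnp h2) hul (by
    have e : x⁻¹ • (rr F H v0 l)⁻¹ • u = (rr F H v0 l * x)⁻¹ • u := by
      rw [smul_smul]
      congr 1
      group
    rw [e]; exact hum) (fun e => hu ((smul_eq_zero_iff_eq _).1 e))
  rw [D.act_AL, h1, lin, h3, lin, ← mul_smul, ← h2]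

/-- KAPPA -/
theorem at_far {l m : M} (hm : m ∈ LL F H v0) (h : AL F v0 al0 l m ≠ 1) :
    ∃ (x : H) (c : F), c ≠ 0 ∧ m = c • (rr F H v0 l * x) • v0 ∧ al0 (c • x • v0) ≠ 1 := by
  obtain ⟨x, c, hc, h1, h2⟩ := D.exists_rep (l := l) hm
  refine ⟨x, c, hc, h2, fun e => h ?_⟩
  rw [D.at_al_one, h1]; exact e

/-- **the record `TIq.Gen`** -/
theorem toGen (hfix : ∀ u : M, (∀ a ∈ A0, a • u = u) → u ∈ I0)
    (hti : ∀ {x a : H}, a ∈ A0 → x⁻¹ * a * x ∈ A0 → a ≠ 1 → ∃ c : F, x • v0 = c • v0)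
    (hpl : ∀ {x : H} (c : F), x • v0 ∈ I0 → v0 + c • x • v0 = 0 ∨ v0 + c • x • v0 ∈ LL F H v0)
    (hcop : ∀ {x : H} {u : M}, x • v0 ∈ I0 → u ∈ I0 → al0 (x • u) = 1)
    (halpha : ∀ {x : H} {u : M} (c : F), c ≠ 0 → NP F v0 (x • v0) → u ∈ I0 → x⁻¹ • u ∈ I0 → u ≠ 0 →
      al0 (c • x • v0) • x • v0 = x • v0) :
    Gen F (LL F H v0) (AA F v0 A0) (II F (H := H) v0 I0) (AL F v0 al0) where
  two := D.two
  lin := lin
  zero := D.zero_notMem
  gen := D.span_LL
  smul := fun x _ hl => smul_mem x hl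
  fsm := fsm_mem
  A_sm := D.at_A_sm
  I_sm := D.at_I_sm
  trans := trans
  A_conj := D.at_A_conj
  I_conj := D.at_I_conj
  sq := D.at_sq
  ne := D.at_ne
  self := D.at_self
  comm := D.at_comm
  fix := D.at_fix
  fixI := D.at_fixI hfix
  ti := D.at_ti hti
  plane := D.at_plane hpl
  cop := D.at_cop hcop
  al_mem := D.at_al_mem
  al_add := fun _ => D.at_al_add
  al_surj := D.at_al_surj
  al_conj := D.at_al_conj
  al_ker := D.at_al_ker
  sy := D.at_sy
  phl := fun _ => D.at_phl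
  bl := D.at_bl
  dual := D.at_dual
  alpha := D.at_alpha halpha

end Loc

namespace LocK

variable {F M H : Type*} [Field F] [AddCommGroup M] [Module F M] [Group H] [DistribMulAction H M]
  [SMulCommClass H F M] {v0 : M} {A0 : Subgroup H} {I0 : Submodule F M} {al0 : M → H} {Kt0 : Subgroup H}
  (D : LocK F v0 A0 I0 al0 Kt0)
include D

open Loc (lin)

theorem mem_KT {l : M} {x a : H} {c : F} (hc : c ≠ 0) (hx : l = c • x • v0) :
    a ∈ AA F v0 Kt0 l ↔ x⁻¹ * a * x ∈ Kt0 := by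
  have hl : l ∈ LL F H v0 := ⟨x, c, hc, hx⟩
  obtain ⟨d, hd, hg⟩ := rr_spec F H hl
  unfold AA
  obtain ⟨g, hgd⟩ : ∃ g, g = rr F H v0 l := ⟨_, rfl⟩
  rw [← hgd] at hg ⊢
  have h0 : a ∈ Kt0.map (MulAut.conj g).toMonoidHom ↔ g⁻¹ * a * g ∈ Kt0 := by
    rw [Subgroup.mem_map]
    constructor
    · rintro ⟨b, hb, rfl⟩
      have e : g⁻¹ * ((MulAut.conj g).toMonoidHom b) * g = b := by
        change g⁻¹ * (g * b * g⁻¹) * g = b
        group
      rw [e]; exact hb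
    · intro hb
      refine ⟨_, hb, ?_⟩
      change g * (g⁻¹ * a * g) * g⁻¹ = a
      group
  rw [h0]
  have e1 := hx.symm.trans hg
  constructor
  · intro ha
    have := D.sK (D.stab' hd hc e1.symm) ha
    have e : x⁻¹ * g * (g⁻¹ * a * g) * (x⁻¹ * g)⁻¹ = x⁻¹ * a * x := by group
    rwa [e] at this
  · intro ha
    have := D.sK (D.stab' hc hd e1) ha
    have e : g⁻¹ * x * (x⁻¹ * a * x) * (g⁻¹ * x)⁻¹ = g⁻¹ * a * g := by group
    rwa [e] at this

theorem at_Kt_sm {c : F} {l : M} (hc : c ≠ 0) (hl : l ∈ LL F H v0) : AA F v0 Kt0 (c • l) = AA F v0 Kt0 l := by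
  obtain ⟨x, d, hd, hx⟩ := hl
  ext a
  rw [D.mem_KT (mul_ne_zero hc hd) (by rw [hx, smul_smul]), D.mem_KT hd hx]

theorem at_Kt_two (l : M) : IsPGroup 2 (AA F v0 Kt0 l) := D.Kt_two.map _

theorem at_Kt_conj (y : H) {l : M} {a : H} (hl : l ∈ LL F H v0) (ha : a ∈ AA F v0 Kt0 l) :
    y * a * y⁻¹ ∈ AA F v0 Kt0 (y • l) := by
  obtain ⟨x, d, hd, hx⟩ := hl
  rw [D.mem_KT hd hx] at ha
  rw [D.mem_KT (x := y * x) hd (by rw [hx, lin, mul_smul])]
  have e : (y * x)⁻¹ * (y * a * y⁻¹) * (y * x) = x⁻¹ * a * x := by group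
  rw [e]; exact ha

theorem at_A_le_Kt {l : M} (hl : l ∈ LL F H v0) : AA F v0 A0 l ≤ AA F v0 Kt0 l := by
  obtain ⟨x, d, hd, hx⟩ := hl
  intro a ha
  rw [D.mem_AA hd hx] at ha
  rw [D.mem_KT hd hx]
  exact D.A_le_Kt ha

theorem at_Kt_fix {l : M} {t : H} (hl : l ∈ LL F H v0) (ht : t ∈ AA F v0 Kt0 l) : t • l = l := by
  obtain ⟨x, d, hd, hx⟩ := hl
  rw [D.mem_KT hd hx] at ht
  have h1 := D.Kt_fix ht
  rw [hx, lin]
  congr 1
  calc t • x • v0 = x • (x⁻¹ * t * x) • v0 := by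
        rw [smul_smul, smul_smul]
        congr 1
        group
    _ = x • v0 := by rw [h1]

theorem at_Kt_A {l : M} {t a : H} (hl : l ∈ LL F H v0) (ht : t ∈ AA F v0 Kt0 l) (ha : a ∈ AA F v0 A0 l) :
    t * a = a * t := by
  obtain ⟨x, d, hd, hx⟩ := hl
  rw [D.mem_KT hd hx] at ht
  rw [D.mem_AA hd hx] at ha
  have h1 := D.Kt_A ht ha
  calc t * a = x * ((x⁻¹ * t * x) * (x⁻¹ * a * x)) * x⁻¹ := by group
    _ = x * ((x⁻¹ * a * x) * (x⁻¹ * t * x)) * x⁻¹ := by rw [h1]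
    _ = a * t := by group

theorem at_Kt_E {l : M} {t : H} {e : M} (hl : l ∈ LL F H v0) (ht : t ∈ AA F v0 Kt0 l) (he : AL F v0 al0 l e = 1) :
    t • e + e ∈ II F (H := H) v0 I0 l := by
  obtain ⟨d, hd, hx⟩ := rr_spec F H hl
  rw [D.mem_KT hd hx] at ht
  rw [D.mem_II hd hx]
  rw [D.at_al_one] at he
  have h1 := D.Kt_E ht he
  have e1 : (rr F H v0 l)⁻¹ • (t • e + e) =
      ((rr F H v0 l)⁻¹ * t * rr F H v0 l) • (rr F H v0 l)⁻¹ • e + (rr F H v0 l)⁻¹ • e := by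
    rw [smul_add, smul_smul, smul_smul]
    congr 2
    group
  rw [e1]; exact h1

theorem at_Kt_I {l : M} {t : H} {u : M} (hl : l ∈ LL F H v0) (ht : t ∈ AA F v0 Kt0 l)
    (hu : u ∈ II F (H := H) v0 I0 l) : ∃ c : F, t • u + u = c • l := by
  obtain ⟨x, d, hd, hx⟩ := hl
  rw [D.mem_KT hd hx] at ht
  rw [D.mem_II hd hx] at hu
  obtain ⟨c, hc⟩ := D.Kt_I ht hu
  refine ⟨c * d⁻¹, ?_⟩
  have e1 : t • u + u = x • ((x⁻¹ * t * x) • x⁻¹ • u + x⁻¹ • u) := by
    rw [smul_add, smul_inv_smul, smul_smul, smul_smul]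
    congr 2
    group
  rw [e1, hc, lin, hx, smul_smul, inv_mul_cancel_right₀ hd]

theorem at_Kt_hom {l u : M} (hl : l ∈ LL F H v0) (hu : u ∈ II F (H := H) v0 I0 l) (hnp : NP F l u) :
    ∃ t ∈ AA F v0 Kt0 l, t • u = u + l := by
  obtain ⟨x, d, hd, hx⟩ := hl
  have hu' := (D.mem_II hd hx).1 hu
  -- `u' = d⁻¹ x⁻¹ u`
  have h1 : d⁻¹ • x⁻¹ • u ∈ I0 := I0.smul_mem _ hu'
  obtain ⟨t, ht, htu⟩ := D.Kt_hom h1 (fun c hc => hnp c (by
    have h2 : u = d • x • d⁻¹ • x⁻¹ • u := by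
      rw [lin, smul_smul d, mul_inv_cancel₀ hd, one_smul, smul_inv_smul]
    rw [h2, hc, hx, lin, smul_smul, smul_smul, mul_comm]))
  refine ⟨x * t * x⁻¹, ?_, ?_⟩
  · rw [D.mem_KT hd hx]
    have e : x⁻¹ * (x * t * x⁻¹) * x = t := by group
    rw [e]; exact ht
  · have h3 := congrArg (fun w => d • x • w) htu
    simp only [lin, smul_add] at h3
    rw [smul_smul d d⁻¹, mul_inv_cancel₀ hd, one_smul, smul_inv_smul, ← hx, smul_smul d d⁻¹, mul_inv_cancel₀ hd,
      one_smul] at h3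
    rw [mul_smul, mul_smul]
    exact h3

/-- planes -/
theorem pl {x : H} (c : F) (hx : x • v0 ∈ I0) : v0 + c • x • v0 = 0 ∨ v0 + c • x • v0 ∈ LL F H v0 := by
  by_cases hnp : NP F v0 (c • x • v0)
  · right
    obtain ⟨t, -, ht⟩ := D.Kt_hom (I0.smul_mem c hx) hnp
    have hc : c ≠ 0 := by
      rintro rfl
      exact hnp 0 (by rw [zero_smul, zero_smul])
    refine ⟨t * x, c, hc, ?_⟩
    rw [add_comm, ← ht, mul_smul, lin]
  · unfold NP at hnp
    push Not at hnp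
    obtain ⟨b, hb⟩ := hnp
    rw [hb]
    by_cases h0 : 1 + b = 0
    · left
      have e : v0 + b • v0 = (1 + b) • v0 := by rw [add_smul, one_smul]
      rw [e, h0, zero_smul]
    · right
      exact ⟨1, 1 + b, h0, by rw [one_smul, add_smul, one_smul]⟩

/-- **the record `TIq.GenK`** -/
theorem toGenK (hfix : ∀ u : M, (∀ a ∈ A0, a • u = u) → u ∈ I0)
    (hti : ∀ {x a : H}, a ∈ A0 → x⁻¹ * a * x ∈ A0 → a ≠ 1 → ∃ c : F, x • v0 = c • v0)
    (hcop : ∀ {x : H} {u : M}, x • v0 ∈ I0 → u ∈ I0 → al0 (x • u) = 1)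
    (halpha : ∀ {x : H} {u : M} (c : F), c ≠ 0 → NP F v0 (x • v0) → u ∈ I0 → x⁻¹ • u ∈ I0 → u ≠ 0 →
      al0 (c • x • v0) • x • v0 = x • v0) :
    GenK F (LL F H v0) (AA F v0 A0) (II F (H := H) v0 I0) (AL F v0 al0) (AA F v0 Kt0) where
  toGen := D.toGen hfix hti (fun c hx => D.pl c hx) hcop halpha
  faith := D.faith
  Kt_sm := D.at_Kt_sm
  Kt_two := fun {l} _ => D.at_Kt_two l
  Kt_conj := D.at_Kt_conj
  A_le_Kt := D.at_A_le_Kt
  Kt_fix := D.at_Kt_fix
  Kt_A := D.at_Kt_A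
  Kt_E := D.at_Kt_E
  Kt_I := D.at_Kt_I
  Kt_hom := D.at_Kt_hom

end LocK

end Cfsg.Agent.Omega.NO3S.OneQ.TIq

end

section


/-!
# NO-3S, `OneSz` (`q ≥ 4`, `n = 1`), case (N): `A_l ∩ A_m = 1` (bb OMEGA #20317 (H)), pure form

`F` a finite field of characteristic 2, `M` an `F`-module, `H` a group acting `F`-linearly on `M`;
`L` = the vectors `≠ 0` of the points `λ_l`; `A l`, `I l`, `al l` (`l ∈ L`) the data of the line `l`.
Every `D_x`, planes allowed.

* `Pre` : the record (the fields of `TIq.Gen` without `ti`, `fixI`, `cop`, `alpha`, `gen`)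
* `Hyp` : a hyperbolic pair `(l, w)` : `[λ_w, A_l] = λ_l`, `[λ_l, A_w] = λ_w`, with the facts (E)
* `Cop` : the facts (G) on coplanar points
* **`Pre.ti`** : `1 ≠ a ∈ A_l ∩ A_m` ⟹ `λ_l = λ_m`
-/

set_option autoImplicit false
set_option linter.unusedSimpArgs false
set_option linter.unusedSectionVars false

namespace Cfsg.Agent.Omega.NO3S.OneQ.Sg.T

open TIq (NP)

/-- the fields -/
structure Pre (F : Type*) {M H : Type*} [Field F] [AddCommGroup M] [Module F M] [Group H] [DistribMulAction H M]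
    (L : Set M) (A : M → Subgroup H) (I : M → Submodule F M) (al : M → M → H) : Prop where
  two : ∀ m : M, m + m = 0
  lin : ∀ (h : H) (c : F) (m : M), h • (c • m) = c • (h • m)
  zero : (0 : M) ∉ L
  smul : ∀ (h : H) {l : M}, l ∈ L → h • l ∈ L
  fsm : ∀ {c : F} {l : M}, c ≠ 0 → l ∈ L → c • l ∈ L
  A_sm : ∀ {c : F} {l : M}, c ≠ 0 → l ∈ L → A (c • l) = A l
  I_sm : ∀ {c : F} {l : M}, c ≠ 0 → l ∈ L → I (c • l) = I l
  trans : ∀ {l m : M}, l ∈ L → m ∈ L → ∃ (h : H) (c : F), c ≠ 0 ∧ h • l = c • m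
  A_conj : ∀ (h : H) {l : M} {a : H}, l ∈ L → a ∈ A l → h * a * h⁻¹ ∈ A (h • l)
  I_conj : ∀ (h : H) {l u : M}, l ∈ L → u ∈ I l → h • u ∈ I (h • l)
  sq : ∀ {l : M} {a : H}, l ∈ L → a ∈ A l → a * a = 1
  self : ∀ {l : M}, l ∈ L → l ∈ I l
  comm : ∀ {l : M} {a : H}, l ∈ L → a ∈ A l → ∀ m : M, a • m + m ∈ I l
  fix : ∀ {l : M} {a : H} {u : M}, l ∈ L → a ∈ A l → u ∈ I l → a • u = u
  /-- planes -/
  plane : ∀ {l m : M}, l ∈ L → m ∈ L → m ∈ I l → ∀ c : F, l + c • m = 0 ∨ l + c • m ∈ L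
  al_mem : ∀ {l : M}, l ∈ L → ∀ m, al l m ∈ A l
  al_add : ∀ {l : M}, l ∈ L → ∀ m m', al l (m + m') = al l m * al l m'
  al_surj : ∀ {l : M} {a : H}, l ∈ L → a ∈ A l → ∃ m, al l m = a
  al_conj : ∀ {l : M} {h : H}, l ∈ L → h • l = l → ∀ m, al l (h • m) = h * al l m * h⁻¹
  al_ker : ∀ {l : M}, l ∈ L → ∀ m, al l m = 1 ↔ ∀ a ∈ A l, ∃ c : F, a • m = m + c • l
  /-- `beta` is symmetric -/
  sy : ∀ {l : M}, l ∈ L → ∀ m m', ∃ c : F, al l m' • m + m + (al l m • m' + m') = c • l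
  /-- `beta` is `F`-linear -/
  bl : ∀ {l : M}, l ∈ L → ∀ (c : F) (m x : M), ∃ d : F, al l (c • x) • m + m = c • (al l x • m + m) + d • l
  /-- the duality `Ebar / Dbar = Hom_F(A, F)` -/
  dual : ∀ {l : M}, l ∈ L → ∀ f : M →ₗ[F] F, (∀ e, al l e = 1 → f e = 0) →
    ∃ e, al l e = 1 ∧ ∀ x, al l x • e + e = f x • l

/-- a hyperbolic pair (the points `l`, `w` span an `SL₂`-plane of `⟨A l, A w⟩`), with the facts (E) -/
structure Hyp {M H : Type*} (F : Type*) [Field F] [AddCommGroup M] [Module F M] [Group H] [DistribMulAction H M]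
    (L : Set M) (A : M → Subgroup H) (l w : M) : Prop where
  mem : w ∈ L
  /-- `[λ_l, A_w] ≤ λ_w` -/
  back : ∀ a' ∈ A w, ∃ c : F, a' • l = l + c • w
  move : ∃ a' ∈ A w, a' • l ≠ l
  /-- `B'` contains all transvections of `A_l` with axis `B` -/
  tv : ∀ a ∈ A l, a • w ≠ w → ∀ b ∈ A l, b • w = w → ∃ c' ∈ A w, c' • l = l ∧ c' * a * c'⁻¹ = a * b
  /-- `[B, B'] = 1` -/
  cent : ∀ b ∈ A l, b • w = w → ∀ c' ∈ A w, c' • l = l → b * c' = c' * b
  /-- `C_B(a') = 1` -/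
  inj : ∀ b ∈ A l, b • w = w → b ≠ 1 → ∀ a' ∈ A w, a' • l ≠ l → b * a' ≠ a' * b
  /-- `C_B'(a) = 1` -/
  inj' : ∀ b' ∈ A w, b' • l = l → b' ≠ 1 → ∀ a ∈ A l, a • w ≠ w → b' * a ≠ a * b'

/-- the facts (G) on coplanar points `l`, `m` -/
structure Cop (F : Type*) {M H : Type*} [Field F] [AddCommGroup M] [Module F M] [Group H] [DistribMulAction H M]
    (L : Set M) (A : M → Subgroup H) (I : M → Submodule F M) (al : M → M → H) : Prop where
  copA : ∀ {l m : M}, l ∈ L → m ∈ L → m ∈ I l → ∀ {a b : H}, a ∈ A l → b ∈ A m →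
    ∃ u ∈ I m, a * b * a⁻¹ * b⁻¹ = al l u
  copF : ∀ {l m : M}, l ∈ L → m ∈ L → m ∈ I l → ∀ {u u' : M}, u ∈ I m → u' ∈ I m → al l u • u' = u'
  copL : ∀ {l m : M}, l ∈ L → m ∈ L → m ∈ I l → ∀ {c : H} (d : F), c ∈ A l → c ∈ A m → l + d • m ∈ L →
    c ∈ A (l + d • m)

namespace Pre

variable {F M H : Type*} [Field F] [AddCommGroup M] [Module F M] [Group H] [DistribMulAction H M] {L : Set M}
    {A : M → Subgroup H} {I : M → Submodule F M} {al : M → M → H}

section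

variable (G : Pre F L A I al)
include G

theorem two_left (x y : M) : x + (x + y) = y := by
  rw [← add_assoc, G.two, zero_add]

theorem eq_of_add {x y : M} (h : x + y = 0) : x = y := by
  calc x = x + y + y := by rw [add_assoc, G.two, add_zero]
    _ = y := by rw [h, zero_add]

theorem ne_zero {l : M} (hl : l ∈ L) : l ≠ 0 := fun h => G.zero (h ▸ hl)

theorem np_symm {l m : M} (hl : l ∈ L) (h : NP F l m) : NP F m l := by
  intro c hc
  have hc0 : c ≠ 0 := by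
    rintro rfl
    rw [zero_smul] at hc
    exact G.ne_zero hl hc
  exact h c⁻¹ (by rw [hc, smul_smul, inv_mul_cancel₀ hc0, one_smul])

theorem inv {l : M} {a : H} (hl : l ∈ L) (ha : a ∈ A l) : a⁻¹ = a :=
  inv_eq_of_mul_eq_one_left (G.sq hl ha)

theorem A_comm {l : M} {a b : H} (hl : l ∈ L) (ha : a ∈ A l) (hb : b ∈ A l) : a * b = b * a := by
  have h := G.sq hl (mul_mem ha hb)
  calc a * b = (a * b)⁻¹ := (inv_eq_of_mul_eq_one_left h).symm
    _ = b * a := by rw [mul_inv_rev, G.inv hl ha, G.inv hl hb]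

theorem A_conj' {l : M} {a h : H} (hl : l ∈ L) (ha : a ∈ A l) (hh : h * h = 1) (hhl : h • l = l) :
    h * a * h ∈ A l := by
  have := G.A_conj h hl ha
  rwa [hhl, inv_eq_of_mul_eq_one_left hh] at this

theorem I_conj' {l u : M} {h : H} (hl : l ∈ L) (hu : u ∈ I l) (hhl : h • l = l) : h • u ∈ I l := by
  have := G.I_conj h hl hu
  rwa [hhl] at this

theorem A_fix {l : M} {a : H} (hl : l ∈ L) (ha : a ∈ A l) : a • l = l := G.fix hl ha (G.self hl)

theorem al_I_one {l u : M} (hl : l ∈ L) (hu : u ∈ I l) : al l u = 1 :=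
  (G.al_ker hl u).2 fun _ ha => ⟨0, by rw [zero_smul, add_zero]; exact G.fix hl ha hu⟩

theorem al_zero {l : M} (hl : l ∈ L) : al l 0 = 1 := by
  have := G.al_add hl 0 0
  rw [add_zero] at this
  exact (mul_eq_left.1 this.symm)

theorem al_sm_one {l e : M} (hl : l ∈ L) (c : F) (he : al l e = 1) : al l (c • e) = 1 := by
  rw [G.al_ker hl] at he ⊢
  intro a ha
  obtain ⟨d, hd⟩ := he a ha
  exact ⟨c * d, by rw [G.lin, hd, smul_add, smul_smul]⟩

/-- `Ebar_l` -/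
def E {l : M} (hl : l ∈ L) : Submodule F M where
  carrier := {e | al l e = 1}
  add_mem' := fun {a b} ha hb => by
    change al l (a + b) = 1
    rw [G.al_add hl, show al l a = 1 from ha, show al l b = 1 from hb, one_mul]
  zero_mem' := G.al_zero hl
  smul_mem' := fun c x hx => G.al_sm_one hl c hx

theorem mem_E {l : M} (hl : l ∈ L) {e : M} : e ∈ G.E hl ↔ al l e = 1 := Iff.rfl

/-- every `a ≠ 1` moves some `e ∈ E_l` by `l` -/
theorem phi {l : M} {a : H} (hl : l ∈ L) (ha : a ∈ A l) (h1 : a ≠ 1) : ∃ e, al l e = 1 ∧ a • e = e + l := by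
  obtain ⟨x, rfl⟩ := G.al_surj hl ha
  have hx : x ∉ G.E hl := h1
  obtain ⟨f, hf, hf'⟩ := Submodule.exists_le_ker_of_notMem hx
  obtain ⟨e, he, he'⟩ := G.dual hl ((f x)⁻¹ • f) (fun y hy => by
    have : y ∈ LinearMap.ker f := hf' hy
    rw [LinearMap.mem_ker] at this
    simp [this])
  refine ⟨e, he, ?_⟩
  have := he' x
  rw [LinearMap.smul_apply, smul_eq_mul, inv_mul_cancel₀ hf, one_smul] at this
  calc al l x • e = e + (al l x • e + e) := by rw [add_comm (al l x • e) e, G.two_left]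
    _ = e + l := by rw [this]

/-- congruence: `al l x = al l y` iff `al l (x + y) = 1` -/
theorem al_eq {l : M} (hl : l ∈ L) {x y : M} : al l (x + y) = 1 ↔ al l x = al l y := by
  rw [G.al_add hl]
  constructor
  · intro h
    have := eq_inv_of_mul_eq_one_left h
    rwa [G.inv hl (G.al_mem hl y)] at this
  · intro h
    rw [h, G.sq hl (G.al_mem hl y)]

/-- `beta (e, x) = 0` mod `λ_l` for `e ∈ Ebar_l` -/
theorem ker' {l : M} (hl : l ∈ L) {e : M} (he : al l e = 1) {a : H} (ha : a ∈ A l) : ∃ c : F, a • e + e = c • l := by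
  obtain ⟨c, hc⟩ := (G.al_ker hl e).1 he a ha
  exact ⟨c, by rw [hc]; rw [add_assoc, add_comm (c • l) e, G.two_left]⟩

/-- the point of `Ebar_m` -/
theorem cop_of {l m : M} {c : H} (hl : l ∈ L) (hm : m ∈ L) (hc : c ∈ A l) (hcm : c ∈ A m) (hc1 : c ≠ 1) :
    m ∈ I l := by
  obtain ⟨e, -, he⟩ := G.phi hm hcm hc1
  have := G.comm hl hc e
  rwa [he, add_assoc, add_comm m e, G.two_left] at this

/-- `F`-independence of `α_l(x)`, `α_l(y)` -/
def Ind (F : Type*) {M H : Type*} [Field F] [AddCommGroup M] [Module F M] [Group H] (al : M → M → H) (l x y : M) :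
    Prop := ∀ f g : F, al l (f • x + g • y) = 1 → f = 0 ∧ g = 0

/-- the points of `λ_l + λ_m` -/
theorem copL' (C : Cop F L A I al) {l m : M} (hl : l ∈ L) (hm : m ∈ L) (hml : m ∈ I l) {c : H} {t : F}
    (hc : c ∈ A l) (hcm : c ∈ A m) (ht : m + t • l ∈ L) : c ∈ A (m + t • l) := by
  by_cases h0 : t = 0
  · rwa [h0, zero_smul, add_zero]
  · have e : m + t • l = t • (l + t⁻¹ • m) := by
      rw [smul_add, smul_smul, mul_inv_cancel₀ h0, one_smul, add_comm]
    have e' : l + t⁻¹ • m = t⁻¹ • (m + t • l) := by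
      rw [smul_add, smul_smul, inv_mul_cancel₀ h0, one_smul, add_comm]
    have h1 : l + t⁻¹ • m ∈ L := by rw [e']; exact G.fsm (inv_ne_zero h0) ht
    rw [e, G.A_sm h0 h1]
    exact C.copL hl hm hml _ hc hcm h1

theorem pt_mem {l m : M} (hl : l ∈ L) (hm : m ∈ L) (hml : m ∈ I l) (hn : NP F l m) (t : F) : m + t • l ∈ L := by
  by_cases h0 : t = 0
  · rwa [h0, zero_smul, add_zero]
  · have e : m + t • l = t • (l + t⁻¹ • m) := by
      rw [smul_add, smul_smul, mul_inv_cancel₀ h0, one_smul, add_comm]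
    rw [e]
    rcases G.plane hl hm hml t⁻¹ with h | h
    · exfalso
      have h1 := G.eq_of_add h
      refine hn t ?_
      rw [h1, smul_smul, mul_inv_cancel₀ h0, one_smul]
    · exact G.fsm h0 h

variable (C : Cop F L A I al) (alt : ∀ {l : M}, l ∈ L → ∀ x : M, ∃ c : F, al l x • x + x = c • l)
    (ind : ∀ {l : M}, l ∈ L → ∀ i j : M, Ind F al l i j → ∀ d : F, al l j • i + i ≠ d • l)
    (hyp : ∀ {l : M}, l ∈ L → ∀ θ : M →ₗ[F] F, θ ≠ 0 → (∀ e, al l e = 1 → θ e = 0) →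
      ∃ w, Hyp F L A l w ∧ ∀ y, al l y • w = w ↔ θ y = 0)
include C alt hyp

/-- one transvection step: `c = α_l(x) ∈ A_l ∩ A_m`, `b = α_l(e)`, `[e, c] = v_m` -/
theorem step {l m e x : M} (hl : l ∈ L) (hm : m ∈ L) (hml : m ∈ I l) (hc : al l x ∈ A m)
    (he : al l x • e + e = m) (hi : Ind F al l e x) (f : F) : al l (f • e) ∈ A m := by
  have two := G.two
  have tl := G.two_left
  obtain ⟨θ, hθ, hθ'⟩ := Submodule.exists_le_ker_of_notMem (p := G.E hl ⊔ Submodule.span F {e}) (v := x) (by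
    intro hx
    obtain ⟨y, hy, z, hz, hyz⟩ := Submodule.mem_sup.1 hx
    obtain ⟨c, rfl⟩ := Submodule.mem_span_singleton.1 hz
    have h1 : al l (c • e + (1 : F) • x) = 1 := by
      rw [one_smul, ← hyz]
      have : c • e + (y + c • e) = y := by rw [add_comm y, tl]
      rw [this]; exact hy
    exact one_ne_zero (hi _ _ h1).2)
  have hθE : ∀ y, al l y = 1 → θ y = 0 := fun y hy => hθ' (Submodule.mem_sup_left hy)
  have hθe : θ e = 0 := hθ' (Submodule.mem_sup_right (Submodule.mem_span_singleton_self e))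
  obtain ⟨w, hw, hwθ⟩ := hyp hl θ (fun h0 => hθ (by rw [h0]; rfl)) hθE
  have hxw : al l x • w ≠ w := fun h => hθ ((hwθ x).1 h)
  have hfw : al l (f • e) • w = w := (hwθ _).2 (by rw [map_smul, hθe, smul_zero])
  have hew : al l e • w = w := (hwθ _).2 hθe
  obtain ⟨g, hg, hgl, hgx⟩ := hw.tv _ (G.al_mem hl x) hxw _ (G.al_mem hl (f • e)) hfw
  have hge : g * al l e * g⁻¹ = al l e := by
    rw [← hw.cent _ (G.al_mem hl e) hew g hg hgl, mul_assoc, mul_inv_cancel, mul_one]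
  -- `g • e = e + e₁`
  have h1 : al l (g • e + e) = 1 := by
    rw [G.al_eq hl, G.al_conj hl hgl, hge]
  obtain ⟨e₁, he₁⟩ : ∃ e₁, e₁ = g • e + e := ⟨_, rfl⟩
  have hge' : g • e = e + e₁ := by rw [he₁, add_comm (g • e) e, tl]
  have h1' : al l e₁ = 1 := he₁ ▸ h1
  -- `g • m = m + t • l`
  obtain ⟨d, hd⟩ := G.bl hl f e e
  obtain ⟨d', hd'⟩ := alt hl e
  have h2 : al l (f • e) • e = e + (f * d' + d) • l := by
    have : al l (f • e) • e = e + (al l (f • e) • e + e) := by rw [add_comm (al l (f • e) • e) e, tl]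
    rw [this, hd, hd', smul_smul, ← add_smul]
  have hbm : al l x * al l (f • e) ∈ A l := mul_mem (G.al_mem hl _) (G.al_mem hl _)
  obtain ⟨d₁, hd₁⟩ := G.ker' hl h1' hbm
  have h3 : g • m = m + (f * d' + d + d₁) • l := by
    have e1 : g • m = (al l x * al l (f • e)) • (e + e₁) + (e + e₁) := by
      rw [← he, smul_add, ← hge', ← hgx]
      congr 1
      rw [← mul_smul, ← mul_smul]
      congr 1
      group
    rw [e1, smul_add]
    have e2 : (al l x * al l (f • e)) • e = e + m + (f * d' + d) • l := by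
      rw [mul_smul, h2, smul_add, G.lin, G.A_fix hl (G.al_mem hl x), ← he]
      congr 1
      rw [add_comm (al l x • e) e, tl]
    have e3 : (al l x * al l (f • e)) • e₁ = e₁ + d₁ • l := by
      rw [← hd₁, add_comm ((al l x * al l (f • e)) • e₁) e₁, tl]
    rw [e2, e3]
    have : e + m + (f * d' + d) • l + (e₁ + d₁ • l) + (e + e₁) =
        (e + e) + (e₁ + e₁) + m + ((f * d' + d) • l + d₁ • l) := by abel
    rw [this, two, two, zero_add, zero_add, ← add_smul]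
  have h4 : al l x * al l (f • e) ∈ A (m + (f * d' + d + d₁) • l) := by
    rw [← h3, ← hgx]; exact G.A_conj g hm hc
  have h5 : m + (f * d' + d + d₁) • l ∈ L := by rw [← h3]; exact G.smul g hm
  have h6 : al l x * al l (f • e) ∈ A m := by
    have h7 := G.copL' C hl h5 (add_mem hml ((I l).smul_mem _ (G.self hl))) (t := f * d' + d + d₁) hbm h4
      (by rwa [add_assoc, two, add_zero])
    rwa [add_assoc, two, add_zero] at h7
  have h8 := mul_mem hc h6
  rwa [← mul_assoc, G.sq hl (G.al_mem hl x), one_mul] at h8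

/-- `F₀ = F b + F c ≤ A_m` -/
theorem F0 {l m e x : M} (hl : l ∈ L) (hm : m ∈ L) (hml : m ∈ I l) (hn : NP F l m) (hc : al l x ∈ A m)
    (he : al l x • e + e = m) (hi : Ind F al l e x) (f g : F) : al l (f • e + g • x) ∈ A m := by
  have hb : ∀ f : F, al l (f • e) ∈ A m := G.step C alt hyp hl hm hml hc he hi
  rw [G.al_add hl]
  refine mul_mem (hb f) ?_
  -- swap
  obtain ⟨d, hd⟩ := G.sy hl x e
  have h1 : al l e • x + x = m + d • l := by
    rw [← hd, he, add_comm (al l e • x + x) m, G.two_left]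
  have h2 : m + d • l ∈ L := G.pt_mem hl hm hml hn d
  have h3 : m + d • l ∈ I l := add_mem hml ((I l).smul_mem _ (G.self hl))
  have h4 : al l e ∈ A m := by
    have := hb 1
    rwa [one_smul] at this
  have h5 : al l e ∈ A (m + d • l) := G.copL' C hl hm hml (G.al_mem hl e) h4 h2
  have hi' : Ind F al l x e := fun f g h => by
    rw [add_comm] at h
    exact (hi _ _ h).symm
  have h6 := G.step C alt hyp hl h2 h3 h5 h1 hi' g
  have h7 := G.copL' C hl h2 h3 (t := d) (G.al_mem hl (g • x)) h6 (by rwa [add_assoc, G.two, add_zero])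
  rwa [add_assoc, G.two, add_zero] at h7

omit C alt hyp in
theorem ind_of (alt : ∀ {l : M}, l ∈ L → ∀ x : M, ∃ c : F, al l x • x + x = c • l) {l m e x : M} (hl : l ∈ L)
    (hn : NP F l m) (he : al l x • e + e = m) (hx : al l x ≠ 1) : Ind F al l e x := by
  have two := G.two
  have tl := G.two_left
  intro f g h
  by_cases h0 : f = 0
  · refine ⟨h0, ?_⟩
    by_contra hg
    rw [h0, zero_smul, zero_add] at h
    apply hx
    have := G.al_sm_one hl g⁻¹ h
    rwa [smul_smul, inv_mul_cancel₀ hg, one_smul] at this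
  · exfalso
    obtain ⟨d, hd⟩ := G.ker' hl h (G.al_mem hl x)
    obtain ⟨d', hd'⟩ := alt hl x
    have h1 : f • m = (d + g * d') • l := by
      have e1 : al l x • (f • e + g • x) + (f • e + g • x) = f • (al l x • e + e) + g • (al l x • x + x) := by
        rw [smul_add, G.lin, G.lin, smul_add, smul_add]; abel
      rw [e1, he, hd', smul_smul] at hd
      calc f • m = (f • m + (g * d') • l) + (g * d') • l := by rw [add_assoc, two, add_zero]
        _ = (d + g * d') • l := by rw [hd, add_smul]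
    refine hn (f⁻¹ * (d + g * d')) ?_
    rw [mul_smul, ← h1, smul_smul, inv_mul_cancel₀ h0, one_smul]

omit C hyp in
/-- `k = 2` : `M = Ebar_l + Ebar_m` -/
theorem sum_of {l m e x : M} (hl : l ∈ L) (hm : m ∈ L) (hn : NP F l m) (hA : ∀ a ∈ A l, a ∈ A m)
    (hx : al l x ≠ 1) (hspan : G.E hl ⊔ Submodule.span F {e, x} = ⊤) (y : M) :
    ∃ u v, al l u = 1 ∧ al m v = 1 ∧ y = u + v := by
  have key : ∀ a ∈ A l, a ≠ 1 → ∃ v, al m v = 1 ∧ a • v + v = m := by
    intro a ha ha1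
    obtain ⟨v, hv, hv'⟩ := G.phi hm (hA a ha) ha1
    exact ⟨v, hv, by rw [hv', add_comm v m, add_assoc, G.two, add_zero]⟩
  obtain ⟨v₁, hv₁, h₁⟩ := key _ (G.al_mem hl x) hx
  have hi₁ : Ind F al l v₁ x := G.ind_of alt hl hn h₁ hx
  have hv₁1 : al l v₁ ≠ 1 := fun h => by
    have := (hi₁ 1 0 (by rw [one_smul, zero_smul, add_zero]; exact h)).1
    exact one_ne_zero this
  obtain ⟨v₂, hv₂, h₂⟩ := key _ (G.al_mem hl v₁) hv₁1
  have hi₂ : Ind F al l v₂ v₁ := G.ind_of alt hl hn h₂ hv₁1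
  -- `v₁, v₂` span modulo `E`
  have hsp : Submodule.span F {(G.E hl).mkQ e, (G.E hl).mkQ x} = ⊤ := by
    have h1 := congrArg (Submodule.map (G.E hl).mkQ) hspan
    rw [Submodule.map_sup, Submodule.map_span, Submodule.mkQ_map_self, bot_sup_eq, Submodule.map_top,
      Submodule.range_mkQ, Set.image_pair] at h1
    exact h1
  have hfin : Module.Finite F (M ⧸ G.E hl) := ⟨by rw [← hsp]; exact Submodule.fg_span (Set.toFinite _)⟩
  have hrank : Module.finrank F (M ⧸ G.E hl) ≤ 2 := by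
    classical
    have h1 := finrank_span_finset_le_card (R := F) ({(G.E hl).mkQ e, (G.E hl).mkQ x} : Finset (M ⧸ G.E hl))
    have h2 : ((({(G.E hl).mkQ e, (G.E hl).mkQ x} : Finset (M ⧸ G.E hl)) : Set (M ⧸ G.E hl))) =
        {(G.E hl).mkQ e, (G.E hl).mkQ x} := by simp
    rw [h2, Set.finrank, hsp, finrank_top] at h1
    exact h1.trans Finset.card_le_two
  have hli : LinearIndependent F ![(G.E hl).mkQ v₂, (G.E hl).mkQ v₁] := by
    rw [LinearIndependent.pair_iff]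
    intro s t hst
    rw [← map_smul, ← map_smul, ← map_add] at hst
    exact hi₂ s t ((Submodule.Quotient.mk_eq_zero _).1 hst)
  have htop : Submodule.span F (Set.range ![(G.E hl).mkQ v₂, (G.E hl).mkQ v₁]) = ⊤ := by
    refine hli.span_eq_top_of_card_eq_finrank' ?_
    have := hli.fintype_card_le_finrank
    simp only [Fintype.card_fin] at this ⊢
    omega
  have hy : (G.E hl).mkQ y ∈ Submodule.span F (Set.range ![(G.E hl).mkQ v₂, (G.E hl).mkQ v₁]) := by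
    rw [htop]; trivial
  rw [Matrix.range_cons, Matrix.range_cons, Matrix.range_empty, Set.union_empty, Set.singleton_union,
    Submodule.mem_span_pair] at hy
  obtain ⟨s, t, hst⟩ := hy
  rw [← map_smul, ← map_smul, ← map_add] at hst
  have h3 : (G.E hl).mkQ (y - (s • v₂ + t • v₁)) = 0 := by rw [map_sub, hst, sub_self]
  have h4 : y - (s • v₂ + t • v₁) ∈ G.E hl := (Submodule.Quotient.mk_eq_zero _).1 h3
  refine ⟨y - (s • v₂ + t • v₁), s • v₂ + t • v₁, h4, ?_, by abel⟩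
  exact (G.E hm).add_mem ((G.E hm).smul_mem _ hv₂) ((G.E hm).smul_mem _ hv₁)

omit C alt hyp in
/-- `x ↦ [x, a']` is injective -/
theorem br_inj₁ {l w : M} {a' x x' : H} (hl : l ∈ L) (hw : Hyp F L A l w) (ha' : a' ∈ A w) (hal : a' • l ≠ l)
    (hx : x ∈ A l) (hxw : x • w = w) (hx' : x' ∈ A l) (hxw' : x' • w = w)
    (h : x * (a' * x * a') = x' * (a' * x' * a')) : x = x' := by
  have hxx := G.sq hl hx
  have hxx' := G.sq hl hx'
  have hcomm := G.A_comm hl hx hx'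
  by_contra hne
  have h1 : x' * x ≠ 1 := fun h1 => hne (by
    have := eq_inv_of_mul_eq_one_right h1
    rwa [G.inv hl hx'] at this)
  refine hw.inj _ (mul_mem hx' hx) (by rw [mul_smul, hxw, hxw']) h1 a' ha' hal ?_
  have h2 : x * a' * x = x' * a' * x' := by
    have h3 : x * a' * x * a' = x' * a' * x' * a' := by simpa only [mul_assoc] using h
    exact mul_right_cancel h3
  calc x' * x * a' = x' * (x * a' * x) * x := by
        rw [show x' * (x * a' * x) * x = x' * x * a' * (x * x) by group, hxx, mul_one]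
    _ = x' * (x' * a' * x') * x := by rw [h2]
    _ = a' * (x' * x) := by rw [show x' * (x' * a' * x') * x = x' * x' * a' * (x' * x) by group, hxx', one_mul]

omit C alt hyp in
theorem br_inj₂ {l w : M} {a y y' : H} (hw : Hyp F L A l w) (ha : a ∈ A l) (haw : a • w ≠ w)
    (hy : y ∈ A w) (hyl : y • l = l) (hy' : y' ∈ A w) (hyl' : y' • l = l)
    (h : a * y * a⁻¹ * y⁻¹ = a * y' * a⁻¹ * y'⁻¹) : y = y' := by
  by_contra hne
  have h1 : y'⁻¹ * y ≠ 1 := fun h1 => hne (by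
    have := eq_inv_of_mul_eq_one_right h1
    rwa [inv_inv] at this)
  have hyl'' : y'⁻¹ • l = l := by
    conv_lhs => rw [← hyl', ← mul_smul, inv_mul_cancel, one_smul]
  refine hw.inj' _ (mul_mem (inv_mem hy') hy) (by rw [mul_smul, hyl, hyl'']) h1 a ha haw ?_
  have h2 : y * a⁻¹ * y⁻¹ = y' * a⁻¹ * y'⁻¹ := by
    have h3 : a * (y * a⁻¹ * y⁻¹) = a * (y' * a⁻¹ * y'⁻¹) := by simpa only [mul_assoc] using h
    exact mul_left_cancel h3
  have h4 : y * a * y⁻¹ = y' * a * y'⁻¹ := by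
    have := congrArg (·⁻¹) h2
    simpa only [mul_inv_rev, inv_inv, mul_assoc] using this
  calc y'⁻¹ * y * a = y'⁻¹ * (y * a * y⁻¹) * y := by group
    _ = y'⁻¹ * (y' * a * y'⁻¹) * y := by rw [h4]
    _ = a * (y'⁻¹ * y) := by group

include ind in
/-- **`A_l ∩ A_m = 1`** (bb OMEGA #20317 (H)) -/
theorem ti [Finite F]
    (fold : ∀ {l m : M}, l ∈ L → m ∈ L → m ∈ I l → NP F l m → (∀ a ∈ A m, a ∈ A l) →
      (∀ y, ∃ u v, al l u = 1 ∧ al m v = 1 ∧ y = u + v) → False)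
    {l m : M} {c : H} (hl : l ∈ L) (hm : m ∈ L) (hc : c ∈ A l) (hcm : c ∈ A m) (hc1 : c ≠ 1) :
    ∃ t : F, m = t • l := by
  by_contra hn'
  have hn : NP F l m := fun t ht => hn' ⟨t, ht⟩
  have two := G.two
  have tl := G.two_left
  have hml : m ∈ I l := G.cop_of hl hm hc hcm hc1
  have hlm : l ∈ I m := G.cop_of hm hl hcm hc hc1
  obtain ⟨x, rfl⟩ := G.al_surj hl hc
  obtain ⟨e, -, he⟩ : ∃ e, al m e = 1 ∧ al l x • e = e + m := G.phi hm hcm hc1
  have he' : al l x • e + e = m := by rw [he, add_comm e m, add_assoc, two, add_zero]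
  have hi : Ind F al l e x := G.ind_of alt hl hn he' hc1
  have hF0 := G.F0 C alt hyp hl hm hml hn hcm he' hi
  by_cases hT : G.E hl ⊔ Submodule.span F {e, x} = ⊤
  · -- `k = 2`
    have hA : ∀ a ∈ A l, a ∈ A m := by
      intro a ha
      obtain ⟨y, rfl⟩ := G.al_surj hl ha
      have hy : y ∈ G.E hl ⊔ Submodule.span F {e, x} := by rw [hT]; trivial
      obtain ⟨y₀, hy₀, z, hz, rfl⟩ := Submodule.mem_sup.1 hy
      obtain ⟨f, g, rfl⟩ := Submodule.mem_span_pair.1 hz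
      rw [G.al_add hl, show al l y₀ = 1 from hy₀, one_mul]
      exact hF0 f g
    refine fold hm hl hlm (G.np_symm hl hn) hA fun y => ?_
    obtain ⟨u, v, hu, hv, e1⟩ := G.sum_of alt hl hm hn hA hc1 hT y
    exact ⟨v, u, hv, hu, by rw [e1, add_comm]⟩
  · -- `k ≥ 3`
    obtain ⟨θ, hθ, hθ'⟩ := Submodule.exists_le_ker_of_lt_top _ (lt_top_iff_ne_top.2 hT)
    obtain ⟨w, hw, hwθ⟩ := hyp hl θ hθ (fun y hy => hθ' (Submodule.mem_sup_left hy))
    have hθs : ∀ f g : F, θ (f • e + g • x) = 0 := fun f g =>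
      hθ' (Submodule.mem_sup_right (Submodule.mem_span_pair.2 ⟨f, g, rfl⟩))
    have hθe : θ e = 0 := by simpa using hθs 1 0
    have hθx : θ x = 0 := by simpa using hθs 0 1
    have hfix : ∀ f g : F, al l (f • e + g • x) • w = w := fun f g => (hwθ _).2 (hθs f g)
    have hew : al l e • w = w := (hwθ _).2 hθe
    have hxw : al l x • w = w := (hwθ _).2 hθx
    obtain ⟨y₀, hy₀⟩ : ∃ y₀, θ y₀ ≠ 0 := by
      by_contra hcon
      push Not at hcon
      exact hθ (LinearMap.ext hcon)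
    have ha := G.al_mem hl y₀
    have haw : al l y₀ • w ≠ w := fun h => hy₀ ((hwθ _).1 h)
    obtain ⟨c', hc', hcl', hca⟩ := hw.tv _ ha haw _ hc hxw
    obtain ⟨v, hv⟩ : ∃ v, v = c' • y₀ + y₀ := ⟨_, rfl⟩
    have hvw : v ∈ I w := hv ▸ G.comm hw.mem hc' y₀
    have hav : al l v = al l x := by
      rw [hv, G.al_add hl, G.al_conj hl hcl', hca, mul_assoc, ← G.A_comm hl ha hc, ← mul_assoc, G.sq hl ha, one_mul]
    obtain ⟨u, hu⟩ : ∃ u, u = al l e • v + v := ⟨_, rfl⟩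
    have huw : u ∈ I w := hu ▸ add_mem (G.I_conj' hw.mem hvw hew) hvw
    have hul : u ∈ I l := hu ▸ G.comm hl (G.al_mem hl e) v
    obtain ⟨d, hd⟩ := G.sy hl v e
    have hum : u = m + d • l := by
      rw [hav, he'] at hd
      rw [hu, ← hd, add_comm (al l e • v + v) m, tl]
    have huL : u ∈ L := hum ▸ G.pt_mem hl hm hml hn d
    have hnu : NP F l u := by
      intro t ht
      refine hn (t + d) ?_
      rw [add_smul, ← ht, hum, add_assoc, two, add_zero]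
    have hF0u : ∀ f g : F, al l (f • e + g • x) ∈ A u := fun f g => by
      rw [hum]
      exact G.copL' C hl hm hml (G.al_mem hl _) (hF0 f g) (by rw [← hum]; exact huL)
    obtain ⟨a', ha', hal'⟩ := hw.move
    have haa' := G.sq hw.mem ha'
    have hau' : a' • u = u := G.fix hw.mem ha' huw
    -- `y₁`
    have hy₁ : ∀ x₀ ∈ A l, x₀ • w = w → x₀ * (a' * x₀ * a') ∈ A w := by
      intro x₀ hx₀ hxw₀
      have := mul_mem (G.A_conj' hw.mem ha' (G.sq hl hx₀) hxw₀) ha'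
      simpa only [mul_assoc] using this
    have hy₁l : ∀ x₀ ∈ A l, x₀ • w = w → (x₀ * (a' * x₀ * a')) • l = l := by
      intro x₀ hx₀ hxw₀
      obtain ⟨t, ht⟩ := hw.back a' ha'
      have hxl := G.A_fix hl hx₀
      have haw' : a' • w = w := G.A_fix hw.mem ha'
      have h1 : x₀ • (a' • l) = a' • l := by rw [ht, smul_add, G.lin, hxl, hxw₀]
      have h2 : a' • (a' • l) = l := by rw [← mul_smul, haa', one_smul]
      rw [mul_smul, mul_smul, mul_smul, h1, h2, hxl]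
    have hy₁u : ∀ x₀ ∈ A u, x₀ * (a' * x₀ * a') ∈ A u := fun x₀ hx₀ =>
      mul_mem hx₀ (G.A_conj' huL hx₀ haa' hau')
    let X : F × F → H := fun p => al l (p.1 • e + p.2 • x)
    have hX : ∀ p, X p ∈ A l := fun p => G.al_mem hl _
    have hXw : ∀ p, X p • w = w := fun p => hfix p.1 p.2
    have hXu : ∀ p, X p ∈ A u := fun p => hF0u p.1 p.2
    have hXinj : Function.Injective X := by
      rintro ⟨f, g⟩ ⟨f', g'⟩ h
      have h1 : al l ((f • e + g • x) + (f' • e + g' • x)) = 1 := (G.al_eq hl).2 h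
      have h2 : (f • e + g • x) + (f' • e + g' • x) = (f + f') • e + (g + g') • x := by
        rw [add_smul, add_smul]; abel
      rw [h2] at h1
      obtain ⟨h3, h4⟩ := hi _ _ h1
      have h5 : (1 : F) + 1 = 0 := by
        have : ((1 : F) + 1) • l = 0 := by rw [add_smul, one_smul, two]
        exact (smul_eq_zero.1 this).resolve_right (G.ne_zero hl)
      have h6 : ∀ s t : F, s + t = 0 → s = t := fun s t hst => by
        have : t + t = 0 := by rw [show t + t = (1 + 1) * t by ring, h5, zero_mul]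
        calc s = s + (t + t) := by rw [this, add_zero]
          _ = (s + t) + t := by ring
          _ = t := by rw [hst, zero_add]
      rw [Prod.mk.injEq]
      exact ⟨h6 _ _ h3, h6 _ _ h4⟩
    let Y : F × F → H := fun p => X p * (a' * X p * a')
    have hYinj : Function.Injective Y := fun p p' h =>
      hXinj (G.br_inj₁ hl hw ha' hal' (hX p) (hXw p) (hX p') (hXw p') h)
    let Zf : F × F → H := fun p => al l y₀ * Y p * (al l y₀)⁻¹ * (Y p)⁻¹
    have hZinj : Function.Injective Zf := fun p p' h =>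
      hYinj (G.br_inj₂ hw ha haw (hy₁ _ (hX p) (hXw p)) (hy₁l _ (hX p) (hXw p)) (hy₁ _ (hX p') (hXw p'))
        (hy₁l _ (hX p') (hXw p')) h)
    have hZ : ∀ p, ∃ j ∈ I u, Zf p = al l j := fun p => C.copA hl huL hul ha (hy₁u _ (hXu p))
    choose J hJ hJ' using hZ
    have hX0 : X (0, 0) = 1 := by
      change al l ((0 : F) • e + (0 : F) • x) = 1
      rw [zero_smul, zero_smul, add_zero, G.al_zero hl]
    have hZ0 : Zf (0, 0) = 1 := by
      change al l y₀ * (X (0, 0) * (a' * X (0, 0) * a')) * (al l y₀)⁻¹ * (X (0, 0) * (a' * X (0, 0) * a'))⁻¹ = 1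
      rw [hX0, one_mul, mul_one, haa', mul_one, mul_inv_cancel, one_mul, inv_one]
    have hJ0 : al l (J (1, 0)) ≠ 1 := by
      intro h
      rw [← hJ', ← hZ0] at h
      have := hZinj h
      rw [Prod.mk.injEq] at this
      exact one_ne_zero this.1
    have hτ : ∀ p, ∃ t : F, Zf p = al l (t • J (1, 0)) := by
      intro p
      have h1 : ¬ Ind F al l (J (1, 0)) (J p) := fun h1 =>
        ind hl _ _ h1 0 (by rw [C.copF hl huL hul (hJ p) (hJ (1, 0)), two, zero_smul])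
      unfold Ind at h1
      push Not at h1
      obtain ⟨f, g, h2, h3⟩ := h1
      have hg : g ≠ 0 := by
        intro hg
        rw [hg, zero_smul, add_zero] at h2
        by_cases hf : f = 0
        · exact h3 hf hg
        · apply hJ0
          have := G.al_sm_one hl f⁻¹ h2
          rwa [smul_smul, inv_mul_cancel₀ hf, one_smul] at this
      refine ⟨g⁻¹ * f, ?_⟩
      have h4 := G.al_sm_one hl g⁻¹ h2
      rw [smul_add, smul_smul, smul_smul, inv_mul_cancel₀ hg, one_smul] at h4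
      rw [hJ']
      exact ((G.al_eq hl).1 h4).symm
    choose τ hτ' using hτ
    have hτinj : Function.Injective τ := fun p p' h => hZinj (by rw [hτ', hτ', h])
    have h1 := Nat.card_le_card_of_injective τ hτinj
    rw [Nat.card_prod] at h1
    have h2 : 1 < Nat.card F := Finite.one_lt_card
    nlinarith

end

end Pre

end Cfsg.Agent.Omega.NO3S.OneQ.Sg.T

end
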