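import Cfsg.Agent.Mrg.Omega.NO3S.OneQ.TIq.Base

section


/-!
# NO-3S, `OneSz`, the TI world, `D_x = I`: the pairing `Ebar_l × M → F` and dimensions

* `Gen.E` : `Ebar_l`; `Gen.Phi` : `Ebar_l → M → F`, `[e, al l x] = Phi e x • l`
* `Gen.fr_E`, `Gen.fr_M` : `dim E = dim I + k`, `dim M = dim E + k`, `k = dim M / E`
* `Gen.card_A_eq` : `|A l| = q ^ k`
-/

set_option autoImplicit false
set_option linter.unusedSimpArgs false
set_option linter.unusedSectionVars false

namespace Cfsg.Agent.Omega.NO3S.OneQ.TIq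

open Module

/-- the coefficient of `v` in the point `F l` -/
noncomputable def coef (F : Type*) {M : Type*} [Field F] [AddCommGroup M] [Module F M] (l v : M) : F :=
  open Classical in if h : ∃ c : F, v = c • l then h.choose else 0

theorem coef_smul {F M : Type*} [Field F] [AddCommGroup M] [Module F M] {l : M} (hl : l ≠ 0) (c : F) :
    coef F l (c • l) = c := by
  have h : ∃ d : F, c • l = d • l := ⟨c, rfl⟩
  unfold coef
  rw [dif_pos h]
  have := h.choose_spec
  have h2 : (c - h.choose) • l = 0 := by rw [sub_smul, ← this, sub_self]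
  exact (sub_eq_zero.1 ((smul_eq_zero.1 h2).resolve_right hl)).symm

theorem coef_spec {F M : Type*} [Field F] [AddCommGroup M] [Module F M] {l v : M} (h : ∃ c : F, v = c • l) :
    v = coef F l v • l := by
  unfold coef
  rw [dif_pos h]
  exact h.choose_spec

namespace Gen

variable {F M H : Type*} [Field F] [AddCommGroup M] [Module F M] [Group H] [DistribMulAction H M] {L : Set M}
    {A : M → Subgroup H} {I : M → Submodule F M} {al : M → M → H}

/-- `Ebar_l` -/
def E (G : Gen F L A I al) {l : M} (hl : l ∈ L) : Submodule F M where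
  carrier := {e | al l e = 1}
  add_mem' := fun {a b} ha hb => by
    change al l (a + b) = 1
    rw [G.al_add hl]
    rw [show al l a = 1 from ha, show al l b = 1 from hb, one_mul]
  zero_mem' := G.al_zero hl
  smul_mem' := fun c _ hx => G.al_sm_one hl c hx

theorem mem_E (G : Gen F L A I al) {l e : M} (hl : l ∈ L) : e ∈ G.E hl ↔ al l e = 1 := Iff.rfl

theorem I_le_E (G : Gen F L A I al) {l : M} (hl : l ∈ L) : I l ≤ G.E hl := fun _ hu => G.al_I_one hl hu

theorem phi_ex (G : Gen F L A I al) {l e : M} (hl : l ∈ L) (he : al l e = 1) (x : M) :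
    ∃ c : F, al l x • e + e = c • l := by
  obtain ⟨c, hc⟩ := (G.al_ker hl e).1 he _ (G.al_mem hl x)
  exact ⟨c, by rw [hc, add_comm, ← add_assoc, G.two, zero_add]⟩

/-- the pairing -/
noncomputable def Phi (G : Gen F L A I al) {l : M} (hl : l ∈ L) : G.E hl →ₗ[F] M →ₗ[F] F :=
  LinearMap.mk₂ F (fun e x => coef F l (al l x • (e : M) + e))
    (fun e e' x => by
      obtain ⟨c, hc⟩ := G.phi_ex hl e.2 x
      obtain ⟨c', hc'⟩ := G.phi_ex hl e'.2 x
      have : al l x • ((e + e' : G.E hl) : M) + ((e + e' : G.E hl) : M) = (c + c') • l := by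
        rw [Submodule.coe_add, smul_add, add_smul, ← hc, ← hc']; abel
      rw [this, hc, hc', coef_smul (G.ne_zero hl), coef_smul (G.ne_zero hl), coef_smul (G.ne_zero hl)])
    (fun d e x => by
      obtain ⟨c, hc⟩ := G.phi_ex hl e.2 x
      have : al l x • ((d • e : G.E hl) : M) + ((d • e : G.E hl) : M) = (d * c) • l := by
        rw [Submodule.coe_smul, G.lin, ← smul_add, hc, smul_smul]
      rw [this, hc, coef_smul (G.ne_zero hl), coef_smul (G.ne_zero hl), smul_eq_mul])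
    (fun e x x' => by
      obtain ⟨c, hc⟩ := G.phi_ex hl e.2 x
      obtain ⟨c', hc'⟩ := G.phi_ex hl e.2 x'
      have h1 : al l x' • (e : M) = e + c' • l := by
        rw [← hc', add_comm (al l x' • (e : M)) _, G.two_left]
      have h2 : al l x • (e : M) = e + c • l := by
        rw [← hc, add_comm (al l x • (e : M)) _, G.two_left]
      have : al l (x + x') • (e : M) + (e : M) = (c + c') • l := by
        rw [G.al_add hl, mul_smul, h1, smul_add, h2, G.lin, G.A_fix hl (G.al_mem hl x), add_smul]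
        have := G.two (e : M)
        calc (e : M) + c • l + c' • l + e = (e + e) + (c • l + c' • l) := by abel
          _ = c • l + c' • l := by rw [this, zero_add]
      rw [this, hc, hc', coef_smul (G.ne_zero hl), coef_smul (G.ne_zero hl), coef_smul (G.ne_zero hl)])
    (fun d e x => by
      obtain ⟨c, hc⟩ := G.phi_ex hl e.2 x
      have : al l (d • x) • (e : M) + (e : M) = (d * c) • l := by
        rw [G.phl hl d _ x e.2, hc, smul_smul]
      rw [this, hc, coef_smul (G.ne_zero hl), coef_smul (G.ne_zero hl), smul_eq_mul])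

theorem Phi_spec (G : Gen F L A I al) {l : M} (hl : l ∈ L) (e : G.E hl) (x : M) :
    al l x • (e : M) + e = G.Phi hl e x • l := by
  have := coef_spec (G.phi_ex hl e.2 x)
  exact this

theorem Phi_spec' (G : Gen F L A I al) {l : M} (hl : l ∈ L) (e : G.E hl) (x : M) :
    al l x • (e : M) = e + G.Phi hl e x • l := by
  rw [← G.Phi_spec hl e x, add_comm (al l x • (e : M)) _, G.two_left]

theorem Phi_eq (G : Gen F L A I al) {l : M} (hl : l ∈ L) (e : G.E hl) (x : M) {c : F}
    (h : al l x • (e : M) = e + c • l) : G.Phi hl e x = c := by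
  rw [G.Phi_spec' hl] at h
  have h1 := add_left_cancel h
  have h2 : (G.Phi hl e x - c) • l = 0 := by rw [sub_smul, h1, sub_self]
  exact sub_eq_zero.1 ((smul_eq_zero.1 h2).resolve_right (G.ne_zero hl))

theorem Phi_zero_iff (G : Gen F L A I al) {l : M} (hl : l ∈ L) (e : G.E hl) :
    G.Phi hl e = 0 ↔ (e : M) ∈ I l := by
  constructor
  · intro h
    refine G.fixI hl fun a ha => ?_
    obtain ⟨x, rfl⟩ := G.al_surj hl ha
    rw [G.Phi_spec' hl, h, LinearMap.zero_apply, zero_smul, add_zero]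
  · intro h
    ext x
    rw [LinearMap.zero_apply]
    apply G.Phi_eq hl
    rw [zero_smul, add_zero]
    exact G.fix hl (G.al_mem hl x) h

theorem Phi_surj (G : Gen F L A I al) {l : M} (hl : l ∈ L) {f : M →ₗ[F] F} (hf : G.E hl ≤ LinearMap.ker f) :
    ∃ e : G.E hl, G.Phi hl e = f := by
  obtain ⟨e, he, h⟩ := G.dual hl f (fun e he => LinearMap.mem_ker.1 (hf he))
  refine ⟨⟨e, he⟩, ?_⟩
  ext x
  apply G.Phi_eq hl
  have := h x
  change al l x • e = e + f x • l
  rw [← this, add_comm (al l x • e) e, G.two_left]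

theorem Phi_E (G : Gen F L A I al) {l : M} (hl : l ∈ L) (e : G.E hl) : G.E hl ≤ LinearMap.ker (G.Phi hl e) := by
  intro x hx
  rw [LinearMap.mem_ker]
  apply G.Phi_eq hl
  rw [show al l x = 1 from hx, one_smul, zero_smul, add_zero]

/-- the elements of `Ebar_l` with proportional functionals -/
theorem Phi_smul (G : Gen F L A I al) {l : M} (hl : l ∈ L) {e e' : G.E hl} {c : F}
    (h : G.Phi hl e = c • G.Phi hl e') : (e : M) + c • (e' : M) ∈ I l := by
  have : G.Phi hl (e - c • e') = 0 := by rw [map_sub, map_smul, h, sub_self]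
  rw [G.Phi_zero_iff hl] at this
  have h2 : ((e - c • e' : G.E hl) : M) = (e : M) + c • (e' : M) := by
    rw [Submodule.coe_sub, Submodule.coe_smul, sub_eq_add_neg, G.neg_eq]
  rwa [h2] at this

section fin

variable [Finite F] [Finite M]

theorem fr_M (G : Gen F L A I al) {l : M} (hl : l ∈ L) :
    finrank F M = finrank F (G.E hl) + finrank F (M ⧸ G.E hl) := by
  have := Submodule.finrank_quotient_add_finrank (G.E hl)
  omega

theorem fr_E (G : Gen F L A I al) {l : M} (hl : l ∈ L) :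
    finrank F (G.E hl) = finrank F (I l) + finrank F (M ⧸ G.E hl) := by
  classical
  have h1 := LinearMap.finrank_range_add_finrank_ker (G.Phi hl)
  have h2 : LinearMap.ker (G.Phi hl) = (I l).comap (G.E hl).subtype := by
    ext e
    rw [LinearMap.mem_ker, G.Phi_zero_iff hl, Submodule.mem_comap, Submodule.subtype_apply]
  have h3 : finrank F (LinearMap.ker (G.Phi hl)) = finrank F (I l) := by
    rw [h2]
    exact (Submodule.comapSubtypeEquivOfLe (G.I_le_E hl)).finrank_eq
  have h4 : finrank F (LinearMap.range (G.Phi hl)) = finrank F (M ⧸ G.E hl) := by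
    have h5 : LinearMap.range (G.Phi hl) = (G.E hl).dualAnnihilator := by
      ext f
      rw [Submodule.mem_dualAnnihilator]
      constructor
      · rintro ⟨e, rfl⟩ x hx
        exact LinearMap.mem_ker.1 (G.Phi_E hl e hx)
      · intro h
        obtain ⟨e, he⟩ := G.Phi_surj hl (f := f) fun x hx => LinearMap.mem_ker.2 (h x hx)
        exact ⟨e, he⟩
    rw [h5]
    exact (Subspace.quotEquivAnnihilator (G.E hl)).symm.finrank_eq
  omega

/-- `A l` as a quotient of `M` -/
noncomputable def quotEquiv (G : Gen F L A I al) {l : M} (hl : l ∈ L) : (M ⧸ G.E hl) ≃ A l := by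
  refine Equiv.ofBijective (Quotient.lift (fun m => (⟨al l m, G.al_mem hl m⟩ : A l)) ?_) ⟨?_, ?_⟩
  · intro a b hab
    apply Subtype.ext
    have h1 : -a + b ∈ G.E hl := QuotientAddGroup.leftRel_apply.1 hab
    rw [G.mem_E, G.neg_eq, G.al_add hl] at h1
    have h2 := inv_eq_of_mul_eq_one_right h1
    rw [G.inv hl (G.al_mem hl a)] at h2
    exact h2
  · rintro ⟨a⟩ ⟨b⟩ hab
    apply Quotient.sound
    rw [← Quotient.eq_iff_equiv]
    apply Quotient.sound
    have h1 : al l a = al l b := congrArg Subtype.val hab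
    change (QuotientAddGroup.leftRel _).r a b
    rw [QuotientAddGroup.leftRel_apply]
    change al l (-a + b) = 1
    rw [G.neg_eq, G.al_add hl, h1, G.sq hl (G.al_mem hl b)]
  · rintro ⟨a, ha⟩
    obtain ⟨m, hm⟩ := G.al_surj hl ha
    exact ⟨Quotient.mk _ m, Subtype.ext hm⟩

theorem card_A_eq (G : Gen F L A I al) {l : M} (hl : l ∈ L) :
    Nat.card (A l) = Nat.card F ^ finrank F (M ⧸ G.E hl) := by
  rw [← Nat.card_congr (G.quotEquiv hl)]
  exact Module.natCard_eq_pow_finrank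

end fin

end Gen

end Cfsg.Agent.Omega.NO3S.OneQ.TIq

end

section


/-!
# NO-3S, `OneSz`, the TI world, `D_x = I`: partial pairs (bb OMEGA #19856 (1))

* `Gen.step`, `Gen.key` : `[[b, a'], a] = p(a, a') b` in the `F`-structure of `A l`
* `Gen.exists_one`, `Gen.b3` : `[l, a'] ∈ F m + C_1`, `[m, a] ∈ F l + C_1`
* `Gen.c3` : `n ∈ A l`, `n • m = m`, `[M, n] ≤ F l + C_1` ⟹ `n = 1`
* `Gen.d3` : a partial pair has `m ∈ Ebar_l`
-/

set_option autoImplicit false
set_option linter.unusedSimpArgs false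
set_option linter.unusedSectionVars false

namespace Cfsg.Agent.Omega.NO3S.OneQ.TIq

namespace Gen

variable {F M H : Type*} [Field F] [AddCommGroup M] [Module F M] [Group H] [DistribMulAction H M] {L : Set M}
    {A : M → Subgroup H} {I : M → Submodule F M} {al : M → M → H}

section

variable (G : Gen F L A I al)
include G

/-- two elements of `A l` which agree on `Ebar_l` are equal -/
theorem A_ext {l : M} {a b : H} (hl : l ∈ L) (ha : a ∈ A l) (hb : b ∈ A l)
    (h : ∀ e, al l e = 1 → a • e = b • e) : a = b := by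
  by_contra hne
  have h1 : a * b ≠ 1 := by
    intro h1
    apply hne
    have := inv_eq_of_mul_eq_one_right h1
    rw [G.inv hl ha] at this
    exact this
  obtain ⟨e, he, h2⟩ := G.phi hl (mul_mem ha hb) h1
  rw [mul_smul, ← h e he, ← mul_smul, G.sq hl ha, one_smul] at h2
  exact G.ne_zero hl (left_eq_add.1 h2)

theorem smul_notMem {N : Submodule F M} {l : M} (hl : l ∉ N) {c : F} (h : c • l ∈ N) : c = 0 := by
  by_contra hc
  exact hl ((N.smul_mem_iff hc).1 h)

/-- the basic step -/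
theorem step {l m e : M} {a a' b β : H} {c₀ : F} (hl : l ∈ L) (hm : m ∈ L) (ha : a ∈ A l) (ha' : a' ∈ A m)
    (hb : b ∈ A l) (hbm : b • m = m) (hbe : b • e + e = c₀ • l) (hβ : β = b * (a' * b * a')) :
    ∃ c ∈ I l ⊓ I m, (β * (a * β * a)) • e + e = c₀ • (a • (a' • l + l) + (a' • l + l)) + c := by
  have two := G.two
  have tl := G.two_left
  have c1 := G.cc hl hm hb hbm ha' e
  rw [← hβ, hbe, G.lin, ← smul_add] at c1
  obtain ⟨hβm, hβl⟩ := G.bracket hm hl ha' hb hbm
  rw [← hβ] at hβm hβl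
  have c2 := G.cc hm hl hβm hβl ha e
  obtain ⟨r, hr⟩ : ∃ r, r = a' • l + l := ⟨_, rfl⟩
  rw [← hr] at c1 ⊢
  obtain ⟨c, hc⟩ : ∃ c, c = β • e + e + c₀ • r := ⟨_, rfl⟩
  rw [← hc] at c1
  have e1 : β • e + e = c₀ • r + c := by
    rw [hc]; simp only [add_comm, add_left_comm, two, tl, add_zero]
  have e2 : a • c = c := G.fix hl ha c1.1
  rw [e1, smul_add, e2, G.lin] at c2
  rw [inf_comm] at c2
  refine ⟨_, c2, ?_⟩
  rw [smul_add]
  simp only [add_assoc, add_comm, add_left_comm, two, tl, add_zero]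

/-- `[[b, a'], a] = p(a, a') b` in the `F`-structure of `A l` -/
theorem key {l m : M} {a a' b₀ : H} (hl : l ∈ L) (hm : m ∈ L) (ha' : a' ∈ A m) (hal : a' • l ≠ l)
    (hb₀ : b₀ ∈ A l) (hb1 : b₀ ≠ 1) (hbm : b₀ • m = m) (ha : a ∈ A l) :
    ∃ p : F, (∃ c ∈ I l ⊓ I m, a • (a' • l + l) + (a' • l + l) = p • l + c) ∧
      ∀ x β, al l x • m = m → β = al l x * (a' * al l x * a') → β * (a * β * a) = al l (p • x) := by
  have two := G.two
  have tl := G.two_left
  have hlm : l ∉ I m := fun h => hal (G.fix hm ha' h)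
  obtain ⟨e, he, he'⟩ := G.phi hl hb₀ hb1
  have hbe : b₀ • e + e = (1 : F) • l := by
    rw [he', one_smul]; simp only [add_comm, add_left_comm, two, tl, add_zero]
  obtain ⟨c, hc, h1⟩ := G.step hl hm ha ha' hb₀ hbm hbe rfl
  obtain ⟨hβm, hβl⟩ := G.bracket hm hl ha' hb₀ hbm
  obtain ⟨hβ2, -⟩ := G.bracket hl hm ha hβm hβl
  obtain ⟨p, hp⟩ := (G.al_ker hl e).1 he _ hβ2
  obtain ⟨r, hr⟩ : ∃ r, r = a' • l + l := ⟨_, rfl⟩
  rw [← hr] at h1 ⊢
  have h2 : a • r + r = p • l + c := by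
    rw [hp, one_smul] at h1
    have : p • l = a • r + r + c := by
      rw [← h1]; simp only [add_assoc, add_comm, add_left_comm, two, tl, add_zero]
    rw [this]; simp only [add_assoc, add_comm, add_left_comm, two, tl, add_zero]
  refine ⟨p, ⟨c, hc, h2⟩, fun x β hx hβ => ?_⟩
  obtain ⟨hxm, hxl⟩ := G.bracket hm hl ha' (G.al_mem hl x) hx
  rw [← hβ] at hxm hxl
  obtain ⟨hx2, -⟩ := G.bracket hl hm ha hxm hxl
  refine G.A_ext hl hx2 (G.al_mem hl _) fun f hf => ?_
  obtain ⟨c₀, h3⟩ := G.phi_ex hl hf x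
  obtain ⟨c', hc', h4⟩ := G.step hl hm ha ha' (G.al_mem hl x) hx h3 hβ
  rw [← hr, h2] at h4
  obtain ⟨c₂, h5⟩ := (G.al_ker hl f).1 hf _ hx2
  have h6 := G.phl hl p f x hf
  rw [h3] at h6
  have h7 : (c₂ - c₀ * p) • l ∈ I m := by
    have : (c₂ - c₀ * p) • l = c₀ • c + c' := by
      rw [h5] at h4
      have h8 : c₂ • l = c₀ • (p • l + c) + c' := by
        rw [← h4]; simp only [add_assoc, add_comm, add_left_comm, two, tl, add_zero]
      rw [sub_smul, h8, smul_add, smul_smul]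
      abel
    rw [this]
    exact add_mem ((I m).smul_mem _ hc.2) hc'.2
  have h8 := sub_eq_zero.1 (G.smul_notMem hlm h7)
  have h9 : al l (p • x) • f = f + (p • c₀ • l) := by
    rw [← h6]; simp only [add_assoc, add_comm, add_left_comm, two, tl, add_zero]
  rw [h5, h9, h8, smul_smul, mul_comm]

/-- there is `a` with `p(a, a') = 1` -/
theorem exists_one [Finite F] {l m x₀ : M} {a' b₀ : H} (hl : l ∈ L) (hm : m ∈ L) (ha' : a' ∈ A m)
    (hal : a' • l ≠ l) (hb₀ : b₀ ∈ A l) (hb1 : b₀ ≠ 1) (hbm : b₀ • m = m) (hx₀ : al l x₀ • m ≠ m) :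
    ∃ a ∈ A l, (∃ c ∈ I l ⊓ I m, a • (a' • l + l) + (a' • l + l) = l + c) ∧
      ∀ b β, b ∈ A l → b • m = m → β = b * (a' * b * a') → β * (a * β * a) = b := by
  classical
  let P : F → F := fun c => (G.key hl hm ha' hal hb₀ hb1 hbm (G.al_mem hl (c • x₀))).choose
  have hP := fun c : F => (G.key hl hm ha' hal hb₀ hb1 hbm (G.al_mem hl (c • x₀))).choose_spec
  let S : Set F := {c | ∀ x, al l x • m = m → al l (c • x) • m = m}
  have hPS : ∀ c, P c ∈ S := by
    intro c x hx
    have h1 := (hP c).2 x _ hx rfl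
    change al l (P c • x) • m = m
    rw [← h1]
    obtain ⟨hxm, hxl⟩ := G.bracket hm hl ha' (G.al_mem hl x) hx
    exact (G.bracket hl hm (G.al_mem hl _) hxm hxl).2
  have hone : (1 : F) ∈ S := fun x hx => by rw [one_smul]; exact hx
  have hadd : ∀ c ∈ S, ∀ d ∈ S, c + d ∈ S := by
    intro c hc d hd x hx
    rw [add_smul, G.al_add hl, mul_smul, hd x hx, hc x hx]
  have hmul : ∀ c ∈ S, ∀ d ∈ S, c * d ∈ S := by
    intro c hc d hd x hx
    rw [mul_smul]
    exact hc _ (hd x hx)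
  have hinv : ∀ c ∈ S, c ≠ 0 → c⁻¹ ∈ S := by
    intro c hc hc0
    let f : S → S := fun s => ⟨c * s, hmul c hc s s.2⟩
    have hf : Function.Injective f := fun s t hst =>
      Subtype.ext (mul_left_cancel₀ hc0 (congrArg Subtype.val hst))
    obtain ⟨s, hs⟩ := (Finite.injective_iff_surjective.1 hf) ⟨1, hone⟩
    have h1 : c * s = 1 := congrArg Subtype.val hs
    rw [← eq_inv_of_mul_eq_one_right h1]
    exact s.2
  obtain ⟨x₁, hx₁⟩ := G.al_surj hl hb₀
  have hinj : ∀ c ∈ S, ∀ d ∈ S, P c = P d → c = d := by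
    intro c hc d hd hcd
    have h1 := (hP c).2 x₁ _ (hx₁ ▸ hbm) rfl
    have h2 := (hP d).2 x₁ _ (hx₁ ▸ hbm) rfl
    have hcd' : (G.key hl hm ha' hal hb₀ hb1 hbm (G.al_mem hl (c • x₀))).choose =
      (G.key hl hm ha' hal hb₀ hb1 hbm (G.al_mem hl (d • x₀))).choose := hcd
    rw [hcd', ← h2, hx₁] at h1
    obtain ⟨β, hβ⟩ : ∃ β, β = b₀ * (a' * b₀ * a') := ⟨_, rfl⟩
    rw [← hβ] at h1
    have hβ1 : β ≠ 1 := hβ ▸ G.br_ne hl hm ha' hal hb₀ hb1
    have hβm : β ∈ A m := hβ ▸ (G.bracket hm hl ha' hb₀ hbm).1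
    obtain ⟨p, hp⟩ : ∃ p, p = al l (c • x₀) := ⟨_, rfl⟩
    obtain ⟨s, hs⟩ : ∃ s, s = al l (d • x₀) := ⟨_, rfl⟩
    have hpA : p ∈ A l := hp ▸ G.al_mem hl _
    have hsA : s ∈ A l := hs ▸ G.al_mem hl _
    rw [← hp, ← hs] at h1
    have h3 : p * β * p = s * β * s := mul_left_cancel h1
    have h4 : s * p * β = β * (s * p) := by
      calc s * p * β = s * (p * β * p) * p := by
            have := G.sq hl hpA
            calc s * p * β = s * p * β * (p * p) := by rw [this, mul_one]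
              _ = _ := by group
        _ = s * (s * β * s) * p := by rw [h3]
        _ = (s * s) * β * (s * p) := by group
        _ = β * (s * p) := by rw [G.sq hl hsA, one_mul]
    have h5 := G.cent hm hβm hβ1 (G.sq hl (mul_mem hsA hpA)) h4
    by_contra hne
    have h6 : d + c ≠ 0 := by
      intro h0
      apply hne
      have h7 : (d + c) • l = 0 := by rw [h0, zero_smul]
      rw [add_smul] at h7
      have h8 := G.eq_of_add h7
      have h9 : (c - d) • l = 0 := by rw [sub_smul, h8, sub_self]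
      exact sub_eq_zero.1 ((smul_eq_zero.1 h9).resolve_right (G.ne_zero hl))
    have h7 : al l ((d + c) • x₀) • m = m := by
      rw [add_smul, G.al_add hl, ← hp, ← hs]; exact h5
    have h8 := hinv _ (hadd d hd c hc) h6 _ h7
    rw [smul_smul, inv_mul_cancel₀ h6, one_smul] at h8
    exact hx₀ h8
  let f : S → S := fun s => ⟨P s, hPS s⟩
  have hf : Function.Injective f := fun s t hst =>
    Subtype.ext (hinj s s.2 t t.2 (congrArg Subtype.val hst))
  obtain ⟨s, hs⟩ := (Finite.injective_iff_surjective.1 hf) ⟨1, hone⟩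
  have h1 : P s = 1 := congrArg Subtype.val hs
  have h2 := hP s
  have h1' : (G.key hl hm ha' hal hb₀ hb1 hbm (G.al_mem hl ((s : F) • x₀))).choose = 1 := h1
  rw [h1'] at h2
  obtain ⟨⟨c, hc, h3⟩, h4⟩ := h2
  refine ⟨al l ((s : F) • x₀), G.al_mem hl _, ⟨c, hc, ?_⟩, fun b β hb hbm' hβ => ?_⟩
  · rw [h3, one_smul]
  · obtain ⟨x, hx⟩ := G.al_surj hl hb
    have h5 := h4 x β (hx ▸ hbm') (hx ▸ hβ)
    rw [h5, one_smul, hx]

/-- `l ^ (a' a) = m` -/
theorem r_eq [Finite F] [Finite H] {l m : M} {a' b₀ : H} (hl : l ∈ L) (hm : m ∈ L) (hlm : NP F l m)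
    (hex : ∃ a ∈ A l, a • m ≠ m) (ha' : a' ∈ A m) (hal : a' • l ≠ l) (hb₀ : b₀ ∈ A l) (hb1 : b₀ ≠ 1)
    (hbm : b₀ • m = m) : ∃ d : F, d ≠ 0 ∧ ∃ c ∈ I l ⊓ I m, a' • l + l = d • m + c := by
  have two := G.two
  have tl := G.two_left
  obtain ⟨a₀, ha₀, ha₀m⟩ := hex
  obtain ⟨x₀, rfl⟩ := G.al_surj hl ha₀
  obtain ⟨a, ha, ⟨c, hc, h1⟩, h2⟩ := G.exists_one hl hm ha' hal hb₀ hb1 hbm ha₀m
  obtain ⟨β, hβ⟩ : ∃ β, β = b₀ * (a' * b₀ * a') := ⟨_, rfl⟩
  have h3 := h2 b₀ β hb₀ hbm hβ
  have hβ1 : β ≠ 1 := hβ ▸ G.br_ne hl hm ha' hal hb₀ hb1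
  obtain ⟨hβm, hβl⟩ := G.bracket hm hl ha' hb₀ hbm
  rw [← hβ] at hβm hβl
  have h4 := G.bb_comm hl hm hlm hb₀ hbm hβm hβl
  have haa := G.sq hl ha
  have haa' := G.sq hm ha'
  have hbb := G.sq hl hb₀
  have hββ := G.sq hm hβm
  have h5 : a * β * a = a' * b₀ * a' := by
    calc a * β * a = β * β * (a * β * a) := by rw [hββ, one_mul]
      _ = β * (β * (a * β * a)) := by group
      _ = b₀ * β := by rw [h3, h4]
      _ = b₀ * b₀ * (a' * b₀ * a') := by rw [hβ]; group
      _ = a' * b₀ * a' := by rw [hbb, one_mul]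
  have h6 : (a * a') * b₀ * (a * a')⁻¹ = β := by
    rw [mul_inv_rev, G.inv hl ha, G.inv hm ha']
    calc a * a' * b₀ * (a' * a) = a * (a' * b₀ * a') * a := by group
      _ = a * a * β * (a * a) := by rw [← h5]; group
      _ = β := by rw [haa, one_mul, mul_one]
  have h7 := G.A_conj (a * a') hl hb₀
  rw [h6] at h7
  obtain ⟨d, h8⟩ := G.ti (G.smul _ hl) hm h7 hβm hβ1
  obtain ⟨r, hr⟩ : ∃ r, r = a' • l + l := ⟨_, rfl⟩
  rw [← hr] at h1 ⊢
  have e1 : a' • l = l + r := by rw [hr]; simp only [add_comm, add_left_comm, two, tl, add_zero]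
  have e2 : a • r = r + (l + c) := by rw [← h1]; simp only [add_comm, add_left_comm, two, tl, add_zero]
  have e3 : (a * a') • l = r + c := by
    rw [mul_smul, e1, smul_add, e2, G.A_fix hl ha]
    simp only [add_assoc, add_comm, add_left_comm, two, tl, add_zero]
  rw [e3] at h8
  have hd : d ≠ 0 := by
    rintro rfl
    rw [zero_smul] at h8
    exact G.ne_zero hm h8
  refine ⟨d⁻¹, inv_ne_zero hd, c, hc, ?_⟩
  rw [h8, smul_smul, inv_mul_cancel₀ hd, one_smul]
  simp only [add_assoc, add_comm, add_left_comm, two, tl, add_zero]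

/-- (3b) -/
theorem b3 [Finite F] [Finite H] {l m : M} {b₀ : H} (hl : l ∈ L) (hm : m ∈ L) (hlm : NP F l m)
    (hex : ∃ a ∈ A l, a • m ≠ m) (hb₀ : b₀ ∈ A l) (hb1 : b₀ ≠ 1) (hbm : b₀ • m = m) :
    ∀ a ∈ A l, ∃ p : F, ∃ c ∈ I l ⊓ I m, a • m + m = p • l + c := by
  have two := G.two
  have tl := G.two_left
  intro a ha
  obtain ⟨a₀, ha₀, ha₀m⟩ := id hex
  obtain ⟨a', ha', hal⟩ := G.exists_move hl hm ha₀ ha₀m
  obtain ⟨d, hd, c, hc, h1⟩ := G.r_eq hl hm hlm hex ha' hal hb₀ hb1 hbm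
  obtain ⟨p, ⟨c', hc', h2⟩, -⟩ := G.key hl hm ha' hal hb₀ hb1 hbm ha
  refine ⟨d⁻¹ * p, d⁻¹ • c', Submodule.smul_mem _ _ hc', ?_⟩
  have h3 : m = d⁻¹ • ((a' • l + l) + c) := by
    rw [h1]
    have : d • m + c + c = d • m := by simp only [add_assoc, add_comm, add_left_comm, two, tl, add_zero]
    rw [this, smul_smul, inv_mul_cancel₀ hd, one_smul]
  obtain ⟨r, hr⟩ : ∃ r, r = a' • l + l := ⟨_, rfl⟩
  rw [← hr] at h2 h3
  have h4 : a • c = c := G.fix hl ha hc.1
  calc a • m + m = d⁻¹ • (a • r + c) + d⁻¹ • (r + c) := by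
        rw [h3, G.lin, smul_add, h4]
    _ = d⁻¹ • (a • r + r) := by
        rw [← smul_add]
        congr 1
        simp only [add_assoc, add_comm, add_left_comm, two, tl, add_zero]
    _ = _ := by rw [h2, smul_add, smul_smul]

/-- (3c) -/
theorem c3 {l m : M} {n a' : H} (hl : l ∈ L) (hm : m ∈ L) (ha' : a' ∈ A m) (hal : a' • l ≠ l) (hn : n ∈ A l)
    (hnm : n • m = m) (hall : ∀ m₀, ∃ c ∈ I l ⊓ I m, ∃ d : F, n • m₀ + m₀ = c + d • l) : n = 1 := by
  have two := G.two
  have tl := G.two_left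
  by_contra hn1
  have haa := G.sq hm ha'
  have hnn := G.sq hl hn
  -- `n` does not centralise `a'`
  have hna : ¬ a' * n = n * a' := fun h => hal (G.cent hl hn hn1 haa h)
  have hc1 : ∀ c ∈ I l ⊓ I m, al m c = 1 := fun c hc => G.al_I_one hm hc.2
  -- `l` is not in `E m`
  have hlE : al m l ≠ 1 := by
    intro h1
    obtain ⟨p, hp⟩ := G.al_surj hm ha'
    obtain ⟨c, hc, d, h2⟩ := hall p
    have h3 : al m (n • p + p) = 1 := by
      rw [h2, G.al_add hm, hc1 c hc, G.al_sm_one hm d h1, one_mul]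
    rw [G.al_add hm, G.al_conj hm hnm, hp, G.inv hl hn] at h3
    apply hna
    calc a' * n = (n * a' * n * a') * (a' * n) := by rw [h3, one_mul]
      _ = n * a' * n * (a' * a') * n := by group
      _ = n * a' * (n * n) := by rw [haa]; group
      _ = n * a' := by rw [hnn, mul_one]
  have h2 : n * a' * n ∈ A m := G.A_conj' hm ha' hnn hnm
  have h3 : a' * (n * a' * n) ∈ A m := mul_mem ha' h2
  have h4 : a' * (n * a' * n) ≠ 1 := by
    intro h
    apply hna
    calc a' * n = (a' * (n * a' * n))  * (a' * n) := by rw [h, one_mul]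
      _ = (n * a' * n) * a' * (a' * n) := by rw [G.A_comm hm ha' h2]
      _ = n * a' * n * (a' * a') * n := by group
      _ = n * a' * (n * n) := by rw [haa]; group
      _ = n * a' := by rw [hnn, mul_one]
  obtain ⟨e, he1, he⟩ := G.phi hm h3 h4
  obtain ⟨c, hc, d, h5⟩ := hall e
  have h6 : al m (n • e + e) = 1 := by
    rw [G.al_add hm, G.al_conj hm hnm, he1]
    group
  have hd : d = 0 := by
    by_contra hd
    apply hlE
    rw [h5, G.al_add hm, hc1 c hc, one_mul] at h6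
    have := G.al_sm_one hm d⁻¹ h6
    rwa [smul_smul, inv_mul_cancel₀ hd, one_smul] at this
  have h7 : n • e = e + c := by
    rw [hd, zero_smul, add_zero] at h5
    rw [← h5]; simp only [add_assoc, add_comm, add_left_comm, two, tl, add_zero]
  have h8 : n • c = c := G.fix hl hn hc.1
  have h9 : a' • c = c := G.fix hm ha' hc.2
  have h10 : a' • m = m := G.A_fix hm ha'
  have h11 : (a' * (n * a' * n)) • e = e := by
    obtain ⟨d', h⟩ := (G.al_ker hm e).1 he1 a' ha'
    rw [mul_smul, mul_smul, mul_smul, h7, smul_add, h9, h]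
    simp only [smul_add, G.lin, h7, h8, hnm, h9, h10, h]
    simp only [add_assoc, add_comm, add_left_comm, two, tl, add_zero]
  rw [h11] at he
  exact G.ne_zero hm (left_eq_add.1 he)

/-- a partial pair has `m ∈ Ebar_l` -/
theorem d3 [Finite F] [Finite H] {l m : M} {b₀ : H} (hl : l ∈ L) (hm : m ∈ L) (hlm : NP F l m)
    (hex : ∃ a ∈ A l, a • m ≠ m) (hb₀ : b₀ ∈ A l) (hb1 : b₀ ≠ 1) (hbm : b₀ • m = m) : al l m = 1 := by
  have two := G.two
  have tl := G.two_left
  have h0 := G.b3 hl hm hlm hex hb₀ hb1 hbm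
  by_cases hC : ∃ u ∈ I l ⊓ I m, u ≠ 0
  · obtain ⟨u, hu, hu0⟩ := hC
    have h1 := G.alpha hl hm hlm hu.1 hu.2 hu0
    obtain ⟨a₀, ha₀, ha₀m⟩ := id hex
    obtain ⟨a', ha', hal⟩ := G.exists_move hl hm ha₀ ha₀m
    refine G.c3 hl hm ha' hal (G.al_mem hl m) h1 fun m₀ => ?_
    obtain ⟨d, h2⟩ := G.sy hl m m₀
    obtain ⟨p, c, hc, h3⟩ := h0 _ (G.al_mem hl m₀)
    rw [h3] at h2
    refine ⟨c, hc, p + d, ?_⟩
    have h4 : al l m • m₀ + m₀ = p • l + c + d • l := by
      rw [← h2]; simp only [add_assoc, add_comm, add_left_comm, two, tl, add_zero]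
    rw [h4, add_smul]
    simp only [add_assoc, add_comm, add_left_comm]
  · push Not at hC
    rw [G.al_ker hl]
    intro a ha
    obtain ⟨p, c, hc, h3⟩ := h0 a ha
    rw [hC c hc, add_zero] at h3
    refine ⟨p, ?_⟩
    rw [← h3]; simp only [add_assoc, add_comm, add_left_comm, two, tl, add_zero]

/-- a partial pair: all `m + c l` are conjugate to `m` under `A l` -/
theorem d3_move {l m : M} (hl : l ∈ L) (hex : ∃ a ∈ A l, a • m ≠ m) (h : al l m = 1) (c : F) :
    ∃ a ∈ A l, a • m = m + c • l := by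
  have two := G.two
  have tl := G.two_left
  obtain ⟨a, ha, ham⟩ := hex
  obtain ⟨x, rfl⟩ := G.al_surj hl ha
  obtain ⟨p, hp⟩ := G.phi_ex hl h x
  have hp0 : p ≠ 0 := by
    rintro rfl
    rw [zero_smul] at hp
    exact ham (G.eq_of_add hp)
  refine ⟨al l ((c * p⁻¹) • x), G.al_mem hl _, ?_⟩
  have h1 := G.phl hl (c * p⁻¹) m x h
  rw [hp, smul_smul, mul_assoc, inv_mul_cancel₀ hp0, mul_one] at h1
  rw [← h1]; simp only [add_assoc, add_comm, add_left_comm, two, tl, add_zero]

/-- the other side of a partial pair -/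
theorem part_symm' [Finite H] {l m : M} {b₀ : H} (hl : l ∈ L) (hm : m ∈ L)
    (hex : ∃ a ∈ A l, a • m ≠ m) (hb₀ : b₀ ∈ A l) (hb1 : b₀ ≠ 1) (hbm : b₀ • m = m) :
    (∃ a' ∈ A m, a' • l ≠ l) ∧ ∃ b' ∈ A m, b' ≠ 1 ∧ b' • l = l := by
  obtain ⟨a₀, ha₀, ha₀m⟩ := hex
  exact ⟨G.exists_move hl hm ha₀ ha₀m, G.part_symm hl hm hb₀ hb1 hbm⟩

/-- `(1a)`: `al l (I m) ≤ B` -/
theorem al_I {l m i : M} {b' : H} (hl : l ∈ L) (hm : m ∈ L) (hb' : b' ∈ A m) (hb1 : b' ≠ 1) (hbl : b' • l = l)
    (hi : i ∈ I m) : al l i • m = m := by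
  refine G.cent hm hb' hb1 (G.sq hl (G.al_mem hl i)) ?_
  have h1 := G.al_conj hl hbl i
  rw [G.fix hm hb' hi] at h1
  calc al l i * b' = b' * al l i * b'⁻¹ * b' := by rw [← h1]
    _ = b' * al l i := by group

end

end Gen

end Cfsg.Agent.Omega.NO3S.OneQ.TIq

end

section


/-!
# NO-3S, `OneSz`, the TI world, `D_x = I`: `k ≥ 2` is impossible, part 1 (bb OMEGA #19856 (2), #19449 (B3), (B4))

* `Gen.fr_k`, `Gen.fr_I` : the dimensions do not depend on the line
* `Gen.opp`, `Gen.opp_I` : `m ∉ Ebar_l` ⟹ opposite and `Ibar_l ∩ Ibar_m = 0`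
* `Gen.line_mem` : `m ∈ Ebar_l` ⟹ `l + c m ∈ L ∪ 0` (`k ≥ 2`)
* `Gen.b3dim` : partial pairs: `dim Ibar = k + dim C_1`, `Ibar_l ≤ [M, A_l] + C_1`
* `Gen.b4` : partial pairs: `C_1 ∩ L = ∅`
-/

set_option autoImplicit false
set_option linter.unusedSimpArgs false
set_option linter.unusedSectionVars false

namespace Cfsg.Agent.Omega.NO3S.OneQ.TIq

open Module

namespace Gen

variable {F M H : Type*} [Field F] [AddCommGroup M] [Module F M] [Group H] [DistribMulAction H M] {L : Set M}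
    {A : M → Subgroup H} {I : M → Submodule F M} {al : M → M → H}

/-- opposite points exist -/
theorem exists_opp (G : Gen F L A I al) {l : M} (hl : l ∈ L) : ∃ m ∈ L, al l m ≠ 1 := by
  by_contra hcon
  push Not at hcon
  have h1 : Submodule.span F L ≤ G.E hl := Submodule.span_le.2 fun m hm => hcon m hm
  rw [G.gen] at h1
  obtain ⟨a, ha, ha1⟩ := G.ne hl
  obtain ⟨x, rfl⟩ := G.al_surj hl ha
  exact ha1 (h1 (Submodule.mem_top (x := x)))

theorem np_of_E (G : Gen F L A I al) {l m : M} (hl : l ∈ L) (h : al l m ≠ 1) : NP F l m := by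
  rintro c rfl
  exact h (G.al_I_one hl ((I l).smul_mem c (G.self hl)))

theorem np_of_I (G : Gen F L A I al) {l m : M} (hl : l ∈ L) (h : m ∉ I l) : NP F l m := by
  rintro c rfl
  exact h ((I l).smul_mem c (G.self hl))

section fin

variable [Finite F] [Finite M] [Finite H]

/-- `m ∉ Ebar_l` ⟹ opposite -/
theorem opp (G : Gen F L A I al) {l m : M} (hl : l ∈ L) (hm : m ∈ L) (h : al l m ≠ 1) {b : H} (hb : b ∈ A l)
    (hbm : b • m = m) : b = 1 := by
  by_contra hb1
  apply h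
  by_cases hex : ∃ a ∈ A l, a • m ≠ m
  · exact G.d3 hl hm (G.np_of_E hl h) hex hb hb1 hbm
  · push Not at hex
    exact G.al_I_one hl (G.fixI hl hex)

theorem opp_I (G : Gen F L A I al) {l m : M} (hl : l ∈ L) (hm : m ∈ L) (h : al l m ≠ 1) : I l ⊓ I m = ⊥ := by
  rw [eq_bot_iff]
  intro u hu
  rw [Submodule.mem_bot]
  by_contra hu0
  exact h (G.opp hl hm h (G.al_mem hl m) (G.alpha hl hm (G.np_of_E hl h) hu.1 hu.2 hu0))

theorem fr_k (G : Gen F L A I al) {l m : M} (hl : l ∈ L) (hm : m ∈ L) :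
    finrank F (M ⧸ G.E hl) = finrank F (M ⧸ G.E hm) := by
  have h1 := G.card_A_eq hl
  have h2 := G.card_A_eq hm
  rw [le_antisymm (G.card_A hl hm) (G.card_A hm hl), h2] at h1
  exact (Nat.pow_right_injective (Finite.one_lt_card (α := F)) h1).symm

theorem fr_I (G : Gen F L A I al) {l m : M} (hl : l ∈ L) (hm : m ∈ L) :
    finrank F (I l) = finrank F (I m) := by
  have h1 := G.fr_k hl hm
  have h2 := G.fr_M hl
  have h3 := G.fr_M hm
  have h4 := G.fr_E hl
  have h5 := G.fr_E hm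
  omega

/-- `dim ker f ≥ dim M - 1` -/
theorem ker_ge (f : M →ₗ[F] F) : finrank F M ≤ finrank F (LinearMap.ker f) + 1 := by
  have h1 := LinearMap.finrank_range_add_finrank_ker f
  have h2 : finrank F (LinearMap.range f) ≤ finrank F F := Submodule.finrank_le _
  rw [finrank_self] at h2
  omega

theorem ker_le {f : M →ₗ[F] F} (hf : f ≠ 0) : finrank F (LinearMap.ker f) + 1 ≤ finrank F M := by
  have h1 := LinearMap.finrank_range_add_finrank_ker f
  have h2 : finrank F (LinearMap.range f) ≠ 0 := by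
    intro h
    exact hf (LinearMap.range_eq_bot.1 (Submodule.finrank_eq_zero.1 h))
  omega

/-- `k ≥ 2` : every `e ∈ Ebar_l` is fixed by some `b ≠ 1` in `A l` -/
theorem ex_fix (G : Gen F L A I al) {l e : M} (hl : l ∈ L) (hk : 2 ≤ finrank F (M ⧸ G.E hl)) (he : al l e = 1) :
    ∃ b ∈ A l, b ≠ 1 ∧ b • e = e := by
  by_contra hcon
  push Not at hcon
  have h1 : LinearMap.ker (G.Phi hl ⟨e, he⟩) ≤ G.E hl := by
    intro x hx
    by_contra hxE
    apply hcon _ (G.al_mem hl x) hxE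
    have := G.Phi_spec' hl ⟨e, he⟩ x
    rw [LinearMap.mem_ker.1 hx, zero_smul, add_zero] at this
    exact this
  have h2 := Submodule.finrank_mono h1
  have h3 := ker_ge (G.Phi hl ⟨e, he⟩)
  have h4 := G.fr_M hl
  omega

/-- partial pairs (`k ≥ 2`) are those with `m ∈ Ebar_l`, `m ∉ Ibar_l` -/
theorem pex (G : Gen F L A I al) {l m : M} (hl : l ∈ L) (hI : m ∉ I l) : ∃ a ∈ A l, a • m ≠ m := by
  by_contra hcon
  push Not at hcon
  exact hI (G.fixI hl hcon)

theorem psymm (G : Gen F L A I al) {l m : M} (hl : l ∈ L) (hm : m ∈ L) (hk : 2 ≤ finrank F (M ⧸ G.E hl))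
    (hE : al l m = 1) (hI : m ∉ I l) : al m l = 1 ∧ l ∉ I m := by
  obtain ⟨b, hb, hb1, hbm⟩ := G.ex_fix hl hk hE
  obtain ⟨h1, b', hb', hb1', hbl'⟩ := G.part_symm' hl hm (G.pex hl hI) hb hb1 hbm
  exact ⟨G.d3 hm hl (G.np_symm hl hm (G.np_of_I hl hI)) h1 hb' hb1' hbl', fun h => hI (G.I_symm hm hl h)⟩

/-- `m ∈ Ebar_l` ⟹ `l + c m ∈ L ∪ 0` -/
theorem line_mem (G : Gen F L A I al) {l m : M} (hl : l ∈ L) (hm : m ∈ L) (hk : 2 ≤ finrank F (M ⧸ G.E hl))
    (hE : al l m = 1) (c : F) : l + c • m = 0 ∨ l + c • m ∈ L := by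
  by_cases hI : m ∈ I l
  · exact G.plane hl hm hI c
  · right
    obtain ⟨h1, h2⟩ := G.psymm hl hm hk hE hI
    obtain ⟨a, -, ha⟩ := G.d3_move hm (G.pex hm h2) h1 c
    rw [← ha]
    exact G.smul a hl

/-- `Ibar_l ≤ ..`, `i ≤ 2 k` -/
theorem i_le (G : Gen F L A I al) {l : M} (hl : l ∈ L) : finrank F (I l) ≤ 2 * finrank F (M ⧸ G.E hl) := by
  obtain ⟨m, hm, h⟩ := G.exists_opp hl
  have h1 := G.opp_I hl hm h
  have h2 := Submodule.finrank_sup_add_finrank_inf_eq (I l) (I m)
  have h3 : finrank F (I l ⊔ I m : Submodule F M) ≤ finrank F M := Submodule.finrank_le _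
  rw [h1, finrank_bot] at h2
  have h4 := G.fr_I hl hm
  have h5 := G.fr_M hl
  have h6 := G.fr_E hl
  omega

/-- `[M, A_l]` -/
def R (_G : Gen F L A I al) (l : M) : Submodule F M := Submodule.span F {w | ∃ a ∈ A l, ∃ x : M, w = a • x + x}

theorem R_mem (G : Gen F L A I al) {l a : _} (ha : a ∈ A l) (x : M) : a • x + x ∈ G.R l :=
  Submodule.subset_span ⟨a, ha, x, rfl⟩

theorem self_R (G : Gen F L A I al) {l : M} (hl : l ∈ L) : l ∈ G.R l := by
  obtain ⟨a, ha, ha1⟩ := G.ne hl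
  obtain ⟨e, -, he⟩ := G.phi hl ha ha1
  have := G.R_mem ha e
  rw [he] at this
  have h2 : e + l + e = l := by
    rw [add_comm e l, add_assoc, G.two, add_zero]
  rwa [h2] at this

/-- `[m, al l x]` mod `N`, linear in `x` -/
noncomputable def Bt (G : Gen F L A I al) {l : M} (hl : l ∈ L) (m : M) (N : Submodule F M) (hN : l ∈ N) :
    M →ₗ[F] M ⧸ N where
  toFun x := Submodule.Quotient.mk (al l x • m + m)
  map_add' x y := by
    rw [← Submodule.Quotient.mk_add]
    congr 1
    have h1 := G.comm hl (G.al_mem hl y) m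
    have h2 := G.fix hl (G.al_mem hl x) h1
    rw [smul_add] at h2
    rw [G.al_add hl, mul_smul]
    have h3 : al l x • al l y • m = (al l y • m + m) + al l x • m := by
      rw [← h2, add_assoc, G.two, add_zero]
    rw [h3]
    abel
  map_smul' c x := by
    rw [RingHom.id_apply, ← Submodule.Quotient.mk_smul]
    rw [Submodule.Quotient.eq]
    obtain ⟨d, hd⟩ := G.bl hl c m x
    rw [hd]
    have : c • (al l x • m + m) + d • l - c • (al l x • m + m) = d • l := by abel
    rw [this]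
    exact N.smul_mem _ hN

theorem Bt_apply (G : Gen F L A I al) {l : M} (hl : l ∈ L) (m : M) (N : Submodule F M) (hN : l ∈ N) (x : M) :
    G.Bt hl m N hN x = Submodule.Quotient.mk (al l x • m + m) := rfl

theorem Bt_zero (G : Gen F L A I al) {l : M} (hl : l ∈ L) (m : M) (N : Submodule F M) (hN : l ∈ N) (x : M) :
    G.Bt hl m N hN x = 0 ↔ al l x • m + m ∈ N := by
  rw [Bt_apply, Submodule.Quotient.mk_eq_zero]

/-- (B3), the upper bound -/
theorem b3up (G : Gen F L A I al) {l m : M} (hl : l ∈ L) (hm : m ∈ L) (hk : 2 ≤ finrank F (M ⧸ G.E hl))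
    (hE : al l m = 1) (hI : m ∉ I l) :
    finrank F (I l) ≤ finrank F (M ⧸ G.E hl) + finrank F (I l ⊓ I m : Submodule F M) := by
  have two := G.two
  have tl := G.two_left
  obtain ⟨b, hb, hb1, hbm⟩ := G.ex_fix hl hk hE
  obtain ⟨h1, b', hb', hb1', hbl'⟩ := G.part_symm' hl hm (G.pex hl hI) hb hb1 hbm
  obtain ⟨-, hlm⟩ := G.psymm hl hm hk hE hI
  obtain ⟨φ, hφ⟩ : ∃ φ, φ = G.Phi hl ⟨m, hE⟩ := ⟨_, rfl⟩
  have hφ0 : φ ≠ 0 := by
    rw [hφ, Ne, G.Phi_zero_iff]
    exact hI
  -- `S ≤ K_m`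
  have hS : I l ⊔ I m ⊔ G.E hl ≤ LinearMap.ker φ := by
    refine sup_le (sup_le ?_ ?_) ?_
    · exact (G.I_le_E hl).trans (hφ ▸ G.Phi_E hl _)
    · intro u hu
      rw [LinearMap.mem_ker, hφ]
      apply G.Phi_eq hl
      rw [zero_smul, add_zero]
      exact G.al_I hl hm hb' hb1' hbl' hu
    · exact hφ ▸ G.Phi_E hl _
  -- `S ∩ E_l ≤ I_l + F m`
  have hSE : (I l ⊔ I m) ⊓ G.E hl ≤ I l ⊔ Submodule.span F {m} := by
    rintro e ⟨heS, heE⟩
    obtain ⟨u, hu, w, hw, rfl⟩ := Submodule.mem_sup.1 heS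
    obtain ⟨ψ, hψ⟩ : ∃ ψ, ψ = G.Phi hl ⟨u + w, heE⟩ := ⟨_, rfl⟩
    have hker : LinearMap.ker φ ≤ LinearMap.ker ψ := by
      intro x hx
      have hxm : al l x • m = m := by
        have := G.Phi_spec' hl ⟨m, hE⟩ x
        rw [← hφ, LinearMap.mem_ker.1 hx, zero_smul, add_zero] at this
        exact this
      have h2 := G.Phi_spec hl ⟨u + w, heE⟩ x
      rw [← hψ] at h2
      rw [LinearMap.mem_ker]
      apply G.smul_notMem hlm
      rw [← h2]
      change al l x • (u + w) + (u + w) ∈ I m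
      rw [smul_add, G.fix hl (G.al_mem hl x) hu]
      have h3 : u + al l x • w + (u + w) = al l x • w + w := by
        simp only [add_assoc, add_comm, add_left_comm, two, tl, add_zero]
      rw [h3]
      exact add_mem (G.I_conj' hm hw hxm) hw
    obtain ⟨c, hc⟩ : ∃ c : F, ψ = c • φ := by
      obtain ⟨x₀, hx₀⟩ : ∃ x₀, φ x₀ ≠ 0 := by
        by_contra hcon
        push Not at hcon
        exact hφ0 (LinearMap.ext hcon)
      refine ⟨ψ x₀ * (φ x₀)⁻¹, LinearMap.ext fun x => ?_⟩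
      have h4 : x - (φ x * (φ x₀)⁻¹) • x₀ ∈ LinearMap.ker φ := by
        rw [LinearMap.mem_ker, map_sub, map_smul, smul_eq_mul, mul_assoc, inv_mul_cancel₀ hx₀, mul_one, sub_self]
      have h5 := hker h4
      rw [LinearMap.mem_ker, map_sub, map_smul, smul_eq_mul, sub_eq_zero] at h5
      rw [h5, LinearMap.smul_apply, smul_eq_mul]
      ring
    rw [hψ, hφ] at hc
    have h6 := G.Phi_smul hl hc
    change u + w + c • m ∈ I l at h6
    have h7 : u + w = (u + w + c • m) + c • m := by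
      simp only [add_assoc, add_comm, add_left_comm, two, tl, add_zero]
    rw [h7]
    exact Submodule.add_mem_sup h6 (Submodule.smul_mem _ _ (Submodule.mem_span_singleton_self m))
  have h8 := Submodule.finrank_sup_add_finrank_inf_eq (I l ⊔ I m) (G.E hl)
  have h9 := Submodule.finrank_sup_add_finrank_inf_eq (I l) (I m)
  have h10 := Submodule.finrank_mono hS
  have h11 := Submodule.finrank_mono hSE
  have h12 := ker_le hφ0
  have h13 : finrank F (I l ⊔ Submodule.span F {m} : Submodule F M) ≤ finrank F (I l) + 1 := by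
    have h14 := Submodule.finrank_sup_add_finrank_inf_eq (I l) (Submodule.span F {m})
    have h15 := finrank_span_singleton (K := F) (G.ne_zero hm)
    omega
  have h16 := G.fr_M hl
  have h17 := G.fr_E hl
  have h18 := G.fr_I hl hm
  omega

/-- (3c) for `n` with `[m₁, n] ∈ F l + C_1` -/
theorem n_one (G : Gen F L A I al) {l m m₁ x : M} (hl : l ∈ L) (hm : m ∈ L)
    (hE : al l m = 1) (hm₁ : al l m₁ • m ≠ m) (hx : al l x • m = m)
    (h : al l x • m₁ + m₁ ∈ Submodule.span F {l} ⊔ (I l ⊓ I m)) : al l x = 1 := by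
  have two := G.two
  have tl := G.two_left
  obtain ⟨a', ha', hal⟩ := G.exists_move hl hm (G.al_mem hl m₁) hm₁
  obtain ⟨n, hn⟩ : ∃ n, n = al l x := ⟨_, rfl⟩
  have hnA : n ∈ A l := hn ▸ G.al_mem hl x
  rw [← hn] at hx h ⊢
  refine G.c3 hl hm ha' hal hnA hx fun m₀ => ?_
  suffices hmem : n • m₀ + m₀ ∈ Submodule.span F {l} ⊔ (I l ⊓ I m) by
    obtain ⟨y, hy, c, hc, e⟩ := Submodule.mem_sup.1 hmem
    obtain ⟨d, rfl⟩ := Submodule.mem_span_singleton.1 hy
    exact ⟨c, hc, d, by rw [← e, add_comm]⟩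
  -- the submodule of good vectors
  let N : Submodule F M :=
    { carrier := {y | n • y + y ∈ Submodule.span F {l} ⊔ (I l ⊓ I m)}
      add_mem' := fun {a b} ha hb => by
        change n • (a + b) + (a + b) ∈ Submodule.span F {l} ⊔ (I l ⊓ I m)
        have : n • (a + b) + (a + b) = (n • a + a) + (n • b + b) := by rw [smul_add]; abel
        rw [this]
        exact add_mem ha hb
      zero_mem' := by
        change n • (0 : M) + 0 ∈ Submodule.span F {l} ⊔ (I l ⊓ I m)
        rw [smul_zero, add_zero]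
        exact zero_mem _
      smul_mem' := fun c y hy => by
        change n • (c • y) + c • y ∈ Submodule.span F {l} ⊔ (I l ⊓ I m)
        rw [G.lin, ← smul_add]
        exact Submodule.smul_mem _ _ hy }
  change m₀ ∈ N
  -- `K_m ≤ N`
  have hK : ∀ x₀, al l x₀ • m = m → x₀ ∈ N := by
    intro x₀ h0
    obtain ⟨b, -, -, hb'm, hb'l, hbb⟩ := G.surj hl hm (G.al_mem hl m₁) hm₁ ha' hal (G.al_mem hl x₀) h0
    obtain ⟨b', hb'e⟩ : ∃ b', b' = b * (a' * b * a') := ⟨_, rfl⟩
    rw [← hb'e] at hb'm hb'l hbb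
    obtain ⟨c₀, hc₀⟩ : ∃ c₀, c₀ = b' • m₁ + m₁ := ⟨_, rfl⟩
    have hc₀m : c₀ ∈ I m := hc₀ ▸ G.comm hm hb'm m₁
    have h1 : al l c₀ = al l x₀ := by
      rw [hc₀, G.al_add hl, G.al_conj hl hb'l, G.inv hm hb'm, ← hbb]
      group
    have h2 : al l (x₀ + c₀) = 1 := by
      rw [G.al_add hl, h1, G.sq hl (G.al_mem hl x₀)]
    obtain ⟨d, h3⟩ := (G.al_ker hl _).1 h2 n hnA
    have h4 : n • c₀ + c₀ ∈ I l ⊓ I m :=
      ⟨G.comm hl hnA c₀, add_mem (G.I_conj' hm hc₀m hx) hc₀m⟩
    change n • x₀ + x₀ ∈ Submodule.span F {l} ⊔ (I l ⊓ I m)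
    have h5 : n • x₀ + x₀ = d • l + (n • c₀ + c₀) := by
      rw [smul_add] at h3
      calc n • x₀ + x₀ = (n • x₀ + n • c₀) + (x₀ + c₀) + (n • c₀ + c₀) := by
            simp only [add_assoc, add_comm, add_left_comm, two, tl, add_zero]
        _ = _ := by
            rw [h3]
            simp only [add_assoc, add_comm, add_left_comm, two, tl, add_zero]
    rw [h5]
    exact Submodule.add_mem_sup (Submodule.smul_mem _ _ (Submodule.mem_span_singleton_self l)) h4
  obtain ⟨φ, hφ⟩ : ∃ φ, φ = G.Phi hl ⟨m, hE⟩ := ⟨_, rfl⟩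
  have hφm₁ : φ m₁ ≠ 0 := by
    intro h0
    apply hm₁
    have := G.Phi_spec' hl ⟨m, hE⟩ m₁
    rw [← hφ, h0, zero_smul, add_zero] at this
    exact this
  have h6 : m₀ - (φ m₀ * (φ m₁)⁻¹) • m₁ ∈ N := by
    apply hK
    have := G.Phi_spec' hl ⟨m, hE⟩ (m₀ - (φ m₀ * (φ m₁)⁻¹) • m₁)
    rw [← hφ, map_sub, map_smul, smul_eq_mul, mul_assoc, inv_mul_cancel₀ hφm₁, mul_one, sub_self, zero_smul,
      add_zero] at this
    exact this
  have h7 : m₁ ∈ N := h
  have := N.add_mem h6 (N.smul_mem (φ m₀ * (φ m₁)⁻¹) h7)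
  rwa [sub_add_cancel] at this

/-- (B3) -/
theorem b3dim (G : Gen F L A I al) {l m : M} (hl : l ∈ L) (hm : m ∈ L) (hk : 2 ≤ finrank F (M ⧸ G.E hl))
    (hE : al l m = 1) (hI : m ∉ I l) :
    finrank F (I l) = finrank F (M ⧸ G.E hl) + finrank F (I l ⊓ I m : Submodule F M) ∧
      I l ≤ G.R l ⊔ (I l ⊓ I m) := by
  have two := G.two
  have tl := G.two_left
  have hup := G.b3up hl hm hk hE hI
  obtain ⟨-, hlm⟩ := G.psymm hl hm hk hE hI
  obtain ⟨a₁, ha₁, ha₁m⟩ := G.pex hl hI
  obtain ⟨m₁, rfl⟩ := G.al_surj hl ha₁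
  obtain ⟨φ, hφ⟩ : ∃ φ, φ = G.Phi hl ⟨m, hE⟩ := ⟨_, rfl⟩
  have hφ0 : φ ≠ 0 := by
    rw [hφ, Ne, G.Phi_zero_iff]
    exact hI
  have hKm : ∀ x, φ x = 0 → al l x • m = m := by
    intro x hx
    have := G.Phi_spec' hl ⟨m, hE⟩ x
    rw [← hφ, hx, zero_smul, add_zero] at this
    exact this
  let N : Submodule F M := Submodule.span F {l} ⊔ (I l ⊓ I m)
  have hlN : l ∈ N := (le_sup_left : _ ≤ N) (Submodule.mem_span_singleton_self l)
  have hNI : N ≤ I l := sup_le (Submodule.span_le.2 (by rintro x rfl; exact G.self hl)) inf_le_left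
  let T : LinearMap.ker φ →ₗ[F] M ⧸ N := (G.Bt hl m₁ N hlN).comp (LinearMap.ker φ).subtype
  have h1 := LinearMap.finrank_range_add_finrank_ker T
  have h2 : LinearMap.ker T = (G.E hl).comap (LinearMap.ker φ).subtype := by
    ext x
    rw [LinearMap.mem_ker, Submodule.mem_comap]
    change G.Bt hl m₁ N hlN (x : M) = 0 ↔ al l (x : M) = 1
    rw [G.Bt_zero hl]
    constructor
    · intro h
      exact G.n_one hl hm hE ha₁m (hKm x x.2) h
    · intro h
      rw [h, one_smul, two]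
      exact zero_mem _
  have hEK : G.E hl ≤ LinearMap.ker φ := hφ ▸ G.Phi_E hl _
  have h3 : finrank F (LinearMap.ker T) = finrank F (G.E hl) := by
    rw [h2]
    exact (Submodule.comapSubtypeEquivOfLe hEK).finrank_eq
  have h4 : LinearMap.range T ≤ (I l).map N.mkQ := by
    rintro _ ⟨x, rfl⟩
    exact ⟨_, G.comm hl (G.al_mem hl (x : M)) m₁, rfl⟩
  have h5 : finrank F ((I l).map N.mkQ) + finrank F N = finrank F (I l) := by
    have h6 := LinearMap.finrank_range_add_finrank_ker (N.mkQ.comp (I l).subtype)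
    have h7 : LinearMap.range (N.mkQ.comp (I l).subtype) = (I l).map N.mkQ := by
      rw [LinearMap.range_comp, Submodule.range_subtype]
    have h8 : LinearMap.ker (N.mkQ.comp (I l).subtype) = N.comap (I l).subtype := by
      rw [LinearMap.ker_comp, Submodule.ker_mkQ]
    rw [h7, h8, (Submodule.comapSubtypeEquivOfLe hNI).finrank_eq] at h6
    exact h6
  have h9 : finrank F N = 1 + finrank F (I l ⊓ I m : Submodule F M) := by
    have h10 := Submodule.finrank_sup_add_finrank_inf_eq (Submodule.span F {l}) (I l ⊓ I m)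
    have h11 : Submodule.span F {l} ⊓ (I l ⊓ I m) = ⊥ := by
      rw [eq_bot_iff]
      rintro x ⟨hx, hx'⟩
      obtain ⟨d, rfl⟩ := Submodule.mem_span_singleton.1 hx
      rw [G.smul_notMem hlm hx'.2, zero_smul]
      exact zero_mem _
    rw [h11, finrank_bot, add_zero, finrank_span_singleton (G.ne_zero hl)] at h10
    exact h10
  have h12 := Submodule.finrank_mono h4
  have h13 := ker_ge φ
  have h14 := G.fr_M hl
  have h15 := G.fr_E hl
  have h16 : finrank F (I l) = finrank F (M ⧸ G.E hl) + finrank F (I l ⊓ I m : Submodule F M) := by omega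
  refine ⟨h16, fun u hu => ?_⟩
  have h17 : LinearMap.range T = (I l).map N.mkQ := Submodule.eq_of_le_of_finrank_le h4 (by omega)
  have h18 : N.mkQ u ∈ LinearMap.range T := h17 ▸ ⟨u, hu, rfl⟩
  obtain ⟨x, hx⟩ := h18
  have h19 : al l (x : M) • m₁ + m₁ - u ∈ N := (Submodule.Quotient.eq N).1 hx
  have hNR : N ≤ G.R l ⊔ (I l ⊓ I m) :=
    sup_le ((Submodule.span_le.2 (by rintro x rfl; exact G.self_R hl)).trans le_sup_left) le_sup_right
  have h20 : u = (al l (x : M) • m₁ + m₁) - (al l (x : M) • m₁ + m₁ - u) := by abel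
  rw [h20]
  exact sub_mem ((le_sup_left : G.R l ≤ _) (G.R_mem (G.al_mem hl _) m₁)) (hNR h19)

/-- (B0) -/
theorem R_le (G : Gen F L A I al) {l p : M} (hl : l ∈ L) (hp : p ∈ L) (hlp : NP F l p) (h : p ∈ I l) :
    G.R l ≤ I p := by
  have two := G.two
  have tl := G.two_left
  have hlp' := G.I_symm hl hp h
  refine Submodule.span_le.2 ?_
  rintro _ ⟨a, ha, x, rfl⟩
  refine G.fixI hp fun a' ha' => ?_
  obtain ⟨w, hw⟩ : ∃ w, w = a • x + x := ⟨_, rfl⟩
  obtain ⟨w', hw'⟩ : ∃ w', w' = a' • x + x := ⟨_, rfl⟩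
  have hwI : w ∈ I l := hw ▸ G.comm hl ha x
  have hwI' : w' ∈ I p := hw' ▸ G.comm hp ha' x
  obtain ⟨c, h1⟩ := (G.al_ker hp w).1 (G.cop hp hl hlp' hwI) a' ha'
  obtain ⟨d, h2⟩ := (G.al_ker hl w').1 (G.cop hl hp h hwI') a ha
  have h3 := G.bb_comm hl hp hlp ha (G.fix hl ha h) ha' (G.fix hp ha' hlp')
  have e1 : a' • x = x + w' := by rw [hw']; simp only [add_assoc, add_comm, add_left_comm, two, tl, add_zero]
  have e2 : a • x = x + w := by rw [hw]; simp only [add_assoc, add_comm, add_left_comm, two, tl, add_zero]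
  rw [← hw]
  have h4 : a' • w = w + d • l := by
    calc a' • w = (a' * a) • x + a' • x := by rw [hw, smul_add, mul_smul]
      _ = a • (x + w') + (x + w') := by rw [← h3, mul_smul, e1]
      _ = w + d • l := by
        rw [smul_add, h2, e2]
        simp only [add_assoc, add_comm, add_left_comm, two, tl, add_zero]
  rw [h4] at h1
  have h5 := add_left_cancel h1
  by_cases hc : c = 0
  · rw [h4, h5, hc, zero_smul, add_zero]
  · exfalso
    exact hlp (c⁻¹ * d) (by rw [mul_smul, h5, smul_smul, inv_mul_cancel₀ hc, one_smul])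

/-- (B4) : `C_1 ∩ L = ∅` -/
theorem b4 (G : Gen F L A I al) {l m p : M} (hl : l ∈ L) (hm : m ∈ L) (hk : 2 ≤ finrank F (M ⧸ G.E hl))
    (hE : al l m = 1) (hI : m ∉ I l) (hp : p ∈ L) (hpl : p ∈ I l) (hpm : p ∈ I m) : False := by
  obtain ⟨hE', hI'⟩ := G.psymm hl hm hk hE hI
  have hk' : 2 ≤ finrank F (M ⧸ G.E hm) := by rw [← G.fr_k hl hm]; exact hk
  obtain ⟨h1, h2⟩ := G.b3dim hl hm hk hE hI
  obtain ⟨h3, h4⟩ := G.b3dim hm hl hk' hE' hI'
  have hlp : NP F l p := by
    rintro c rfl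
    have hc : c ≠ 0 := by
      rintro rfl
      exact G.ne_zero hp (zero_smul _ _)
    exact hI' (((I m).smul_mem_iff hc).1 hpm)
  have hmp : NP F m p := by
    rintro c rfl
    have hc : c ≠ 0 := by
      rintro rfl
      exact G.ne_zero hp (zero_smul _ _)
    exact hI (((I l).smul_mem_iff hc).1 hpl)
  let R' : Submodule F M := G.R l ⊔ G.R m ⊔ Submodule.span F {p}
  have h5 : R' ≤ I p := sup_le (sup_le (G.R_le hl hp hlp hpl) (G.R_le hm hp hmp hpm))
    (Submodule.span_le.2 (by rintro x rfl; exact G.self hp))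
  have h6 : I l ⊔ I m ≤ R' ⊔ (I l ⊓ I m) := by
    refine sup_le (h2.trans (sup_le_sup_right (le_sup_left.trans le_sup_left) _)) ?_
    rw [inf_comm (I l)]
    exact h4.trans (sup_le_sup_right (le_sup_right.trans le_sup_left) _)
  have h7 := Submodule.finrank_mono h6
  have h8 := Submodule.finrank_mono h5
  have h9 := Submodule.finrank_sup_add_finrank_inf_eq (I l) (I m)
  have h10 := Submodule.finrank_sup_add_finrank_inf_eq R' (I l ⊓ I m)
  have h11 : 1 ≤ finrank F (R' ⊓ (I l ⊓ I m) : Submodule F M) := by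
    have h12 : Submodule.span F {p} ≤ R' ⊓ (I l ⊓ I m) :=
      Submodule.span_le.2 (by
        rintro x rfl
        exact ⟨(le_sup_right : _ ≤ R') (Submodule.mem_span_singleton_self x), hpl, hpm⟩)
    have h13 := Submodule.finrank_mono h12
    rwa [finrank_span_singleton (G.ne_zero hp)] at h13
  have h14 := G.fr_I hl hm
  have h15 := G.fr_I hl hp
  have h16 := G.i_le hl
  omega

end fin

end Gen

end Cfsg.Agent.Omega.NO3S.OneQ.TIq

end

section


/-!
# NO-3S, `OneSz`, the TI world, `D_x = I`: `k ≥ 2` is impossible (bb OMEGA #19856 (2), #19449 (B5)-(B7))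

* `GenK.b5` : partial pairs: `C_1 = 0`
* `GenK.b6` : `dim Ibar = k`
* `GenK.k_one` : `k = 1`
-/

set_option autoImplicit false
set_option linter.unusedSimpArgs false
set_option linter.unusedSectionVars false

namespace Cfsg.Agent.Omega.NO3S.OneQ.TIq

open Module

namespace GenK

variable {F M H : Type*} [Field F] [AddCommGroup M] [Module F M] [Group H] [DistribMulAction H M] {L : Set M}
    {A : M → Subgroup H} {I : M → Submodule F M} {al : M → M → H} {Kt : M → Subgroup H}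

section fin

variable [Finite F] [Finite M] [Finite H]

/-- (B5) -/
theorem b5 (K : GenK F L A I al Kt) {l m : M} (hl : l ∈ L) (hm : m ∈ L)
    (hk : ∀ x (hx : x ∈ L), 2 ≤ finrank F (M ⧸ K.toGen.E hx))
    (hE : al l m = 1) (hI : m ∉ I l) : I l ⊓ I m = ⊥ := by
  have G := K.toGen
  have two := G.two
  have tl := G.two_left
  obtain ⟨hE', hI'⟩ := G.psymm hl hm (hk l hl) hE hI
  rw [eq_bot_iff]
  intro u hu
  rw [Submodule.mem_bot]
  by_contra hu0
  have hmu : NP F m u := by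
    rintro c rfl
    have hc : c ≠ 0 := by
      rintro rfl
      exact hu0 (zero_smul _ _)
    exact hI (((I l).smul_mem_iff hc).1 hu.1)
  obtain ⟨t, ht, htu⟩ := K.Kt_hom hm hu.2 hmu
  have htm : t • m = m := K.Kt_fix hm ht
  obtain ⟨u₁, hu₁⟩ : ∃ u₁, u₁ = u + m := ⟨_, rfl⟩
  have hu₁I : u₁ ∉ I l := by
    intro h
    apply hI
    have := add_mem hu.1 h
    rwa [hu₁, tl] at this
  have hu₁0 : u₁ ≠ 0 := by
    rintro rfl
    exact hu₁I (zero_mem _)
  obtain ⟨l', hl'⟩ : ∃ l', l' = t • l := ⟨_, rfl⟩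
  have hl'L : l' ∈ L := hl' ▸ G.smul t hl
  have hu₁l' : u₁ ∈ I l' := by
    have := G.I_conj t hl hu.1
    rwa [htu, ← hu₁, ← hl'] at this
  have hu₁m : u₁ ∈ I m := hu₁ ▸ add_mem hu.2 (G.self hm)
  obtain ⟨j, hj⟩ : ∃ j, j = l + l' := ⟨_, rfl⟩
  have hjm : j ∈ I m := by
    have := K.Kt_E hm ht hE'
    rw [hj, hl', add_comm]
    exact this
  have hl'j : l' = l + j := by rw [hj, tl]
  -- every `b ∈ B` fixes `l'`
  have hB : ∀ b ∈ A l, b • m = m → b • l' = l' := by
    intro b hb hbm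
    by_contra hbl'
    have hbu : b • u₁ = u₁ := by rw [hu₁, smul_add, hbm, G.fix hl hb hu.1]
    have h1 : u₁ ∈ I (b • l') := by
      have := G.I_conj b hl'L hu₁l'
      rwa [hbu] at this
    have h2 : b • l' ∈ L := G.smul b hl'L
    have h3 : al l' (b • l') = 1 := by
      by_contra h
      have h4 := G.opp_I hl'L h2 h
      have h5 : u₁ ∈ I l' ⊓ I (b • l') := ⟨hu₁l', h1⟩
      rw [h4] at h5
      exact hu₁0 h5
    have h4 := G.line_mem hl'L h2 (hk l' hl'L) h3 1
    rw [one_smul] at h4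
    have h5 : l' + b • l' = b • j + j := by
      rw [hl'j, smul_add, G.A_fix hl hb]
      simp only [add_assoc, add_comm, add_left_comm, two, tl, add_zero]
    rcases h4 with h4 | h4
    · exact hbl' (G.eq_of_add h4).symm
    · refine G.b4 hl hm (hk l hl) hE hI h4 ?_ ?_
      · rw [h5]; exact G.comm hl hb j
      · rw [h5]; exact add_mem (G.I_conj' hm hjm hbm) hjm
  -- `l'` is not in the point of `l`
  have hll' : NP F l l' := by
    intro c hc
    have h1 : (1 + c) • l ∈ I m := by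
      rw [add_smul, one_smul, ← hc, ← hj]
      exact hjm
    have h2 := G.smul_notMem hI' h1
    have h3 : l' = l := by
      have : (1 + c) • l = 0 := by rw [h2, zero_smul]
      rw [add_smul, one_smul, ← hc] at this
      exact (G.eq_of_add this).symm
    rw [h3] at hu₁l'
    exact hu₁I hu₁l'
  obtain ⟨b, hb, hb1, hbm⟩ := G.ex_fix hl (hk l hl) hE
  have hEl' : al l l' = 1 := by
    by_contra h
    exact hb1 (G.opp hl hl'L h hb (hB b hb hbm))
  have hj0 : j ≠ 0 := by
    intro h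
    rw [h] at hj
    have := G.eq_of_add hj.symm
    exact hll' 1 (by rw [one_smul, this])
  have hjL : j ∈ L := by
    have h4 := G.line_mem hl hl'L (hk l hl) hEl' 1
    rw [one_smul, ← hj] at h4
    exact h4.resolve_left hj0
  have hl'I : l' ∉ I l := by
    intro h
    exact G.b4 hl hm (hk l hl) hE hI hjL (hj ▸ add_mem (G.self hl) h) hjm
  -- `phi_{l'} = d phi_m`
  obtain ⟨φ, hφ⟩ : ∃ φ, φ = G.Phi hl ⟨m, hE⟩ := ⟨_, rfl⟩
  obtain ⟨ψ, hψ⟩ : ∃ ψ, ψ = G.Phi hl ⟨l', hEl'⟩ := ⟨_, rfl⟩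
  have hφ0 : φ ≠ 0 := by
    rw [hφ, Ne, G.Phi_zero_iff]
    exact hI
  have hψ0 : ψ ≠ 0 := by
    rw [hψ, Ne, G.Phi_zero_iff]
    exact hl'I
  have hker : LinearMap.ker φ ≤ LinearMap.ker ψ := by
    intro x hx
    have h1 := G.Phi_spec' hl ⟨m, hE⟩ x
    rw [← hφ, LinearMap.mem_ker.1 hx, zero_smul, add_zero] at h1
    have h2 := hB _ (G.al_mem hl x) h1
    rw [LinearMap.mem_ker, hψ]
    apply G.Phi_eq hl
    rw [zero_smul, add_zero]
    exact h2
  obtain ⟨c, hc⟩ : ∃ c : F, ψ = c • φ := by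
    obtain ⟨x₀, hx₀⟩ : ∃ x₀, φ x₀ ≠ 0 := by
      by_contra hcon
      push Not at hcon
      exact hφ0 (LinearMap.ext hcon)
    refine ⟨ψ x₀ * (φ x₀)⁻¹, LinearMap.ext fun x => ?_⟩
    have h4 : x - (φ x * (φ x₀)⁻¹) • x₀ ∈ LinearMap.ker φ := by
      rw [LinearMap.mem_ker, map_sub, map_smul, smul_eq_mul, mul_assoc, inv_mul_cancel₀ hx₀, mul_one, sub_self]
    have h5 := hker h4
    rw [LinearMap.mem_ker, map_sub, map_smul, smul_eq_mul, sub_eq_zero] at h5
    rw [h5, LinearMap.smul_apply, smul_eq_mul]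
    ring
  have hc0 : c ≠ 0 := by
    rintro rfl
    exact hψ0 (by rw [hc, zero_smul])
  rw [hψ, hφ] at hc
  have h6 : l' + c • m ∈ I l := G.Phi_smul hl hc
  have h7 : j + c • m ∈ I l := by
    have := add_mem (G.self hl) h6
    rwa [← add_assoc, ← hj] at this
  have h8 : j + c • m ∈ I m := add_mem hjm ((I m).smul_mem c (G.self hm))
  have h9 : j = c • m := by
    have h10 := G.plane hm hjL hjm c⁻¹
    have h11 : c • (m + c⁻¹ • j) = j + c • m := by
      rw [smul_add, smul_smul, mul_inv_cancel₀ hc0, one_smul, add_comm]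
    rcases h10 with h10 | h10
    · rw [h10, smul_zero] at h11
      exact G.eq_of_add h11.symm
    · exfalso
      have h12 : j + c • m ∈ L := h11 ▸ G.fsm hc0 h10
      exact G.b4 hl hm (hk l hl) hE hI h12 h7 h8
  obtain ⟨a', ha', h12⟩ := G.d3_move hm (G.pex hm hI') hE' c
  rw [← h9, ← hl'j] at h12
  apply hu₁I
  have h13 : a'⁻¹ • u₁ ∈ I l := by
    have := G.I_conj a'⁻¹ hl'L hu₁l'
    rwa [← h12, ← mul_smul, inv_mul_cancel, one_smul] at this
  rwa [G.fix hm (inv_mem ha') hu₁m] at h13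

/-- (B6) -/
theorem b6 (K : GenK F L A I al Kt) (hk : ∀ x (hx : x ∈ L), 2 ≤ finrank F (M ⧸ K.toGen.E hx)) {l : M}
    (hl : l ∈ L) : finrank F (I l) = finrank F (M ⧸ K.toGen.E hl) := by
  have G := K.toGen
  have two := G.two
  have tl := G.two_left
  by_cases hpart : ∃ l₁ ∈ L, ∃ m₁ ∈ L, al l₁ m₁ = 1 ∧ m₁ ∉ I l₁
  · obtain ⟨l₁, hl₁, m₁, hm₁, hE, hI⟩ := hpart
    obtain ⟨h1, -⟩ := G.b3dim hl₁ hm₁ (hk l₁ hl₁) hE hI
    rw [K.b5 hl₁ hm₁ hk hE hI, finrank_bot, add_zero] at h1
    rw [G.fr_I hl hl₁, G.fr_k hl hl₁]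
    exact h1
  push Not at hpart
  obtain ⟨m, hm, hlm⟩ := G.exists_opp hl
  have hmE : al m l ≠ 1 := by
    intro h
    exact hlm (G.al_I_one hl (G.I_symm hm hl (hpart m hm l hl h)))
  have hbot := G.opp_I hl hm hlm
  apply le_antisymm
  · -- `I_l ∩ E_m = 0`
    have h1 : I l ⊓ G.E hm = ⊥ := by
      rw [eq_bot_iff]
      rintro u ⟨hul, hum⟩
      rw [Submodule.mem_bot]
      by_contra hu0
      obtain ⟨a, ha, ha1, hau⟩ := G.ex_fix hm (hk m hm) hum
      have h2 : u ∈ I (a • l) := by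
        have := G.I_conj a hl hul
        rwa [hau] at this
      have haL := G.smul a hl
      have h3 : al l (a • l) = 1 := by
        by_contra h
        have h4 := G.opp_I hl haL h
        have h5 : u ∈ I l ⊓ I (a • l) := ⟨hul, h2⟩
        rw [h4] at h5
        exact hu0 h5
      have h4 := hpart l hl _ haL h3
      have h5 : a • l + l ∈ I l ⊓ I m := ⟨add_mem h4 (G.self hl), G.comm hm ha l⟩
      rw [hbot, Submodule.mem_bot] at h5
      exact ha1 (G.opp hm hl hmE ha (G.eq_of_add h5))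
    have h2 := Submodule.finrank_sup_add_finrank_inf_eq (I l) (G.E hm)
    have h3 : finrank F (I l ⊔ G.E hm : Submodule F M) ≤ finrank F M := Submodule.finrank_le _
    rw [h1, finrank_bot] at h2
    have h4 := G.fr_M hm
    have h5 := G.fr_k hl hm
    have h6 : finrank F (M ⧸ G.E hl) = finrank F (M ⧸ K.toGen.E hl) := rfl
    omega
  · -- `|A_m| ≤ |I_m|`
    have h1 : Nat.card (A m) ≤ Nat.card (I m) := by
      refine Nat.card_le_card_of_injective
        (fun a : A m => (⟨(a : H) • l + l, G.comm hm a.2 l⟩ : I m)) fun a b hab => ?_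
      have h2 : (a : H) • l + l = (b : H) • l + l := congrArg Subtype.val hab
      have h3 := add_right_cancel h2
      have h4 : ((b : H)⁻¹ * a) • l = l := by
        rw [mul_smul, h3, ← mul_smul, inv_mul_cancel, one_smul]
      have h5 := G.opp hm hl hmE (mul_mem (inv_mem b.2) a.2) h4
      exact Subtype.ext (inv_mul_eq_one.1 h5).symm
    rw [G.card_A_eq hm, Module.natCard_eq_pow_finrank (K := F) (V := I m)] at h1
    have h2 := (Nat.pow_le_pow_iff_right (Finite.one_lt_card (α := F))).1 h1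
    rw [G.fr_I hl hm, G.fr_k hl hm]
    exact h2

/-- (B7): `k = 1` -/
theorem k_one (K : GenK F L A I al Kt) {l : M} (hl : l ∈ L) : finrank F (M ⧸ K.toGen.E hl) = 1 := by
  have G := K.toGen
  have two := G.two
  have tl := G.two_left
  by_contra hne
  have hpos : finrank F (M ⧸ K.toGen.E hl) ≠ 0 := by
    intro h0
    obtain ⟨m, hm, h⟩ := G.exists_opp hl
    have h1 := G.card_A_eq hl
    rw [show finrank F (M ⧸ G.E hl) = 0 from h0, pow_zero] at h1
    apply h
    have h2 := (Nat.card_eq_one_iff_unique.1 h1).1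
    exact congrArg Subtype.val (h2.elim (⟨al l m, G.al_mem hl m⟩ : A l) 1)
  have hk : ∀ x (hx : x ∈ L), 2 ≤ finrank F (M ⧸ K.toGen.E hx) := by
    intro x hx
    have := G.fr_k hl hx
    have h6 : finrank F (M ⧸ G.E hl) = finrank F (M ⧸ K.toGen.E hl) := rfl
    have h7 : finrank F (M ⧸ G.E hx) = finrank F (M ⧸ K.toGen.E hx) := rfl
    omega
  -- all sums are in `L`
  have hsum : ∀ x ∈ L, ∀ y ∈ L, x + y = 0 ∨ x + y ∈ L := by
    intro x hx y hy
    by_cases hE : al x y = 1
    · have := G.line_mem hx hy (hk x hx) hE 1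
      rwa [one_smul] at this
    · right
      -- `[y, A_x] = I_x`
      have h1 : Function.Injective (fun a : A x => (⟨(a : H) • y + y, G.comm hx a.2 y⟩ : I x)) := by
        intro a b hab
        have h2 : (a : H) • y + y = (b : H) • y + y := congrArg Subtype.val hab
        have h3 := add_right_cancel h2
        have h4 : ((b : H)⁻¹ * a) • y = y := by
          rw [mul_smul, h3, ← mul_smul, inv_mul_cancel, one_smul]
        have h5 := G.opp hx hy hE (mul_mem (inv_mem b.2) a.2) h4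
        exact Subtype.ext (inv_mul_eq_one.1 h5).symm
      have h2 : Nat.card (A x) = Nat.card (I x) := by
        rw [G.card_A_eq hx, Module.natCard_eq_pow_finrank (K := F) (V := I x), K.b6 hk hx]
      have h3 := (h1.bijective_of_nat_card_le h2.ge).2
      obtain ⟨a, ha⟩ := h3 ⟨x, G.self hx⟩
      have h4 : (a : H) • y + y = x := congrArg Subtype.val ha
      have h5 : x + y = (a : H) • y := by
        have h6 : ((a : H) • y + y) + y = x + y := congrArg (· + y) h4
        rw [add_assoc, two, add_zero] at h6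
        exact h6.symm
      rw [h5]
      exact G.smul _ hy
  have hall : ∀ x : M, x = 0 ∨ x ∈ L := by
    intro x
    have h1 : x ∈ Submodule.span F L := by rw [G.gen]; trivial
    refine Submodule.span_induction (p := fun x _ => x = 0 ∨ x ∈ L) (fun y hy => Or.inr hy) (Or.inl rfl) ?_ ?_ h1
    · rintro y z - - (rfl | hy) (rfl | hz)
      · left; exact add_zero _
      · right; rwa [zero_add]
      · right; rwa [add_zero]
      · exact hsum y hy z hz
    · rintro c y - (rfl | hy)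
      · left; exact smul_zero _
      · by_cases hc : c = 0
        · left; rw [hc, zero_smul]
        · right; exact G.fsm hc hy
  obtain ⟨m, hm, hlm⟩ := G.exists_opp hl
  -- some `x ∉ E_l` has `[m, al l x] ∈ F l`
  let N : Submodule F M := Submodule.span F {l}
  have hlN : l ∈ N := Submodule.mem_span_singleton_self l
  have hNI : N ≤ I l := Submodule.span_le.2 (by rintro x rfl; exact G.self hl)
  obtain ⟨x, hx, hxN⟩ : ∃ x, al l x ≠ 1 ∧ al l x • m + m ∈ N := by
    by_contra hcon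
    push Not at hcon
    have h1 := LinearMap.finrank_range_add_finrank_ker (G.Bt hl m N hlN)
    have h2 : LinearMap.ker (G.Bt hl m N hlN) ≤ G.E hl := by
      intro x hx
      by_contra hxE
      exact hcon x hxE ((G.Bt_zero hl m N hlN x).1 (LinearMap.mem_ker.1 hx))
    have h4 : LinearMap.range (G.Bt hl m N hlN) ≤ (I l).map N.mkQ := by
      rintro _ ⟨x, rfl⟩
      exact ⟨_, G.comm hl (G.al_mem hl x) m, rfl⟩
    have h5 : finrank F ((I l).map N.mkQ) + finrank F N = finrank F (I l) := by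
      have h6 := LinearMap.finrank_range_add_finrank_ker (N.mkQ.comp (I l).subtype)
      have h7 : LinearMap.range (N.mkQ.comp (I l).subtype) = (I l).map N.mkQ := by
        rw [LinearMap.range_comp, Submodule.range_subtype]
      have h8 : LinearMap.ker (N.mkQ.comp (I l).subtype) = N.comap (I l).subtype := by
        rw [LinearMap.ker_comp, Submodule.ker_mkQ]
      rw [h7, h8, (Submodule.comapSubtypeEquivOfLe hNI).finrank_eq] at h6
      exact h6
    have h9 : finrank F N = 1 := finrank_span_singleton (G.ne_zero hl)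
    have h10 := Submodule.finrank_mono h2
    have h11 := Submodule.finrank_mono h4
    have h12 := G.fr_M hl
    have h13 : finrank F (I l) = finrank F (M ⧸ G.E hl) := K.b6 hk hl
    omega
  obtain ⟨c, hc⟩ := Submodule.mem_span_singleton.1 hxN
  obtain ⟨e, he, he'⟩ := G.phi hl (G.al_mem hl x) hx
  have h1 : al l (m + c • e) ≠ 1 := by
    rw [G.al_add hl, G.al_sm_one hl c he, mul_one]
    exact hlm
  have h2 : m + c • e ∈ L := (hall _).resolve_left fun h => h1 (by rw [h]; exact G.al_zero hl)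
  refine hx (G.opp hl h2 h1 (G.al_mem hl x) ?_)
  have h3 : al l x • m = m + c • l := by
    rw [hc]; simp only [add_assoc, add_comm, add_left_comm, two, tl, add_zero]
  rw [smul_add, G.lin, he', h3, smul_add]
  simp only [add_assoc, add_comm, add_left_comm, two, tl, add_zero]

end fin

end GenK

end Cfsg.Agent.Omega.NO3S.OneQ.TIq

end

section


/-!
# NO-3S, `OneSz`, the TI world, `D_x = I`, `k = 1`: basics, dimensions, planes are dead (bb OMEGA #19856 (3))

* `Gen.E_max`, `Gen.nfix`, `Gen.no_part` : `k = 1`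
* `GenK.fr_two`, `GenK.fr_four` : `dim Ibar = 2`, `dim M = 4`
* `GenK.no_plane` : `q ≥ 3` ⟹ no planes
-/

set_option autoImplicit false
set_option linter.unusedSimpArgs false
set_option linter.unusedSectionVars false

namespace Cfsg.Agent.Omega.NO3S.OneQ.TIq

open Module

namespace Gen

variable {F M H : Type*} [Field F] [AddCommGroup M] [Module F M] [Group H] [DistribMulAction H M] {L : Set M}
    {A : M → Subgroup H} {I : M → Submodule F M} {al : M → M → H}

section fin

variable [Finite F] [Finite M] [Finite H]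

/-- `Ebar_l` is maximal -/
theorem E_max (G : Gen F L A I al) {l y : M} (hl : l ∈ L) (h1 : finrank F (M ⧸ G.E hl) = 1) {N : Submodule F M}
    (hN : G.E hl ≤ N) (hy : y ∈ N) (hyE : al l y ≠ 1) (z : M) : z ∈ N := by
  have h2 : G.E hl < N := lt_of_le_of_ne hN (by rintro rfl; exact hyE hy)
  have h3 := Submodule.finrank_lt_finrank_of_lt h2
  have h4 := G.fr_M hl
  have h5 : finrank F N ≤ finrank F M := Submodule.finrank_le _
  have h6 : N = ⊤ := Submodule.eq_top_of_finrank_eq (by omega)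
  rw [h6]
  trivial

/-- `x ∉ Ebar_l`, `1 ≠ a ∈ A_l` ⟹ `[x, a] ∉ F l` -/
theorem nfix (G : Gen F L A I al) {l x : M} {a : H} (hl : l ∈ L) (h1 : finrank F (M ⧸ G.E hl) = 1)
    (hx : al l x ≠ 1) (ha : a ∈ A l) (ha1 : a ≠ 1) : a • x + x ∉ Submodule.span F {l} := by
  intro h
  apply hx
  obtain ⟨y, rfl⟩ := G.al_surj hl ha
  let N : Submodule F M := Submodule.span F {l}
  have hlN : l ∈ N := Submodule.mem_span_singleton_self l
  have hE : G.E hl ≤ LinearMap.ker (G.Bt hl x N hlN) := by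
    intro e he
    rw [LinearMap.mem_ker, G.Bt_zero hl, show al l e = 1 from he, one_smul, G.two]
    exact zero_mem _
  have hy : y ∈ LinearMap.ker (G.Bt hl x N hlN) := by
    rw [LinearMap.mem_ker, G.Bt_zero hl]
    exact h
  rw [G.al_ker hl]
  intro b hb
  obtain ⟨z, rfl⟩ := G.al_surj hl hb
  have hz := G.E_max hl h1 hE hy ha1 z
  rw [LinearMap.mem_ker, G.Bt_zero hl] at hz
  obtain ⟨c, hc⟩ := Submodule.mem_span_singleton.1 hz
  refine ⟨c, ?_⟩
  rw [hc, add_comm (al l z • x) x, G.two_left]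

/-- `1 ≠ a ∈ A_l` fixes only `Ibar_l` -/
theorem fix_mem (G : Gen F L A I al) {l x : M} {a : H} (hl : l ∈ L) (h1 : finrank F (M ⧸ G.E hl) = 1)
    (ha : a ∈ A l) (ha1 : a ≠ 1) (h : a • x = x) : x ∈ I l := by
  by_cases hx : al l x = 1
  · obtain ⟨y, rfl⟩ := G.al_surj hl ha
    rw [show x = ((⟨x, hx⟩ : G.E hl) : M) from rfl, ← G.Phi_zero_iff hl]
    have h2 : y ∈ LinearMap.ker (G.Phi hl ⟨x, hx⟩) := by
      rw [LinearMap.mem_ker]
      apply G.Phi_eq hl
      rw [zero_smul, add_zero]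
      exact h
    ext z
    exact LinearMap.mem_ker.1 (G.E_max hl h1 (G.Phi_E hl _) h2 ha1 z)
  · exfalso
    apply G.nfix hl h1 hx ha ha1
    rw [h, G.two]
    exact zero_mem _

theorem card_A_one (G : Gen F L A I al) {l : M} (hl : l ∈ L) (h1 : finrank F (M ⧸ G.E hl) = 1) :
    Nat.card (A l) = Nat.card F := by
  rw [G.card_A_eq hl, h1, pow_one]

/-- `dim Ibar = 2` -/
theorem fr_two (G : Gen F L A I al) {l : M} (hl : l ∈ L) (h1 : finrank F (M ⧸ G.E hl) = 1) :
    finrank F (I l) = 2 := by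
  have h2 := G.i_le hl
  rw [h1] at h2
  have h3 : Submodule.span F {l} ≤ I l := Submodule.span_le.2 (by rintro x rfl; exact G.self hl)
  have h4 := Submodule.finrank_mono h3
  have h5 := finrank_span_singleton (K := F) (G.ne_zero hl)
  rw [h5] at h4
  by_contra hne
  have h6 : Submodule.span F {l} = I l := Submodule.eq_of_le_of_finrank_le h3 (by omega)
  obtain ⟨m, hm, hlm⟩ := G.exists_opp hl
  obtain ⟨a, ha, ha1⟩ := G.ne hl
  apply G.nfix hl h1 hlm ha ha1
  rw [h6]
  exact G.comm hl ha m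

theorem fr_four (G : Gen F L A I al) {l : M} (hl : l ∈ L) (h1 : finrank F (M ⧸ G.E hl) = 1) :
    finrank F M = 4 := by
  have h2 := G.fr_two hl h1
  have h3 := G.fr_M hl
  have h4 := G.fr_E hl
  omega

theorem fr_E3 (G : Gen F L A I al) {l : M} (hl : l ∈ L) (h1 : finrank F (M ⧸ G.E hl) = 1) :
    finrank F (G.E hl) = 3 := by
  have h2 := G.fr_two hl h1
  have h4 := G.fr_E hl
  omega

/-- a 2-dimensional space is spanned by two independent vectors -/
theorem span_two {Y : Submodule F M} (hY : finrank F Y = 2) {l u : M} (hl0 : l ≠ 0) (hl : l ∈ Y) (hu : u ∈ Y)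
    (hlu : u ∉ Submodule.span F {l}) {y : M} (hy : y ∈ Y) : ∃ c d : F, y = c • l + d • u := by
  have h1 : Submodule.span F {l} < Submodule.span F {l} ⊔ Submodule.span F {u} :=
    lt_of_le_of_ne le_sup_left (fun h => hlu (by
      rw [h]
      exact (le_sup_right : _ ≤ Submodule.span F {l} ⊔ Submodule.span F {u}) (Submodule.mem_span_singleton_self u)))
  have h2 := Submodule.finrank_lt_finrank_of_lt h1
  rw [finrank_span_singleton hl0] at h2
  have h3 : Submodule.span F {l} ⊔ Submodule.span F {u} ≤ Y :=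
    sup_le (Submodule.span_le.2 (by rintro x rfl; exact hl)) (Submodule.span_le.2 (by rintro x rfl; exact hu))
  have h4 := Submodule.eq_of_le_of_finrank_le h3 (by omega)
  rw [← h4] at hy
  obtain ⟨p, hp, s, hs, e⟩ := Submodule.mem_sup.1 hy
  obtain ⟨c, rfl⟩ := Submodule.mem_span_singleton.1 hp
  obtain ⟨d, rfl⟩ := Submodule.mem_span_singleton.1 hs
  exact ⟨c, d, e.symm⟩

theorem notMem_span (l u : M) (h : NP F l u) : u ∉ Submodule.span F {l} := by
  intro h1
  obtain ⟨c, hc⟩ := Submodule.mem_span_singleton.1 h1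
  exact h c hc.symm

theorem np_of_notMem (l u : M) (h : u ∉ Submodule.span F {l}) : NP F l u := by
  rintro c rfl
  exact h (Submodule.smul_mem _ _ (Submodule.mem_span_singleton_self l))

end fin

end Gen

namespace GenK

variable {F M H : Type*} [Field F] [AddCommGroup M] [Module F M] [Group H] [DistribMulAction H M] {L : Set M}
    {A : M → Subgroup H} {I : M → Submodule F M} {al : M → M → H} {Kt : M → Subgroup H}

section plane

variable [Finite F] [Finite M] [Finite H]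

/-- all vectors of `Ibar_l` are in `L` -/
theorem pl_all (K : GenK F L A I al Kt) {l m : M} (hl : l ∈ L) (hm : m ∈ L) (hlm : NP F l m) (hI : m ∈ I l)
    {l' : M} (hl' : l' ∈ L) {y : M} (hy : y ∈ I l') (hy0 : y ≠ 0) : y ∈ L := by
  have G := K.toGen
  have h1 : ∀ y ∈ I l, y ≠ 0 → y ∈ L := by
    intro y hy hy0
    obtain ⟨c, d, rfl⟩ := Gen.span_two (G.fr_two hl (K.k_one hl)) (G.ne_zero hl) (G.self hl) hI
      (Gen.notMem_span l m hlm) hy
    by_cases hc : c = 0
    · rw [hc, zero_smul, zero_add] at hy0 ⊢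
      exact G.fsm' hm hy0
    · have h2 : c • l + d • m = c • (l + (c⁻¹ * d) • m) := by
        rw [smul_add, smul_smul, ← mul_assoc, mul_inv_cancel₀ hc, one_mul]
      rw [h2] at hy0 ⊢
      rcases G.plane hl hm hI (c⁻¹ * d) with h | h
      · rw [h, smul_zero] at hy0
        exact absurd rfl hy0
      · exact G.fsm hc h
  obtain ⟨h, c, hc, e⟩ := G.trans hl' hl
  have h2 : h • y ∈ I l := by
    have := G.I_conj h hl' hy
    rwa [e, G.I_sm hc hl] at this
  have h3 : h • y ≠ 0 := by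
    intro h0
    apply hy0
    rw [← inv_smul_smul h y, h0, smul_zero]
  have h4 := G.smul h⁻¹ (h1 _ h2 h3)
  rwa [inv_smul_smul] at h4

theorem pl_I (K : GenK F L A I al Kt) {l m : M} (hl : l ∈ L) (hm : m ∈ L) (hlm : NP F l m) (hI : m ∈ I l)
    {l' : M} (hl' : l' ∈ L) {y : M} (hy : y ∈ I l') (hy0 : y ≠ 0) : I y = I l' := by
  have G := K.toGen
  have hyL := K.pl_all hl hm hlm hI hl' hy hy0
  by_cases h1 : NP F l' y
  · symm
    refine Submodule.eq_of_le_of_finrank_le ?_ (by rw [G.fr_two hyL (K.k_one hyL), G.fr_two hl' (K.k_one hl')])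
    intro x hx
    obtain ⟨c, d, rfl⟩ := Gen.span_two (G.fr_two hl' (K.k_one hl')) (G.ne_zero hl') (G.self hl') hy
      (Gen.notMem_span l' y h1) hx
    exact add_mem ((I y).smul_mem c (G.I_symm hl' hyL hy)) ((I y).smul_mem d (G.self hyL))
  · unfold NP at h1
    push Not at h1
    obtain ⟨c, rfl⟩ := h1
    exact G.I_sm (by rintro rfl; exact hy0 (zero_smul _ _)) hl'

/-- an involution which centralises `Y = Ibar_l` and a vector of `L - Y` is trivial -/
theorem pl_one (K : GenK F L A I al Kt) {l m : M} (hl : l ∈ L) (hm : m ∈ L) (hlm : NP F l m) (hI : m ∈ I l)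
    {t : H} (ht : t * t = 1) (htY : ∀ y ∈ I l, t • y = y) {v : M} (hv : v ∈ L) (hvY : v ∉ I l) (htv : t • v = v) :
    t = 1 := by
  have G := K.toGen
  have two := G.two
  have tl := G.two_left
  have hk := K.k_one hv
  have htt : ∀ x : M, t • t • x = x := fun x => by rw [← mul_smul, ht, one_smul]
  have hinf : I l ⊓ I v = ⊥ := by
    rw [eq_bot_iff]
    rintro y ⟨hy, hy'⟩
    rw [Submodule.mem_bot]
    by_contra hy0
    apply hvY
    rw [← K.pl_I hl hm hlm hI hl hy hy0, K.pl_I hl hm hlm hI hv hy' hy0]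
    exact G.self hv
  have hsup : I l ⊔ I v = ⊤ := by
    apply Submodule.eq_top_of_finrank_eq
    have h1 := Submodule.finrank_sup_add_finrank_inf_eq (I l) (I v)
    rw [hinf, finrank_bot, G.fr_two hl (K.k_one hl), G.fr_two hv hk] at h1
    rw [G.fr_four hl (K.k_one hl)]
    omega
  have htE : ∀ e, al v e = 1 → al v (t • e) = 1 := by
    intro e he
    rw [G.al_conj hv htv, he]
    group
  have hcomm : ∀ x, al v (t • x + x) = 1 := by
    intro x
    by_contra hy
    have h1 : t • (t • x + x) = t • x + x := by rw [smul_add, htt, add_comm]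
    have h2 := G.E_max hv hk (N := G.E hv ⊔ Submodule.span F {t • x + x}) le_sup_left
      ((le_sup_right : _ ≤ G.E hv ⊔ Submodule.span F {t • x + x}) (Submodule.mem_span_singleton_self _)) hy x
    obtain ⟨e, he, z, hz, h3⟩ := Submodule.mem_sup.1 h2
    obtain ⟨c, rfl⟩ := Submodule.mem_span_singleton.1 hz
    have h4 : t • x = t • e + c • (t • x + x) := by
      calc t • x = t • (e + c • (t • x + x)) := by rw [h3]
        _ = t • e + c • (t • x + x) := by rw [smul_add, G.lin, h1]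
    apply hy
    have h5 : t • x + x = t • e + e := by
      calc t • x + x = (t • e + c • (t • x + x)) + (e + c • (t • x + x)) := by rw [← h4, h3]
        _ = t • e + e + (c • (t • x + x) + c • (t • x + x)) := by abel
        _ = t • e + e := by rw [two, add_zero]
    have he' : al v e = 1 := he
    rw [h5, G.al_add hv, htE e he', he', one_mul]
  have hta : ∀ a ∈ A v, t * a = a * t := by
    intro a ha
    obtain ⟨x, rfl⟩ := G.al_surj hv ha
    have h1 := hcomm x
    rw [G.al_add hv, G.al_conj hv htv] at h1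
    have h2 := inv_eq_of_mul_eq_one_left h1
    rw [G.inv hv (G.al_mem hv x)] at h2
    calc t * al v x = t * al v x * t⁻¹ * t := by group
      _ = al v x * t := by rw [← h2]
  obtain ⟨y, hy, hyE⟩ : ∃ y ∈ I l, al v y ≠ 1 := by
    by_contra hcon
    push Not at hcon
    have h1 : (⊤ : Submodule F M) ≤ G.E hv := by
      rw [← hsup]
      exact sup_le (fun y hy => hcon y hy) (G.I_le_E hv)
    obtain ⟨a, ha, ha1⟩ := G.ne hv
    obtain ⟨x, rfl⟩ := G.al_surj hv ha
    exact ha1 (h1 (Submodule.mem_top (x := x)))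
  obtain ⟨a, ha, ha1⟩ := G.ne hv
  have hw := G.nfix hv hk hyE ha ha1
  have hwI := G.comm hv ha y
  have htw : t • (a • y + y) = a • y + y := by
    rw [smul_add, ← mul_smul, hta a ha, mul_smul, htY y hy]
  apply K.faith
  intro x
  have hx : x ∈ I l ⊔ I v := by rw [hsup]; trivial
  obtain ⟨y₁, hy₁, y₂, hy₂, rfl⟩ := Submodule.mem_sup.1 hx
  obtain ⟨c, d, rfl⟩ := Gen.span_two (G.fr_two hv hk) (G.ne_zero hv) (G.self hv) hwI hw hy₂
  rw [smul_add, smul_add, G.lin, G.lin, htY y₁ hy₁, htv, htw]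

/-- the elements centralising `Y` and `M / Y` -/
def AY (_K : GenK F L A I al Kt) (l : M) : Set H :=
  {r | (∀ y ∈ I l, r • y = y) ∧ ∀ x : M, r • x + x ∈ I l}

theorem AY_mul (K : GenK F L A I al Kt) {l : M} {r s : H} (hr : r ∈ K.AY l) (hs : s ∈ K.AY l) :
    r * s ∈ K.AY l ∧ ∀ x : M, (r * s) • x + x = (r • x + x) + (s • x + x) := by
  have G := K.toGen
  have two := G.two
  have tl := G.two_left
  have h1 : ∀ x : M, (r * s) • x + x = (r • x + x) + (s • x + x) := by
    intro x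
    have h2 := hr.1 _ (hs.2 x)
    rw [smul_add] at h2
    have h3 : r • s • x = s • x + x + r • x := by
      rw [← h2, add_assoc, two, add_zero]
    rw [mul_smul, h3]
    abel
  refine ⟨⟨fun y hy => by rw [mul_smul, hs.1 y hy, hr.1 y hy], fun x => ?_⟩, h1⟩
  rw [h1]
  exact add_mem (hr.2 x) (hs.2 x)

theorem AY_sq (K : GenK F L A I al Kt) {l : M} {r : H} (hr : r ∈ K.AY l) : r * r = 1 := by
  have G := K.toGen
  apply K.faith
  intro x
  have h1 := (K.AY_mul hr hr).2 x
  rw [G.two] at h1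
  exact G.eq_of_add h1

theorem AY_A (K : GenK F L A I al Kt) {l : M} (hl : l ∈ L) {a : H} (ha : a ∈ A l) : a ∈ K.AY l :=
  ⟨fun _ hy => K.fix hl ha hy, fun x => K.comm hl ha x⟩

theorem AY_I (K : GenK F L A I al Kt) {l m : M} (h : I l = I m) : K.AY l = K.AY m := by
  unfold AY
  rw [h]

theorem AY_conj (K : GenK F L A I al Kt) {l : M} (hl : l ∈ L) {c r : H} (hc : c • l = l) (hr : r ∈ K.AY l) :
    c * r * c⁻¹ ∈ K.AY l := by
  have G := K.toGen
  have hc' : c⁻¹ • l = l := by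
    rw [inv_smul_eq_iff]; exact hc.symm
  refine ⟨fun y hy => ?_, fun x => ?_⟩
  · have h1 := G.I_conj' hl hy hc'
    rw [mul_smul, mul_smul, hr.1 _ h1, smul_inv_smul]
  · have h1 := G.I_conj' hl (hr.2 (c⁻¹ • x)) hc
    rwa [smul_add, smul_inv_smul, ← mul_smul, ← mul_smul] at h1

/-- no planes -/
theorem no_plane (K : GenK F L A I al Kt) (hq : 3 ≤ Nat.card F) {l m : M} (hl : l ∈ L) (hm : m ∈ L)
    (hI : m ∈ I l) : ∃ c : F, m = c • l := by
  have G := K.toGen
  have two := G.two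
  have tl := G.two_left
  by_contra hcon
  push Not at hcon
  have hlm : NP F l m := hcon
  have hk := K.k_one hl
  have hIm : I m = I l := K.pl_I hl hm hlm hI hl hI (G.ne_zero hm)
  -- `r ∈ AY` which fixes a vector of `L - Y`
  have hone : ∀ r ∈ K.AY l, ∀ v ∈ L, v ∉ I l → r • v = v → r = 1 := fun r hr v hv hvY h =>
    K.pl_one hl hm hlm hI (K.AY_sq hr) hr.1 hv hvY h
  have hmul := fun {r s : H} (hr : r ∈ K.AY l) (hs : s ∈ K.AY l) => K.AY_mul hr hs
  -- transitivity on `v + Y`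
  have htr : ∀ v ∈ L, v ∉ I l → ∀ z ∈ I l, ∃ r ∈ K.AY l, r • v = v + z := by
    intro v hv hvY z hz
    have hAm : ∀ a ∈ A m, a ∈ K.AY l := fun a ha => K.AY_I hIm ▸ K.AY_A hm ha
    let f : A l × A m → I l := fun p =>
      ⟨((p.1 : H) * (p.2 : H)) • v + v, (hmul (K.AY_A hl p.1.2) (hAm _ p.2.2)).1.2 v⟩
    have hf : Function.Injective f := by
      rintro ⟨a, b⟩ ⟨a₂, b₂⟩ h
      have h1 : ((a : H) * (b : H)) • v + v = ((a₂ : H) * (b₂ : H)) • v + v := congrArg Subtype.val h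
      have h2 := add_right_cancel h1
      have hp := (hmul (K.AY_A hl a.2) (hAm _ b.2)).1
      have hp₂ := (hmul (K.AY_A hl a₂.2) (hAm _ b₂.2)).1
      have h3 := (hmul hp hp₂).2 v
      have h4 : ((a : H) * b * (a₂ * b₂)) • v = v := by
        rw [h2, two] at h3
        exact G.eq_of_add h3
      have h5 := hone _ (hmul hp hp₂).1 v hv hvY h4
      have h6 : (a : H) * b = a₂ * b₂ := by
        have h7 := inv_eq_of_mul_eq_one_left h5
        rw [inv_eq_of_mul_eq_one_left (K.AY_sq hp₂)] at h7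
        exact h7.symm
      have h7 : (a₂ : H)⁻¹ * a = b₂ * (b : H)⁻¹ := by
        rw [inv_mul_eq_iff_eq_mul, ← mul_assoc, ← h6, mul_assoc, mul_inv_cancel, mul_one]
      have h8 : (a₂ : H)⁻¹ * a = 1 := by
        by_contra hne
        have h9 := mul_mem (inv_mem a₂.2) a.2
        obtain ⟨c, hc⟩ := G.ti hl hm h9 (h7 ▸ mul_mem b₂.2 (inv_mem b.2)) hne
        exact hlm c hc
      have h9 : (a : H) = a₂ := (inv_mul_eq_one.1 h8).symm
      rw [h9] at h6
      have h10 : (b : H) = b₂ := mul_left_cancel h6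
      rw [Prod.mk.injEq]
      exact ⟨Subtype.ext h9, Subtype.ext h10⟩
    have hcard : Nat.card (I l) ≤ Nat.card (A l × A m) := by
      rw [Nat.card_prod, G.card_A_one hl hk, G.card_A_one hm (K.k_one hm),
        Module.natCard_eq_pow_finrank (K := F) (V := I l), G.fr_two hl hk, sq]
    obtain ⟨⟨a, b⟩, hab⟩ := (hf.bijective_of_nat_card_le hcard).2 ⟨z, hz⟩
    have h1 : ((a : H) * (b : H)) • v + v = z := congrArg Subtype.val hab
    refine ⟨_, (hmul (K.AY_A hl a.2) (hAm _ b.2)).1, ?_⟩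
    rw [← h1, add_comm v, add_assoc, two, add_zero]
  -- everything outside `Y` is in `L`
  obtain ⟨m₁, hm₁, hm₁E⟩ := G.exists_opp hl
  have hm₁Y : m₁ ∉ I l := fun h => hm₁E (G.al_I_one hl h)
  have hinf : I l ⊓ I m₁ = ⊥ := by
    rw [eq_bot_iff]
    rintro y ⟨hy, hy'⟩
    rw [Submodule.mem_bot]
    by_contra hy0
    apply hm₁Y
    rw [← K.pl_I hl hm hlm hI hl hy hy0, K.pl_I hl hm hlm hI hm₁ hy' hy0]
    exact G.self hm₁
  have hsup : I l ⊔ I m₁ = ⊤ := by
    apply Submodule.eq_top_of_finrank_eq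
    have h1 := Submodule.finrank_sup_add_finrank_inf_eq (I l) (I m₁)
    rw [hinf, finrank_bot, G.fr_two hl hk, G.fr_two hm₁ (K.k_one hm₁)] at h1
    rw [G.fr_four hl hk]
    omega
  have hall : ∀ x, x ∉ I l → x ∈ L := by
    intro x hx
    have hx' : x ∈ I l ⊔ I m₁ := by rw [hsup]; trivial
    obtain ⟨y, hy, y', hy', rfl⟩ := Submodule.mem_sup.1 hx'
    have hy'0 : y' ≠ 0 := by
      rintro rfl
      rw [add_zero] at hx
      exact hx hy
    have h1 := K.pl_all hl hm hlm hI hm₁ hy' hy'0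
    have h2 : y' ∉ I l := by
      intro h
      have h3 : y' ∈ I l ⊓ I m₁ := ⟨h, hy'⟩
      rw [hinf] at h3
      exact hy'0 h3
    obtain ⟨r, -, hr⟩ := htr y' h1 h2 y hy
    rw [add_comm, ← hr]
    exact G.smul r h1
  obtain ⟨a₀, ha₀, ha₀1⟩ := G.ne hl
  obtain ⟨e, he, he'⟩ := G.phi hl ha₀ ha₀1
  have heY : e ∉ I l := by
    intro h
    rw [G.fix hl ha₀ h] at he'
    exact G.ne_zero hl (left_eq_add.1 he')
  obtain ⟨k, hk'⟩ : ∃ k, k = a₀ • m₁ + m₁ := ⟨_, rfl⟩
  have hkY : k ∈ I l := hk' ▸ G.comm hl ha₀ m₁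
  have hkl : k ∉ Submodule.span F {l} := hk' ▸ G.nfix hl hk hm₁E ha₀ ha₀1
  have ha₀A := K.AY_A hl ha₀
  -- the main computation
  have main : ∀ z : F, z ≠ 0 → ∀ r ∈ K.AY l, r • e + e = z • k → ∃ y : F, r • m₁ + m₁ = y • l + k := by
    intro z hz r hr hre
    obtain ⟨y, w, hrm⟩ := Gen.span_two (G.fr_two hl hk) (G.ne_zero hl) (G.self hl) hkY hkl (hr.2 m₁)
    have hzk : NP F l (z • k) := by
      intro c hc
      apply hkl
      have : k = z⁻¹ • z • k := by rw [smul_smul, inv_mul_cancel₀ hz, one_smul]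
      rw [this, hc]
      exact Submodule.smul_mem _ _ (Submodule.smul_mem _ _ (Submodule.mem_span_singleton_self l))
    obtain ⟨c, hc, hcu⟩ := K.Kt_hom hl ((I l).smul_mem z hkY) hzk
    have hcl := K.Kt_fix hl hc
    have hck : c • k = k + z⁻¹ • l := by
      have : c • (z⁻¹ • (z • k)) = z⁻¹ • (z • k + l) := by rw [G.lin, hcu]
      rw [smul_smul z⁻¹, inv_mul_cancel₀ hz, one_smul, smul_add, smul_smul z⁻¹, inv_mul_cancel₀ hz, one_smul] at this
      exact this
    have hca := K.Kt_A hl hc ha₀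
    -- `c m₁ = m₁ + z⁻¹ e` mod `Y`
    obtain ⟨s, hs⟩ : ∃ s, s = c • m₁ + m₁ + z⁻¹ • e := ⟨_, rfl⟩
    have hsY : s ∈ I l := by
      have h1 : a₀ • s = s := by
        have h2 : a₀ • m₁ = m₁ + k := by rw [hk', add_comm (a₀ • m₁), tl]
        have h3 : a₀ • c • m₁ = c • m₁ + k + z⁻¹ • l := by
          rw [← mul_smul, ← hca, mul_smul, h2, smul_add, hck, add_assoc]
        rw [hs, smul_add, smul_add, h2, h3, G.lin, he', smul_add]
        calc c • m₁ + k + z⁻¹ • l + (m₁ + k) + (z⁻¹ • e + z⁻¹ • l)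
            = c • m₁ + m₁ + z⁻¹ • e + (k + k) + (z⁻¹ • l + z⁻¹ • l) := by abel
          _ = _ := by rw [two, two, add_zero, add_zero]
      exact G.fix_mem hl hk ha₀ ha₀1 h1
    obtain ⟨y₁, hy₁⟩ : ∃ y₁, y₁ = c • e + e := ⟨_, rfl⟩
    have hy₁Y : y₁ ∈ I l := hy₁ ▸ K.Kt_E hl hc he
    have hce : c • e = e + y₁ := by rw [hy₁, add_comm (c • e), tl]
    have hcm : c • m₁ = m₁ + z⁻¹ • e + s := by
      rw [hs]
      calc c • m₁ = c • m₁ + (m₁ + m₁) + (z⁻¹ • e + z⁻¹ • e) := by rw [two, two, add_zero, add_zero]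
        _ = _ := by abel
    obtain ⟨r', hr'⟩ : ∃ r', r' = c * r * c⁻¹ := ⟨_, rfl⟩
    have hr'A : r' ∈ K.AY l := hr' ▸ K.AY_conj hl hcl hr
    have hT : ∀ x : M, r' • (c • x) + c • x = c • (r • x + x) := by
      intro x
      rw [hr', mul_smul, inv_smul_smul, mul_smul, ← smul_add]
    -- `T_{r'} e`
    have h1 : r' • e + e = z • k + l := by
      have h2 := hT e
      rw [hce, smul_add, hr'A.1 y₁ hy₁Y, hre, hcu] at h2
      rw [← h2]
      calc r' • e + e = r' • e + e + (y₁ + y₁) := by rw [two, add_zero]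
        _ = _ := by abel
    have h2 : r' • m₁ + m₁ = y • l + w • k + (w * z⁻¹) • l + (k + z⁻¹ • l) := by
      have h3 := hT m₁
      have h3' : c • (y • l + w • k) = y • l + w • k + (w * z⁻¹) • l := by
        rw [smul_add, G.lin, G.lin, hcl, hck, smul_add, smul_smul]
        abel
      rw [hcm, smul_add, smul_add, hr'A.1 s hsY, G.lin, hrm, h3'] at h3
      have h4 : r' • (z⁻¹ • e) = z⁻¹ • e + (k + z⁻¹ • l) := by
        have h5 : r' • e = e + (z • k + l) := by rw [← h1, add_comm (r' • e), tl]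
        rw [G.lin, h5, smul_add, smul_add z⁻¹ (z • k), smul_smul z⁻¹ z, inv_mul_cancel₀ hz, one_smul]
      rw [← G.lin, h4] at h3
      rw [← h3]
      calc r' • m₁ + m₁ = r' • m₁ + m₁ + (z⁻¹ • e + z⁻¹ • e) + (s + s) + ((k + z⁻¹ • l) + (k + z⁻¹ • l)) := by
            rw [two, two, two, add_zero, add_zero, add_zero]
        _ = _ := by abel
    -- `t = r r' = a₀`
    obtain ⟨ht, htT⟩ := hmul hr hr'A
    obtain ⟨ht', htT'⟩ := hmul ha₀A ht
    have h3 : (a₀ * (r * r')) • e + e = 0 := by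
      rw [htT', htT, he', hre, h1]
      calc e + l + e + (z • k + (z • k + l)) = (e + e) + (l + l) + (z • k + z • k) := by abel
        _ = 0 := by simp only [two, add_zero]
    have h4 := hone _ ht' e (hall e heY) heY (G.eq_of_add h3)
    have h5 : (a₀ * (r * r')) • m₁ + m₁ = 0 := by rw [h4, one_smul, two]
    rw [htT', htT, ← hk', hrm, h2] at h5
    have h6 : ((w + 1) * z⁻¹) • l = 0 := by
      rw [← h5]
      calc ((w + 1) * z⁻¹) • l = (w * z⁻¹) • l + z⁻¹ • l := by rw [add_mul, add_smul, one_mul]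
        _ = (w * z⁻¹) • l + z⁻¹ • l + (k + k) + (y • l + y • l) + (w • k + w • k) := by
            rw [two, two, two, add_zero, add_zero, add_zero]
        _ = _ := by abel
    have h7 := (smul_eq_zero.1 h6).resolve_right (G.ne_zero hl)
    have h8 : w + 1 = 0 := (mul_eq_zero.1 h7).resolve_right (inv_ne_zero hz)
    have h9 : w • k = k := by
      have : (w + 1) • k = 0 := by rw [h8, zero_smul]
      rw [add_smul, one_smul] at this
      exact G.eq_of_add this
    exact ⟨y, by rw [hrm, h9]⟩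
  -- the end
  obtain ⟨d, hd0, hd1⟩ : ∃ d : F, d ≠ 0 ∧ d ≠ 1 := by
    by_contra hcon
    push Not at hcon
    have h1 : Nat.card F ≤ Nat.card Bool := by
      classical
      refine Nat.card_le_card_of_injective (fun x : F => decide (x = 0)) fun x y hxy => ?_
      simp only [decide_eq_decide] at hxy
      by_cases hx : x = 0
      · rw [hx, hxy.1 hx]
      · have hy : y ≠ 0 := fun h => hx (hxy.2 h)
        rw [hcon x hx, hcon y hy]
    have h2 : Nat.card Bool = 2 := by rw [Nat.card_eq_fintype_card, Fintype.card_bool]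
    omega
  have hd1' : (1 : F) + d ≠ 0 := by
    intro h
    apply hd1
    have h1 : ((1 : F) + d) • l = 0 := by rw [h, zero_smul]
    rw [add_smul, one_smul] at h1
    have h2 := G.eq_of_add h1
    have h3 : (d - 1) • l = 0 := by rw [sub_smul, one_smul, ← h2, sub_self]
    exact sub_eq_zero.1 ((smul_eq_zero.1 h3).resolve_right (G.ne_zero hl))
  have heL := hall e heY
  obtain ⟨r, hr, hre⟩ := htr e heL heY k hkY
  obtain ⟨s, hs, hse⟩ := htr e heL heY (d • k) ((I l).smul_mem d hkY)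
  have h1 : r • e + e = (1 : F) • k := by
    rw [hre, one_smul, add_comm e k, add_assoc, two, add_zero]
  have h2 : s • e + e = d • k := by
    rw [hse, add_comm e (d • k), add_assoc, two, add_zero]
  obtain ⟨hrs, hrsT⟩ := hmul hr hs
  have h3 : (r * s) • e + e = ((1 : F) + d) • k := by rw [hrsT, h1, h2, add_smul]
  obtain ⟨y₁, h4⟩ := main 1 one_ne_zero r hr h1
  obtain ⟨y₂, h5⟩ := main d hd0 s hs h2
  obtain ⟨y₃, h6⟩ := main _ hd1' _ hrs h3
  rw [hrsT, h4, h5] at h6
  apply hkl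
  have h7 : k = (y₁ + y₂ + y₃) • l := by
    rw [add_smul, add_smul]
    calc k = (y₃ • l + k) + y₃ • l := by
          rw [add_comm (y₃ • l) k, add_assoc, two, add_zero]
      _ = (y₁ • l + k + (y₂ • l + k)) + y₃ • l := by rw [h6]
      _ = y₁ • l + y₂ • l + y₃ • l + (k + k) := by abel
      _ = _ := by rw [two, add_zero]
  rw [h7]
  exact Submodule.smul_mem _ _ (Submodule.mem_span_singleton_self l)

end plane

end GenK

end Cfsg.Agent.Omega.NO3S.OneQ.TIq

end

section


/-!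
# NO-3S, `OneSz` (`q ≥ 4`, `n = 1`), case (N): the pure data without TI and with `D_x` arbitrary (bb OMEGA #20317)

* `Pre F L A I al` : the fields of `TIq.Gen` without `ti`, `fixI`, `cop`, `alpha`;
* `Pre.E` : `Ebar_l`, `Pre.Phi` : the pairing `Ebar_l × M → F`, `[e, al l x] = Phi e x • l`;
* `Pre.phi` : every `a ≠ 1` in `A l` moves some `e ∈ Ebar_l` by `l`.
-/

set_option autoImplicit false
set_option linter.unusedSimpArgs false
set_option linter.unusedSectionVars false

namespace Cfsg.Agent.Omega.NO3S.OneQ.Sg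

open Module TIq

/-- the fields -/
structure Pre (F : Type*) {M H : Type*} [Field F] [AddCommGroup M] [Module F M] [Group H] [DistribMulAction H M]
    (L : Set M) (A : M → Subgroup H) (I : M → Submodule F M) (al : M → M → H) : Prop where
  two : ∀ m : M, m + m = 0
  lin : ∀ (h : H) (c : F) (m : M), h • (c • m) = c • (h • m)
  zero : (0 : M) ∉ L
  gen : Submodule.span F L = ⊤
  smul : ∀ (h : H) {l : M}, l ∈ L → h • l ∈ L
  fsm : ∀ {c : F} {l : M}, c ≠ 0 → l ∈ L → c • l ∈ L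
  A_sm : ∀ {c : F} {l : M}, c ≠ 0 → l ∈ L → A (c • l) = A l
  I_sm : ∀ {c : F} {l : M}, c ≠ 0 → l ∈ L → I (c • l) = I l
  trans : ∀ {l m : M}, l ∈ L → m ∈ L → ∃ (h : H) (c : F), c ≠ 0 ∧ h • l = c • m
  A_conj : ∀ (h : H) {l : M} {a : H}, l ∈ L → a ∈ A l → h * a * h⁻¹ ∈ A (h • l)
  I_conj : ∀ (h : H) {l u : M}, l ∈ L → u ∈ I l → h • u ∈ I (h • l)
  sq : ∀ {l : M} {a : H}, l ∈ L → a ∈ A l → a * a = 1
  ne : ∀ {l : M}, l ∈ L → ∃ a ∈ A l, a ≠ 1
  self : ∀ {l : M}, l ∈ L → l ∈ I l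
  comm : ∀ {l : M} {a : H}, l ∈ L → a ∈ A l → ∀ m : M, a • m + m ∈ I l
  fix : ∀ {l : M} {a : H} {u : M}, l ∈ L → a ∈ A l → u ∈ I l → a • u = u
  /-- planes -/
  plane : ∀ {l m : M}, l ∈ L → m ∈ L → m ∈ I l → ∀ c : F, l + c • m = 0 ∨ l + c • m ∈ L
  al_mem : ∀ {l : M}, l ∈ L → ∀ m, al l m ∈ A l
  al_add : ∀ {l : M}, l ∈ L → ∀ m m', al l (m + m') = al l m * al l m'
  al_surj : ∀ {l : M} {a : H}, l ∈ L → a ∈ A l → ∃ m, al l m = a
  al_conj : ∀ {l : M} {h : H}, l ∈ L → h • l = l → ∀ m, al l (h • m) = h * al l m * h⁻¹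
  al_ker : ∀ {l : M}, l ∈ L → ∀ m, al l m = 1 ↔ ∀ a ∈ A l, ∃ c : F, a • m = m + c • l
  /-- `beta` is symmetric -/
  sy : ∀ {l : M}, l ∈ L → ∀ m m', ∃ c : F, al l m' • m + m + (al l m • m' + m') = c • l
  /-- `phi_e` is `F`-linear -/
  phl : ∀ {l : M}, l ∈ L → ∀ (c : F) (e x : M), al l e = 1 → al l (c • x) • e + e = c • (al l x • e + e)
  /-- `beta` is `F`-linear -/
  bl : ∀ {l : M}, l ∈ L → ∀ (c : F) (m x : M), ∃ d : F, al l (c • x) • m + m = c • (al l x • m + m) + d • l
  /-- the duality `Ebar / Dbar = Hom_F(A, F)` -/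
  dual : ∀ {l : M}, l ∈ L → ∀ f : M →ₗ[F] F, (∀ e, al l e = 1 → f e = 0) →
    ∃ e, al l e = 1 ∧ ∀ x, al l x • e + e = f x • l

namespace Pre

variable {F M H : Type*} [Field F] [AddCommGroup M] [Module F M] [Group H] [DistribMulAction H M] {L : Set M}
    {A : M → Subgroup H} {I : M → Submodule F M} {al : M → M → H}

/-- the missing fields -/
theorem toGen (G : Pre F L A I al) (fixI : ∀ {l u : M}, l ∈ L → (∀ a ∈ A l, a • u = u) → u ∈ I l)
    (ti : ∀ {l m : M} {a : H}, l ∈ L → m ∈ L → a ∈ A l → a ∈ A m → a ≠ 1 → ∃ c : F, m = c • l)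
    (cop : ∀ {l m u : M}, l ∈ L → m ∈ L → m ∈ I l → u ∈ I m → al l u = 1)
    (alpha : ∀ {l m u : M}, l ∈ L → m ∈ L → NP F l m → u ∈ I l → u ∈ I m → u ≠ 0 → al l m • m = m) :
    Gen F L A I al :=
  { G with
    fixI := fixI
    ti := ti
    cop := cop
    alpha := alpha }

section

variable (G : Pre F L A I al)
include G

theorem two_left (x y : M) : x + (x + y) = y := by
  rw [← add_assoc, G.two, zero_add]

theorem eq_of_add {x y : M} (h : x + y = 0) : x = y := by
  calc x = x + y + y := by rw [add_assoc, G.two, add_zero]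
    _ = y := by rw [h, zero_add]

theorem add_eq {x y z : M} (h : x + y = z) : x = y + z := by
  rw [← h, add_comm x y, G.two_left]

theorem neg_eq (x : M) : -x = x := neg_eq_of_add_eq_zero_left (G.two x)

theorem ne_zero {l : M} (hl : l ∈ L) : l ≠ 0 := fun h => G.zero (h ▸ hl)

theorem two_F {l : M} (hl : l ∈ L) (c : F) : c + c = 0 := by
  have h0 := G.ne_zero hl
  have : (c + c) • l = 0 := by rw [add_smul, G.two]
  exact (smul_eq_zero.1 this).resolve_right h0

theorem eq_of_add_F {l : M} (hl : l ∈ L) {c d : F} (h : c + d = 0) : c = d := by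
  calc c = c + d + d := by rw [add_assoc, G.two_F hl, add_zero]
    _ = d := by rw [h, zero_add]

theorem smul_inj {l : M} (hl : l ∈ L) {c d : F} (h : c • l = d • l) : c = d := by
  have h0 := G.ne_zero hl
  have : (c - d) • l = 0 := by rw [sub_smul, h, sub_self]
  exact sub_eq_zero.1 ((smul_eq_zero.1 this).resolve_right h0)

theorem sq_one {c : F} {l : M} (hl : l ∈ L) (h : (c * c) • l = l) : c = 1 := by
  have h0 := G.ne_zero hl
  have h1 : (c * c - 1) • l = 0 := by rw [sub_smul, one_smul, h, sub_self]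
  have h2 : c * c - 1 = 0 := (smul_eq_zero.1 h1).resolve_right h0
  have h3 : (1 : F) + 1 = 0 := G.two_F hl 1
  have h4 : (c - 1) * (c - 1) = 0 := by
    have : (c - 1) * (c - 1) = (c * c - 1) - (1 + 1) * (c - 1) := by ring
    rw [this, h2, h3]; ring
  have h5 := mul_self_eq_zero.1 h4
  exact sub_eq_zero.1 h5

/-- an involution which fixes the point fixes the vector -/
theorem fix_of_inv {h : H} {c : F} {l : M} (hl : l ∈ L) (hh : h * h = 1) (hc : h • l = c • l) : h • l = l := by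
  have h1 : (c * c) • l = l := by
    have : h • (h • l) = l := by rw [← mul_smul, hh, one_smul]
    rw [hc, G.lin, hc, smul_smul] at this
    exact this
  rw [hc, G.sq_one hl h1, one_smul]

theorem np_symm {l m : M} (hl : l ∈ L) (_hm : m ∈ L) (h : NP F l m) : NP F m l := by
  intro c hc
  have hc0 : c ≠ 0 := by
    rintro rfl
    rw [zero_smul] at hc
    exact G.ne_zero hl hc
  exact h c⁻¹ (by rw [hc, smul_smul, inv_mul_cancel₀ hc0, one_smul])

theorem np_smul {l m : M} {c : F} (hc : c ≠ 0) (h : NP F l m) : NP F l (c • m) := by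
  intro d hd
  exact h (c⁻¹ * d) (by rw [mul_smul, ← hd, smul_smul, inv_mul_cancel₀ hc, one_smul])

theorem inv {l : M} {a : H} (hl : l ∈ L) (ha : a ∈ A l) : a⁻¹ = a :=
  inv_eq_of_mul_eq_one_left (G.sq hl ha)

theorem A_comm {l : M} {a b : H} (hl : l ∈ L) (ha : a ∈ A l) (hb : b ∈ A l) : a * b = b * a := by
  have h := G.sq hl (mul_mem ha hb)
  calc a * b = (a * b)⁻¹ := (inv_eq_of_mul_eq_one_left h).symm
    _ = b * a := by rw [mul_inv_rev, G.inv hl ha, G.inv hl hb]

/-- conjugate by an element fixing `l` -/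
theorem A_conj_fix {l : M} {a h : H} (hl : l ∈ L) (ha : a ∈ A l) (hhl : h • l = l) : h * a * h⁻¹ ∈ A l := by
  have := G.A_conj h hl ha
  rwa [hhl] at this

/-- conjugate by an involution fixing `l` -/
theorem A_conj' {l : M} {a h : H} (hl : l ∈ L) (ha : a ∈ A l) (hh : h * h = 1) (hhl : h • l = l) :
    h * a * h ∈ A l := by
  have := G.A_conj h hl ha
  rwa [hhl, inv_eq_of_mul_eq_one_left hh] at this

theorem I_conj' {l u : M} {h : H} (hl : l ∈ L) (hu : u ∈ I l) (hhl : h • l = l) : h • u ∈ I l := by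
  have := G.I_conj h hl hu
  rwa [hhl] at this

theorem A_fix {l : M} {a : H} (hl : l ∈ L) (ha : a ∈ A l) : a • l = l := G.fix hl ha (G.self hl)

theorem al_I_one {l u : M} (hl : l ∈ L) (hu : u ∈ I l) : al l u = 1 :=
  (G.al_ker hl u).2 fun _ ha => ⟨0, by rw [zero_smul, add_zero]; exact G.fix hl ha hu⟩

theorem al_zero {l : M} (hl : l ∈ L) : al l 0 = 1 := by
  have := G.al_add hl 0 0
  rw [add_zero] at this
  exact (mul_eq_left.1 this.symm)

theorem al_sm_one {l e : M} (hl : l ∈ L) (c : F) (he : al l e = 1) : al l (c • e) = 1 := by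
  rw [G.al_ker hl] at he ⊢
  intro a ha
  obtain ⟨d, hd⟩ := he a ha
  exact ⟨c * d, by rw [G.lin, hd, smul_add, smul_smul]⟩

theorem fsm' {l : M} {c : F} (hl : l ∈ L) (h : c • l ≠ 0) : c • l ∈ L :=
  G.fsm (fun h0 => h (by rw [h0, zero_smul])) hl

end

/-- `Ebar_l` -/
def E (G : Pre F L A I al) {l : M} (hl : l ∈ L) : Submodule F M where
  carrier := {e | al l e = 1}
  add_mem' := fun {a b} ha hb => by
    change al l (a + b) = 1
    rw [G.al_add hl]
    rw [show al l a = 1 from ha, show al l b = 1 from hb, one_mul]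
  zero_mem' := G.al_zero hl
  smul_mem' := fun c _ hx => G.al_sm_one hl c hx

theorem mem_E (G : Pre F L A I al) {l e : M} (hl : l ∈ L) : e ∈ G.E hl ↔ al l e = 1 := Iff.rfl

theorem I_le_E (G : Pre F L A I al) {l : M} (hl : l ∈ L) : I l ≤ G.E hl := fun _ hu => G.al_I_one hl hu

/-- a functional which kills `Ebar_l` and not `x` -/
theorem exists_functional (G : Pre F L A I al) {l x : M} (hl : l ∈ L) (hx : al l x ≠ 1) :
    ∃ f : M →ₗ[F] F, (∀ e, al l e = 1 → f e = 0) ∧ f x = 1 := by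
  obtain ⟨f, hf, hf'⟩ := Submodule.exists_le_ker_of_notMem (p := G.E hl) (v := x) hx
  refine ⟨(f x)⁻¹ • f, fun y hy => ?_, by rw [LinearMap.smul_apply, smul_eq_mul, inv_mul_cancel₀ hf]⟩
  have : y ∈ LinearMap.ker f := hf' hy
  rw [LinearMap.mem_ker] at this
  simp [this]

/-- every `a ≠ 1` moves some `e ∈ E_l` by `l` -/
theorem phi (G : Pre F L A I al) {l : M} {a : H} (hl : l ∈ L) (ha : a ∈ A l) (h1 : a ≠ 1) :
    ∃ e, al l e = 1 ∧ a • e = e + l := by
  obtain ⟨x, rfl⟩ := G.al_surj hl ha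
  obtain ⟨f, hf, hfx⟩ := G.exists_functional hl h1
  obtain ⟨e, he, he'⟩ := G.dual hl f hf
  refine ⟨e, he, ?_⟩
  have := he' x
  rw [hfx, one_smul] at this
  exact G.add_eq this

theorem phi_ex (G : Pre F L A I al) {l e : M} (hl : l ∈ L) (he : al l e = 1) (x : M) :
    ∃ c : F, al l x • e + e = c • l := by
  obtain ⟨c, hc⟩ := (G.al_ker hl e).1 he _ (G.al_mem hl x)
  exact ⟨c, by rw [hc, add_comm, ← add_assoc, G.two, zero_add]⟩

/-- the pairing -/
noncomputable def Phi (G : Pre F L A I al) {l : M} (hl : l ∈ L) : G.E hl →ₗ[F] M →ₗ[F] F :=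
  LinearMap.mk₂ F (fun e x => coef F l (al l x • (e : M) + e))
    (fun e e' x => by
      obtain ⟨c, hc⟩ := G.phi_ex hl e.2 x
      obtain ⟨c', hc'⟩ := G.phi_ex hl e'.2 x
      have : al l x • ((e + e' : G.E hl) : M) + ((e + e' : G.E hl) : M) = (c + c') • l := by
        rw [Submodule.coe_add, smul_add, add_smul, ← hc, ← hc']; abel
      rw [this, hc, hc', coef_smul (G.ne_zero hl), coef_smul (G.ne_zero hl), coef_smul (G.ne_zero hl)])
    (fun d e x => by
      obtain ⟨c, hc⟩ := G.phi_ex hl e.2 x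
      have : al l x • ((d • e : G.E hl) : M) + ((d • e : G.E hl) : M) = (d * c) • l := by
        rw [Submodule.coe_smul, G.lin, ← smul_add, hc, smul_smul]
      rw [this, hc, coef_smul (G.ne_zero hl), coef_smul (G.ne_zero hl), smul_eq_mul])
    (fun e x x' => by
      obtain ⟨c, hc⟩ := G.phi_ex hl e.2 x
      obtain ⟨c', hc'⟩ := G.phi_ex hl e.2 x'
      have h1 : al l x' • (e : M) = e + c' • l := by
        rw [← hc', add_comm (al l x' • (e : M)) _, G.two_left]
      have h2 : al l x • (e : M) = e + c • l := by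
        rw [← hc, add_comm (al l x • (e : M)) _, G.two_left]
      have : al l (x + x') • (e : M) + (e : M) = (c + c') • l := by
        rw [G.al_add hl, mul_smul, h1, smul_add, h2, G.lin, G.A_fix hl (G.al_mem hl x), add_smul]
        have := G.two (e : M)
        calc (e : M) + c • l + c' • l + e = (e + e) + (c • l + c' • l) := by abel
          _ = c • l + c' • l := by rw [this, zero_add]
      rw [this, hc, hc', coef_smul (G.ne_zero hl), coef_smul (G.ne_zero hl), coef_smul (G.ne_zero hl)])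
    (fun d e x => by
      obtain ⟨c, hc⟩ := G.phi_ex hl e.2 x
      have : al l (d • x) • (e : M) + (e : M) = (d * c) • l := by
        rw [G.phl hl d _ x e.2, hc, smul_smul]
      rw [this, hc, coef_smul (G.ne_zero hl), coef_smul (G.ne_zero hl), smul_eq_mul])

theorem Phi_spec (G : Pre F L A I al) {l : M} (hl : l ∈ L) (e : G.E hl) (x : M) :
    al l x • (e : M) + e = G.Phi hl e x • l := by
  have := coef_spec (G.phi_ex hl e.2 x)
  exact this

theorem Phi_spec' (G : Pre F L A I al) {l : M} (hl : l ∈ L) (e : G.E hl) (x : M) :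
    al l x • (e : M) = e + G.Phi hl e x • l := by
  rw [← G.Phi_spec hl e x, add_comm (al l x • (e : M)) _, G.two_left]

theorem Phi_eq (G : Pre F L A I al) {l : M} (hl : l ∈ L) (e : G.E hl) (x : M) {c : F}
    (h : al l x • (e : M) = e + c • l) : G.Phi hl e x = c := by
  rw [G.Phi_spec' hl] at h
  exact G.smul_inj hl (add_left_cancel h)

theorem Phi_surj (G : Pre F L A I al) {l : M} (hl : l ∈ L) {f : M →ₗ[F] F} (hf : ∀ e, al l e = 1 → f e = 0) :
    ∃ e : G.E hl, G.Phi hl e = f := by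
  obtain ⟨e, he, h⟩ := G.dual hl f hf
  refine ⟨⟨e, he⟩, ?_⟩
  ext x
  apply G.Phi_eq hl
  have := h x
  change al l x • e = e + f x • l
  rw [← this, add_comm (al l x • e) e, G.two_left]

theorem Phi_E (G : Pre F L A I al) {l : M} (hl : l ∈ L) (e : G.E hl) {x : M} (hx : al l x = 1) :
    G.Phi hl e x = 0 := by
  apply G.Phi_eq hl
  rw [hx, one_smul, zero_smul, add_zero]

/-- the common zeros of the functionals are `Ebar_l` -/
theorem Phi_sep (G : Pre F L A I al) {l x : M} (hl : l ∈ L) (hx : ∀ e : G.E hl, G.Phi hl e x = 0) : al l x = 1 := by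
  by_contra h1
  obtain ⟨f, hf, hfx⟩ := G.exists_functional hl h1
  obtain ⟨e, rfl⟩ := G.Phi_surj hl hf
  rw [hx e] at hfx
  exact zero_ne_one hfx

end Pre

end Cfsg.Agent.Omega.NO3S.OneQ.Sg

end

section


/-!
# NO-3S, `OneSz` (`q ≥ 4`, `n = 1`), case (N), `k ≥ 2`: SIGMA (bb OMEGA #20317 (D), #20578)

* `SgJ` : `Pre` and J: for `m ∉ Ebar_l`, `l ∉ Ebar_m`, `a ∈ A_l`, `[m, a] ∉ Ebar_m` some `j ∈ I_m ∩ Ebar_l` is fixed
  by `a` and not by `A_l`;
* `Hyp` : `l`, `m` is a hyperbolic pair: `[λ_m, A_l] = λ_l`, `[λ_l, A_m] = λ_m`;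
* **`SgJ.sigma`** : if `a ∈ A_l` inverts `o ≠ 1` of odd order, then `l`, `o l` is hyperbolic and `a` moves `o l`.
-/

set_option autoImplicit false
set_option linter.unusedSimpArgs false
set_option linter.unusedSectionVars false

namespace Cfsg.Agent.Omega.NO3S.OneQ.Sg

open Module TIq

/-- an element of odd order is a power of its square -/
theorem odd_sq {H : Type*} [Group H] {o : H} (ho : Odd (orderOf o)) : ∃ k : ℕ, o = (o * o) ^ k := by
  obtain ⟨j, hj⟩ := ho
  refine ⟨j + 1, ?_⟩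
  rw [← pow_two, ← pow_mul]
  have e : 2 * (j + 1) = orderOf o + 1 := by omega
  rw [e, pow_succ, pow_orderOf_eq_one, one_mul]

theorem odd_fix {H X : Type*} [Group H] [MulAction H X] {o : H} (ho : Odd (orderOf o)) {m : X}
    (hm : (o * o) • m = m) : o • m = m := by
  obtain ⟨k, hk⟩ := odd_sq ho
  have h1 : ∀ k : ℕ, (o * o) ^ k • m = m := by
    intro k
    induction k with
    | zero => rw [pow_zero, one_smul]
    | succ n ih => rw [pow_succ, mul_smul, hm, ih]
  rw [hk]; exact h1 k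

theorem odd_four {H : Type*} [Group H] {o : H} (ho : Odd (orderOf o)) (h4 : (o * o) * (o * o) = 1) : o = 1 := by
  have h5 : o ^ 4 = 1 := by
    calc o ^ 4 = (o * o) * (o * o) := by
          rw [show (4 : ℕ) = 2 * 2 from rfl, pow_mul, pow_two, pow_two]
      _ = 1 := h4
  have h6 : orderOf o ∣ 4 := orderOf_dvd_of_pow_eq_one h5
  have h7 : Nat.Coprime (orderOf o) 4 := by
    have h8 : Nat.Coprime (orderOf o) 2 := Nat.Coprime.symm (Nat.coprime_two_left.mpr ho)
    exact Nat.Coprime.pow_right 2 h8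
  have h8 : orderOf o = 1 := Nat.Coprime.eq_one_of_dvd h7 h6
  exact orderOf_eq_one_iff.mp h8

/-- a hyperbolic pair -/
structure Hyp {M H : Type*} [AddCommGroup M] [Group H] [DistribMulAction H M] (A : M → Subgroup H) (al : M → M → H)
    (l m : M) : Prop where
  al1 : al l m = 1
  al2 : al m l = 1
  mv1 : ∃ a ∈ A l, a • m ≠ m
  mv2 : ∃ a ∈ A m, a • l ≠ l

theorem Hyp.symm {M H : Type*} [AddCommGroup M] [Group H] [DistribMulAction H M] {A : M → Subgroup H} {al : M → M → H}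
    {l m : M} (h : Hyp A al l m) : Hyp A al m l := ⟨h.al2, h.al1, h.mv2, h.mv1⟩

/-- `Pre` and J -/
structure SgJ (F : Type*) {M H : Type*} [Field F] [AddCommGroup M] [Module F M] [Group H] [DistribMulAction H M]
    (L : Set M) (A : M → Subgroup H) (I : M → Submodule F M) (al : M → M → H) : Prop extends Pre F L A I al where
  J : ∀ {l m : M} {a : H}, l ∈ L → m ∈ L → al l m ≠ 1 → al m l ≠ 1 → a ∈ A l → al m (a • m + m) ≠ 1 →
    ∃ j ∈ I m, al l j = 1 ∧ a • j = j ∧ ∃ b ∈ A l, b • j ≠ j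

namespace Pre

variable {F M H : Type*} [Field F] [AddCommGroup M] [Module F M] [Group H] [DistribMulAction H M] {L : Set M}
    {A : M → Subgroup H} {I : M → Submodule F M} {al : M → M → H} (G : Pre F L A I al)
include G

section odd

variable {l : M} {a o : H} (hl : l ∈ L) (ha : a ∈ A l) (ho1 : o ≠ 1) (ho : Odd (orderOf o)) (hao : a * o * a⁻¹ = o⁻¹)
include hl ha

include hao in
theorem odd_aa : o * a * o⁻¹ * a⁻¹ = o * o := by
  have h1 : a * o⁻¹ * a⁻¹ = o := by
    have : (a * o * a⁻¹)⁻¹ = a * o⁻¹ * a⁻¹ := by group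
    rw [← this, hao, inv_inv]
  calc o * a * o⁻¹ * a⁻¹ = o * (a * o⁻¹ * a⁻¹) := by group
    _ = o * o := by rw [h1]

include ho1 ho hao in
/-- the point of `o l` is not the point of `l` -/
theorem odd_np : NP F l (o • l) := by
  intro c hc
  have hc0 : c ≠ 0 := by
    rintro rfl
    rw [zero_smul] at hc
    exact G.ne_zero (G.smul o hl) hc
  have h1 := G.A_conj o hl ha
  rw [hc, G.A_sm hc0 hl] at h1
  have h2 := mul_mem h1 (inv_mem ha)
  rw [G.odd_aa hl ha hao] at h2
  exact ho1 (odd_four ho (G.sq hl h2))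

include ho1 ho hao in
theorem odd_ne : o • l ≠ l := fun e => G.odd_np hl ha ho1 ho hao 1 (by rw [e, one_smul])

include hao in
/-- `o a` interchanges `l` and `o l` -/
theorem odd_swap : (o * a) • l = o • l ∧ (o * a) • (o • l) = l ∧ (o * a) * (o * a) = 1 ∧
    (o * a) * a * (o * a)⁻¹ = o * a * o⁻¹ := by
  have hal := G.A_fix hl ha
  have hai := G.inv hl ha
  have h1 : o * a * o = a := by
    rw [hai] at hao
    calc o * a * o = o * (a * o * a) * a⁻¹ := by group
      _ = o * o⁻¹ * a⁻¹ := by rw [hao]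
      _ = a := by rw [mul_inv_cancel, one_mul, hai]
  refine ⟨by rw [mul_smul, hal], by rw [smul_smul, h1, hal], ?_, by group⟩
  rw [← mul_assoc, h1, G.sq hl ha]

include ho1 ho hao in
theorem odd_move : a • (o • l) ≠ o • l := by
  intro h1
  have hal := G.A_fix hl ha
  have hai := G.inv hl ha
  have h2 := G.odd_aa hl ha hao
  have h3 : (o * a * o⁻¹) • (o • l) = o • l := by
    rw [smul_smul, inv_mul_cancel_right, mul_smul, hal]
  have h4 : (o * o) • (o • l) = o • l := by
    rw [← h2, mul_smul, hai, h1, h3]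
  have h5 := odd_fix ho h4
  exact G.odd_ne hl ha ho1 ho hao (by simpa using congrArg (fun x => o⁻¹ • x) h5)

end odd

end Pre

namespace SgJ

variable {F M H : Type*} [Field F] [AddCommGroup M] [Module F M] [Group H] [DistribMulAction H M] {L : Set M}
    {A : M → Subgroup H} {I : M → Submodule F M} {al : M → M → H} (G : SgJ F L A I al)
include G

/-- **SIGMA** -/
theorem sigma {l : M} {a o : H} (hl : l ∈ L) (ha : a ∈ A l) (ho1 : o ≠ 1) (ho : Odd (orderOf o))
    (hao : a * o * a⁻¹ = o⁻¹) : Hyp A al l (o • l) ∧ a • (o • l) ≠ o • l := by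
  have P := G.toPre
  have hmv := P.odd_move hl ha ho1 ho hao
  refine ⟨?_, hmv⟩
  obtain ⟨ht1, ht2, ht3, ht4⟩ := P.odd_swap hl ha hao
  have hal := P.A_fix hl ha
  have hai := P.inv hl ha
  obtain ⟨m, hm0⟩ : ∃ m, m = o • l := ⟨_, rfl⟩
  obtain ⟨t, ht0⟩ : ∃ t, t = o * a := ⟨_, rfl⟩
  obtain ⟨a', ha0⟩ : ∃ a', a' = o * a * o⁻¹ := ⟨_, rfl⟩
  rw [← hm0, ← ht0] at ht1 ht2
  rw [← hm0] at hmv ⊢
  rw [← ht0] at ht3
  rw [← ha0, ← ht0] at ht4
  have hm : m ∈ L := hm0 ▸ P.smul o hl
  have hti : t⁻¹ = t := inv_eq_of_mul_eq_one_left ht3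
  have ha' : a' ∈ A m := by rw [ha0, hm0]; exact P.A_conj o hl ha
  have ha'm : a' • m = m := P.A_fix hm ha'
  have haa : a' * a = o * o := by
    have := P.odd_aa hl ha hao
    rw [← ha0, hai] at this
    exact this
  have ht5 : ∀ x : M, t • (a • x) = a' • (t • x) := by
    intro x
    rw [← ht4, smul_smul, smul_smul]
    congr 1
    rw [inv_mul_cancel_right]
  have ht6 : ∀ x : M, t • (a' • x) = a • (t • x) := by
    intro x
    have h1 := ht5 (t • x)
    rw [smul_smul t t, ht3, one_smul] at h1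
    rw [← h1, smul_smul t t, ht3, one_smul]
  have ht7 : ∀ x : M, t • (t • x) = x := by
    intro x
    rw [smul_smul, ht3, one_smul]
  -- `t` maps `Ebar_m` to `Ebar_l`
  have htE : ∀ x, al m x = 1 → al l (t • x) = 1 := by
    intro x hx
    rw [P.al_ker hl]
    intro b hb
    have h1 : t * b * t⁻¹ ∈ A m := by
      have := P.A_conj t hl hb
      rwa [ht1] at this
    obtain ⟨c, hc⟩ := (P.al_ker hm x).1 hx _ h1
    refine ⟨c, ?_⟩
    have h2 : b • (t • x) = t • ((t * b * t⁻¹) • x) := by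
      rw [smul_smul, smul_smul]
      congr 1
      rw [hti, ← mul_assoc, ← mul_assoc, ht3, one_mul]
    rw [h2, hc, smul_add, P.lin, ht2]
  have hswap : t • (a • m + m) = a' • l + l := by rw [smul_add, ht5, ht2]
  by_cases hE : al m l = 1
  · -- `λ_l ≤ Ebar_m`
    refine ⟨?_, hE, ⟨a, ha, hmv⟩, ⟨a', ha', ?_⟩⟩
    · have := htE l hE
      rwa [ht1] at this
    · intro h1
      apply hmv
      have h2 := congrArg (fun x => t • x) h1
      simp only [ht6, ht1] at h2
      exact h2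
  · exfalso
    have hE' : al l m ≠ 1 := by
      intro h1
      apply hE
      -- use the symmetry
      rw [P.al_ker hm]
      intro b hb
      have h2 : t * b * t⁻¹ ∈ A l := by
        have := P.A_conj t hm hb
        rwa [ht2] at this
      obtain ⟨c, hc⟩ := (P.al_ker hl m).1 h1 _ h2
      refine ⟨c, ?_⟩
      have h3 : b • l = t • ((t * b * t⁻¹) • m) := by
        rw [smul_smul, ← ht2, smul_smul]
        congr 1
        rw [hti, ← mul_assoc, ← mul_assoc, ht3, one_mul]
      rw [h3, hc, smul_add, P.lin, ht2, ht1]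
    by_cases hw : al m (a • m + m) = 1
    · -- `[m, a] ∈ Ebar_m`
      obtain ⟨w, hw0⟩ : ∃ w, w = a • m + m := ⟨_, rfl⟩
      rw [← hw0] at hw
      have haw : a • w = w := P.fix hl ha (hw0 ▸ P.comm hl ha m)
      obtain ⟨c, hc⟩ := (P.al_ker hm w).1 hw a' ha'
      have ham : a • m = m + w := by rw [hw0, add_comm (a • m), P.two_left]
      by_cases hc0 : c = 0
      · -- `a'` fixes `w`
        rw [hc0, zero_smul, add_zero] at hc
        have h1 : (o * o) • m = m + w := by rw [← haa, mul_smul, ham, smul_add, ha'm, hc]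
        have h2 : (o * o) • w = w := by rw [← haa, mul_smul, haw, hc]
        have h3 : (o * o) • ((o * o) • m) = m := by
          rw [h1, smul_add, h1, h2, add_assoc, P.two, add_zero]
        -- `o⁴ m = m`
        have ho2 : Odd (orderOf (o * o)) := by
          rw [← pow_two]
          have h4 : Nat.Coprime (orderOf o) 2 := (Nat.coprime_two_left.mpr ho).symm
          rw [Nat.Coprime.orderOf_pow h4]
          exact ho
        have h4 : (o * o) • m = m := odd_fix ho2 (by rw [mul_smul]; exact h3)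
        have h5 := odd_fix ho h4
        apply P.odd_ne hl ha ho1 ho hao
        rw [hm0] at h5
        simpa using congrArg (fun x => o⁻¹ • x) h5
      · -- `U = F l + F w'`
        obtain ⟨w', hw'0⟩ : ∃ w', w' = a' • l + l := ⟨_, rfl⟩
        have htw : t • w = w' := by rw [hw0, hw'0, hswap]
        have htw' : t • w' = w := by rw [← htw, ht7]
        have haw' : a • w' = w' + c • l := by
          have h1 := congrArg (fun x => t • x) hc
          simp only [ht6, smul_add, P.lin, ht2, htw] at h1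
          exact h1
        have ha'w' : a' • w' = w' := P.fix hm ha' (hw'0 ▸ P.comm hm ha' l)
        have ha'l : a' • l = l + w' := by rw [hw'0, add_comm (a' • l), P.two_left]
        -- the invariant subspace
        have hinv : ∀ x y : F, (o * o) • (x • l + y • w') = (x + y * c) • l + (x + y * c + y) • w' := by
          intro x y
          rw [← haa, mul_smul, smul_add, P.lin a x, hal, P.lin a y, haw', smul_add, smul_add, P.lin, smul_add, P.lin,
            P.lin, P.lin, ha'w', ha'l]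
          rw [smul_smul]
          module
        obtain ⟨k, hk⟩ := odd_sq ho
        have hinvk : ∀ k : ℕ, ∀ x y : F, ∃ x' y' : F, (o * o) ^ k • (x • l + y • w') = x' • l + y' • w' := by
          intro k
          induction k with
          | zero => exact fun x y => ⟨x, y, by rw [pow_zero, one_smul]⟩
          | succ n ih =>
            intro x y
            rw [pow_succ, mul_smul, hinv]
            exact ih _ _
        obtain ⟨x, y, hxy⟩ := hinvk k 1 0
        have hmxy : m = x • l + y • w' := by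
          rw [← hxy, ← hk, one_smul, zero_smul, add_zero]
          exact hm0
        -- `a'` fixes `m`
        have h1 : x • w' = 0 := by
          have h2 := ha'm
          rw [hmxy, smul_add, P.lin, P.lin, ha'w', ha'l, smul_add] at h2
          have h3 : x • l + x • w' + y • w' = (x • l + y • w') + x • w' := by abel
          rw [h3] at h2
          exact add_eq_left.1 h2
        have hw'ne : w' ≠ 0 := by
          intro h2
          rw [h2, smul_zero, add_zero] at hmxy
          exact P.odd_np hl ha ho1 ho hao x (by rw [← hm0]; exact hmxy)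
        have hx : x = 0 := (smul_eq_zero.1 h1).resolve_right hw'ne
        rw [hx, zero_smul, zero_add] at hmxy
        -- `w' ∈ Ebar_l`
        have hw'E : al l w' = 1 := by rw [← htw]; exact htE w hw
        apply hE'
        rw [hmxy]
        exact P.al_sm_one hl y hw'E
    · -- J
      obtain ⟨j, hj, hjE, haj, b, hb, hbj⟩ := G.J hl hm hE' hE ha hw
      have h1 : a' • j = j := P.fix hm ha' hj
      have h2 : (o * o) • j = j := by rw [← haa, mul_smul, haj, h1]
      have h3 := odd_fix ho h2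
      have h4 : j ∈ I l := by
        have h5 := P.I_conj o⁻¹ hm hj
        have h6 : o⁻¹ • m = l := by rw [hm0, inv_smul_smul]
        have h7 : o⁻¹ • j = j := by
          conv_lhs => rw [← h3]
          rw [inv_smul_smul]
        rwa [h6, h7] at h5
      exact hbj (P.fix hl hb h4)

end SgJ

end Cfsg.Agent.Omega.NO3S.OneQ.Sg

end

section


/-!
# NO-3S, `OneSz` (`q ≥ 4`, `n = 1`), case (N), `k ≥ 2`: hyperbolic pairs and `GL(A_l)` (bb OMEGA #20317 (E))

* `Pre.hyp_inf`, `hyp_comm`, `hyp_free`, `hyp_surj` : a hyperbolic pair `l`, `w`: `A_l ∩ A_w = 1`, `[B, B'] = 1`,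
  `C_{B'}(a) = 1` for `a ∈ A_l - B`, `b ↦ [b, a]` is a bijection `B' → B`;
* `Pre.hyp_transv` : `B'` induces all transvections of `A_l` with axis `B`;
* `SgB` : `SgJ` and: every `a ≠ 1` in `A_l` inverts some `o ≠ 1` of odd order;
* **`SgB.axis`** : every functional `f ≠ 0` on `A_l` is `φ_w` for a hyperbolic `w`; **`SgB.transv`**.
-/

set_option autoImplicit false
set_option linter.unusedSimpArgs false
set_option linter.unusedSectionVars false

namespace Cfsg.Agent.Omega.NO3S.OneQ.Sg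

open Module TIq

namespace Pre

variable {F M H : Type*} [Field F] [AddCommGroup M] [Module F M] [Group H] [DistribMulAction H M] {L : Set M}
    {A : M → Subgroup H} {I : M → Submodule F M} {al : M → M → H} (G : Pre F L A I al)
include G

theorem al_congr {l x y : M} (hl : l ∈ L) : al l x = al l y ↔ al l (x + y) = 1 := by
  rw [G.al_add hl]
  constructor
  · intro h
    rw [h]
    exact G.sq hl (G.al_mem hl y)
  · intro h
    have := inv_eq_of_mul_eq_one_left h
    rw [← this, G.inv hl (G.al_mem hl y)]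

theorem al_smul_congr {l x y : M} (hl : l ∈ L) (c : F) (h : al l x = al l y) : al l (c • x) = al l (c • y) := by
  rw [G.al_congr hl] at h ⊢
  rw [← smul_add]
  exact G.al_sm_one hl c h

/-- conjugation of `al l m = 1` -/
theorem al_one_conj (h : H) {l m : M} (hl : l ∈ L) (hm : al l m = 1) : al (h • l) (h • m) = 1 := by
  rw [G.al_ker (G.smul h hl)]
  intro b hb
  have h1 : h⁻¹ * b * h ∈ A l := by
    have := G.A_conj h⁻¹ (G.smul h hl) hb
    rwa [inv_smul_smul, inv_inv] at this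
  obtain ⟨c, hc⟩ := (G.al_ker hl m).1 hm _ h1
  refine ⟨c, ?_⟩
  have h2 : b • (h • m) = h • ((h⁻¹ * b * h) • m) := by
    rw [smul_smul, smul_smul]
    congr 1
    group
  rw [h2, hc, smul_add, G.lin]

theorem hyp_conj (h : H) {l m : M} (hl : l ∈ L) (hm : m ∈ L) (hh : Hyp A al l m) : Hyp A al (h • l) (h • m) where
  al1 := G.al_one_conj h hl hh.al1
  al2 := G.al_one_conj h hm hh.al2
  mv1 := by
    obtain ⟨a, ha, h1⟩ := hh.mv1
    refine ⟨_, G.A_conj h hl ha, fun e => h1 ?_⟩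
    rw [smul_smul, inv_mul_cancel_right, mul_smul] at e
    exact smul_left_cancel h e
  mv2 := by
    obtain ⟨a, ha, h1⟩ := hh.mv2
    refine ⟨_, G.A_conj h hm ha, fun e => h1 ?_⟩
    rw [smul_smul, inv_mul_cancel_right, mul_smul] at e
    exact smul_left_cancel h e

theorem hyp_smul {l w : M} {c : F} (hc : c ≠ 0) (hl : l ∈ L) (hw : w ∈ L) (hh : Hyp A al l w) :
    Hyp A al l (c • w) where
  al1 := G.al_sm_one hl c hh.al1
  al2 := by
    rw [G.al_ker (G.fsm hc hw)]
    intro a ha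
    rw [G.A_sm hc hw] at ha
    obtain ⟨t, ht⟩ := (G.al_ker hw l).1 hh.al2 a ha
    exact ⟨t * c⁻¹, by rw [ht, smul_smul, mul_assoc, inv_mul_cancel₀ hc, mul_one]⟩
  mv1 := by
    obtain ⟨a, ha, h1⟩ := hh.mv1
    refine ⟨a, ha, fun e => h1 ?_⟩
    rw [G.lin] at e
    have := congrArg (fun x => c⁻¹ • x) e
    simpa [smul_smul, inv_mul_cancel₀ hc] using this
  mv2 := by
    obtain ⟨a, ha, h1⟩ := hh.mv2
    exact ⟨a, by rwa [G.A_sm hc hw], h1⟩

/-- `λ_l ≰ Ī_w` -/
theorem hyp_I {l w : M} (hw : w ∈ L) (h : Hyp A al l w) {c : F} (hc : c ≠ 0) : c • l ∉ I w := by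
  intro h1
  obtain ⟨b, hb, hbl⟩ := h.mv2
  apply hbl
  refine G.fix hw hb ?_
  have := (I w).smul_mem c⁻¹ h1
  rwa [smul_smul, inv_mul_cancel₀ hc, one_smul] at this

/-- `A_l ∩ A_w = 1` -/
theorem hyp_inf {l w : M} (hl : l ∈ L) (hw : w ∈ L) (h : Hyp A al l w) {c : H} (hc : c ∈ A l) (hc' : c ∈ A w) :
    c = 1 := by
  by_contra h1
  obtain ⟨e, -, he⟩ := G.phi hl hc h1
  refine G.hyp_I (l := l) hw h (c := (1 : F)) one_ne_zero ?_
  have := G.comm hw hc' e
  rwa [he, add_comm e l, add_assoc, G.two, add_zero, ← one_smul F l] at this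

/-- `[B, B'] = 1` -/
theorem hyp_comm {l w : M} (hl : l ∈ L) (hw : w ∈ L) (h : Hyp A al l w) {b b' : H} (hb : b ∈ A l) (hbw : b • w = w)
    (hb' : b' ∈ A w) (hbl : b' • l = l) : b * b' = b' * b := by
  have h1 : b * b' * b⁻¹ ∈ A w := G.A_conj_fix hw hb' hbw
  have h2 : b' * b⁻¹ * b'⁻¹ ∈ A l := G.A_conj_fix hl (inv_mem hb) hbl
  have h3 : b * b' * b⁻¹ * b'⁻¹ = 1 := by
    refine G.hyp_inf hl hw h ?_ (mul_mem h1 (inv_mem hb'))
    have e : b * b' * b⁻¹ * b'⁻¹ = b * (b' * b⁻¹ * b'⁻¹) := by group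
    rw [e]
    exact mul_mem hb h2
  rwa [mul_inv_eq_one, mul_inv_eq_iff_eq_mul] at h3

/-- the displacement of `w` -/
theorem hyp_disp {l w : M} (hl : l ∈ L) (h1 : al l w = 1) {a : H} (ha : a ∈ A l) :
    ∃ c : F, a • w = w + c • l := (G.al_ker hl w).1 h1 a ha

/-- `C_{B'}(a) = 1` for `a ∈ A_l - B` -/
theorem hyp_free {l w : M} (hl : l ∈ L) (hw : w ∈ L) (h : Hyp A al l w) {a b' : H} (ha : a ∈ A l) (haw : a • w ≠ w)
    (hb' : b' ∈ A w) (hc : a * b' = b' * a) : b' = 1 := by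
  by_contra h1
  have h2 : b' ∈ A (a • w) := by
    have := G.A_conj a hw hb'
    rwa [hc, mul_assoc, mul_inv_cancel, mul_one] at this
  obtain ⟨e, -, he⟩ := G.phi (G.smul a hw) h2 h1
  have h3 : a • w ∈ I w := by
    have := G.comm hw hb' e
    rwa [he, add_comm e (a • w), add_assoc, G.two, add_zero] at this
  obtain ⟨c, hcw⟩ := G.hyp_disp hl h.al1 ha
  have hc0 : c ≠ 0 := by
    rintro rfl
    exact haw (by rw [hcw, zero_smul, add_zero])
  apply G.hyp_I (l := l) hw h hc0
  rw [hcw] at h3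
  have := (I w).add_mem (G.self hw) h3
  rwa [G.two_left] at this

theorem hyp_br {l w : M} (hl : l ∈ L) (hw : w ∈ L) (h1 : al l w = 1) {a b : H} (ha : a ∈ A l)
    (hb : b ∈ A w) (hbl : b • l = l) : b * a * b⁻¹ * a⁻¹ ∈ A l ∧ (b * a * b⁻¹ * a⁻¹) • w = w := by
  refine ⟨mul_mem (G.A_conj_fix hl ha hbl) (inv_mem ha), ?_⟩
  obtain ⟨t, ht⟩ := G.hyp_disp hl h1 (inv_mem ha)
  have hbw := G.A_fix hw hb
  have hbw' := G.A_fix hw (inv_mem hb)
  have hbl' : b⁻¹ • l = l := by
    conv_lhs => rw [← hbl]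
    rw [inv_smul_smul]
  rw [mul_smul, ht, mul_smul, smul_add, G.lin, hbw', hbl', ← ht, mul_smul, smul_inv_smul, hbw]

theorem hyp_br_inj {l w : M} (hl : l ∈ L) (hw : w ∈ L) (h : Hyp A al l w) {a b b₂ : H} (ha : a ∈ A l)
    (haw : a • w ≠ w) (hb : b ∈ A w) (hb₂ : b₂ ∈ A w) (he : b * a * b⁻¹ * a⁻¹ = b₂ * a * b₂⁻¹ * a⁻¹) : b = b₂ := by
  have h1 := mul_right_cancel he
  have h2 : a * (b₂⁻¹ * b) = (b₂⁻¹ * b) * a := by
    calc a * (b₂⁻¹ * b) = b₂⁻¹ * (b₂ * a * b₂⁻¹) * b := by group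
      _ = b₂⁻¹ * (b * a * b⁻¹) * b := by rw [h1]
      _ = (b₂⁻¹ * b) * a := by group
  have h3 := G.hyp_free hl hw h ha haw (mul_mem (inv_mem hb₂) hb) h2
  exact (inv_mul_eq_one.1 h3).symm

/-- `b ↦ [b, a]` is a bijection `B' → B` -/
theorem hyp_surj [Finite H] {l w : M} (hl : l ∈ L) (hw : w ∈ L) (h : Hyp A al l w) {a : H} (ha : a ∈ A l)
    (haw : a • w ≠ w) {c : H} (hc : c ∈ A l) (hcw : c • w = w) :
    ∃ b ∈ A w, b • l = l ∧ b * a * b⁻¹ * a⁻¹ = c := by
  obtain ⟨a', ha', hal'⟩ := h.mv2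
  let B : Type _ := {b : H // b ∈ A l ∧ b • w = w}
  let B' : Type _ := {b : H // b ∈ A w ∧ b • l = l}
  let f : B' → B := fun b => ⟨b.1 * a * b.1⁻¹ * a⁻¹, G.hyp_br hl hw h.al1 ha b.2.1 b.2.2⟩
  let g : B → B' := fun b => ⟨b.1 * a' * b.1⁻¹ * a'⁻¹, G.hyp_br hw hl h.al2 ha' b.2.1 b.2.2⟩
  have hf : Function.Injective f := fun x y hxy =>
    Subtype.ext (G.hyp_br_inj hl hw h ha haw x.2.1 y.2.1 (congrArg Subtype.val hxy))
  have hg : Function.Injective g := fun x y hxy =>
    Subtype.ext (G.hyp_br_inj hw hl h.symm ha' hal' x.2.1 y.2.1 (congrArg Subtype.val hxy))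
  have hs : Function.Surjective (f ∘ g) := Finite.injective_iff_surjective.1 (hf.comp hg)
  obtain ⟨x, hx⟩ := hs ⟨c, hc, hcw⟩
  exact ⟨(g x).1, (g x).2.1, (g x).2.2, congrArg Subtype.val hx⟩

/-- **`B'` induces all transvections with axis `B`** -/
theorem hyp_transv [Finite H] {l w : M} (hl : l ∈ L) (hw : w ∈ L) (h : Hyp A al l w) {f : M →ₗ[F] F}
    (hf : ∀ x, al l x • w = w + f x • l) {d : M} (hd : f d = 0) :
    ∃ b ∈ A w, b • l = l ∧ ∀ x, al l (b • x) = al l (x + f x • d) := by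
  obtain ⟨a₀, ha₀, haw₀⟩ := h.mv1
  obtain ⟨y₀, rfl⟩ := G.al_surj hl ha₀
  have hy₀ : f y₀ ≠ 0 := by
    intro h0
    exact haw₀ (by rw [hf, h0, zero_smul, add_zero])
  obtain ⟨y, hy⟩ : ∃ y, y = (f y₀)⁻¹ • y₀ := ⟨_, rfl⟩
  have hfy : f y = 1 := by rw [hy, map_smul, smul_eq_mul, inv_mul_cancel₀ hy₀]
  have hay : al l y • w ≠ w := by
    rw [hf, hfy, one_smul]
    intro e
    exact G.ne_zero hl (add_eq_left.1 e)
  have hdw : al l d • w = w := by rw [hf, hd, zero_smul, add_zero]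
  obtain ⟨b, hb, hbl, hbe⟩ := G.hyp_surj hl hw h (G.al_mem hl y) hay (G.al_mem hl d) hdw
  refine ⟨b, hb, hbl, ?_⟩
  have h1 : al l (b • y) = al l (d + y) := by
    rw [G.al_conj hl hbl, G.al_add hl, ← hbe]
    group
  intro x
  obtain ⟨z, hz⟩ : ∃ z, z = x + f x • y := ⟨_, rfl⟩
  have hfz : f z = 0 := by
    rw [hz, map_add, map_smul, hfy, smul_eq_mul, mul_one]
    exact G.two_F hl _
  have hzw : al l z • w = w := by rw [hf, hfz, zero_smul, add_zero]
  have h2 : al l (b • z) = al l z := by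
    rw [G.al_conj hl hbl, ← G.hyp_comm hl hw h (G.al_mem hl z) hzw hb hbl, mul_inv_cancel_right]
  have h3 : x = z + f x • y := by
    rw [hz, add_assoc, G.two, add_zero]
  have h4 : b • x = b • z + f x • (b • y) := by
    conv_lhs => rw [h3]
    rw [smul_add, G.lin]
  rw [h4, G.al_add hl, h2, G.al_smul_congr hl (f x) h1, ← G.al_add hl]
  congr 1
  rw [smul_add]
  nth_rewrite 3 [h3]
  abel

end Pre

/-- `SgJ` and Baer-Suzuki -/
structure SgB (F : Type*) {M H : Type*} [Field F] [AddCommGroup M] [Module F M] [Group H] [DistribMulAction H M]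
    (L : Set M) (A : M → Subgroup H) (I : M → Submodule F M) (al : M → M → H) : Prop extends SgJ F L A I al where
  bs : ∀ {l : M} {a : H}, l ∈ L → a ∈ A l → a ≠ 1 → ∃ o : H, o ≠ 1 ∧ Odd (orderOf o) ∧ a * o * a⁻¹ = o⁻¹

namespace SgB

variable {F M H : Type*} [Field F] [AddCommGroup M] [Module F M] [Group H] [DistribMulAction H M] {L : Set M}
    {A : M → Subgroup H} {I : M → Submodule F M} {al : M → M → H} (G : SgB F L A I al)

include G in
/-- every `a ≠ 1` moves a hyperbolic `w` -/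
theorem exists_hyp {l : M} {a : H} (hl : l ∈ L) (ha : a ∈ A l) (ha1 : a ≠ 1) :
    ∃ w ∈ L, Hyp A al l w ∧ a • w ≠ w := by
  obtain ⟨o, ho1, ho, hao⟩ := G.bs hl ha ha1
  have h1 := G.toSgJ.sigma hl ha ho1 ho hao
  exact ⟨_, G.smul o hl, h1.1, h1.2⟩

/-- the functionals `φ_w`, `w` hyperbolic -/
def AxS [Finite H] (G : SgB F L A I al) {l : M} (hl : l ∈ L) : Submodule F (M →ₗ[F] F) where
  carrier := {f | f = 0 ∨ ∃ w ∈ L, Hyp A al l w ∧ ∀ x, al l x • w = w + f x • l}
  zero_mem' := Or.inl rfl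
  add_mem' := by
    rintro f₁ f₂ (rfl | ⟨w₁, hw₁, h₁, hf₁⟩) h2
    · rw [zero_add]; exact h2
    obtain (rfl | ⟨w₂, hw₂, h₂, hf₂⟩) := h2
    · rw [add_zero]; exact Or.inr ⟨w₁, hw₁, h₁, hf₁⟩
    by_cases hdep : ∀ d, f₁ d = 0 → f₂ d = 0
    · -- proportional
      obtain ⟨a₀, ha₀, haw₀⟩ := h₁.mv1
      obtain ⟨y, rfl⟩ := G.al_surj hl ha₀
      have hy : f₁ y ≠ 0 := fun h0 => haw₀ (by rw [hf₁, h0, zero_smul, add_zero])
      have h3 : ∀ x, f₂ x = (f₂ y * (f₁ y)⁻¹) * f₁ x := by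
        intro x
        have h4 := hdep (x - (f₁ x * (f₁ y)⁻¹) • y) (by
          rw [map_sub, map_smul, smul_eq_mul, mul_assoc, inv_mul_cancel₀ hy, mul_one, sub_self])
        rw [map_sub, map_smul, smul_eq_mul, sub_eq_zero] at h4
        rw [h4]; ring
      set t := f₂ y * (f₁ y)⁻¹ with ht
      by_cases ht1 : 1 + t = 0
      · left
        ext x
        rw [LinearMap.add_apply, h3 x, LinearMap.zero_apply]
        have : f₁ x + t * f₁ x = (1 + t) * f₁ x := by ring
        rw [this, ht1, zero_mul]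
      · refine Or.inr ⟨(1 + t) • w₁, G.fsm ht1 hw₁, G.hyp_smul ht1 hl hw₁ h₁, fun x => ?_⟩
        rw [G.lin, hf₁, smul_add, LinearMap.add_apply, h3 x, smul_smul]
        congr 2
        ring
    · push Not at hdep
      obtain ⟨d₀, hd₀, hd₀'⟩ := hdep
      obtain ⟨d, hd1, hd2⟩ : ∃ d, f₁ d = 0 ∧ f₂ d = 1 :=
        ⟨(f₂ d₀)⁻¹ • d₀, by rw [map_smul, hd₀, smul_zero], by
          rw [map_smul, smul_eq_mul, inv_mul_cancel₀ hd₀']⟩
      obtain ⟨b, hb, hbl, hbx⟩ := G.hyp_transv hl hw₁ h₁ hf₁ hd1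
      have hbb := G.sq hw₁ hb
      right
      refine ⟨b • w₂, G.smul b hw₂, ?_, fun x => ?_⟩
      · have := G.hyp_conj b hl hw₂ h₂
        rwa [hbl] at this
      · have h3 : al l x • (b • w₂) = b • (al l (b • x) • w₂) := by
          rw [G.al_conj hl hbl, smul_smul, smul_smul]
          congr 1
          rw [inv_eq_of_mul_eq_one_left hbb, ← mul_assoc, ← mul_assoc, hbb, one_mul]
        rw [h3, hbx, hf₂, smul_add, G.lin, hbl, LinearMap.add_apply, map_add, map_smul, hd2, smul_eq_mul, mul_one,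
          add_comm (f₂ x)]
  smul_mem' := by
    rintro c f (rfl | ⟨w, hw, h, hf⟩)
    · left; rw [smul_zero]
    · by_cases hc : c = 0
      · left; rw [hc, zero_smul]
      · refine Or.inr ⟨c • w, G.fsm hc hw, G.hyp_smul hc hl hw h, fun x => ?_⟩
        rw [G.lin, hf, smul_add, LinearMap.smul_apply, smul_eq_mul, smul_smul]

include G

/-- **(E)** every functional `≠ 0` on `A_l` is `φ_w` for a hyperbolic `w` -/
theorem axis [Finite H] [FiniteDimensional F M] {l : M} (hl : l ∈ L) {f : M →ₗ[F] F} (hf : ∀ e, al l e = 1 → f e = 0)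
    (hf0 : f ≠ 0) : ∃ w ∈ L, Hyp A al l w ∧ ∀ x, al l x • w = w + f x • l := by
  have h1 : ∀ x ∈ (G.AxS hl).dualCoannihilator, al l x = 1 := by
    intro x hx
    by_contra hx1
    obtain ⟨w, hw, h, hxw⟩ := G.exists_hyp hl (G.al_mem hl x) hx1
    have h2 : G.toPre.Phi hl ⟨w, h.al1⟩ ∈ G.AxS hl :=
      Or.inr ⟨w, hw, h, fun y => G.toPre.Phi_spec' hl ⟨w, h.al1⟩ y⟩
    rw [Submodule.mem_dualCoannihilator] at hx
    have h3 := hx _ h2
    apply hxw
    have h4 := G.toPre.Phi_spec' hl ⟨w, h.al1⟩ x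
    rw [h3, zero_smul, add_zero] at h4
    exact h4
  have h2 : f ∈ G.AxS hl := by
    rw [← Subspace.dualCoannihilator_dualAnnihilator_eq (W := G.AxS hl), Submodule.mem_dualAnnihilator]
    exact fun x hx => hf x (h1 x hx)
  exact h2.resolve_left hf0

/-- **(E)** the transvections of `A_l` -/
theorem transv [Finite H] [FiniteDimensional F M] {l : M} (hl : l ∈ L) {f : M →ₗ[F] F} (hf : ∀ e, al l e = 1 → f e = 0)
    {d : M} (hd : f d = 0) : ∃ b : H, b • l = l ∧ ∀ x, al l (b • x) = al l (x + f x • d) := by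
  by_cases hf0 : f = 0
  · exact ⟨1, one_smul _ _, fun x => by rw [one_smul, hf0, LinearMap.zero_apply, zero_smul, add_zero]⟩
  obtain ⟨w, hw, h, hfw⟩ := G.axis hl hf hf0
  obtain ⟨b, -, hbl, hb⟩ := G.toPre.hyp_transv hl hw h hfw hd
  exact ⟨b, hbl, hb⟩

end SgB

end Cfsg.Agent.Omega.NO3S.OneQ.Sg

end
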