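import Cfsg.Agent.WeakTI.BenderModel
import Cfsg.Agent.WeakTI.FlatBorel
import Cfsg.Agent.Mrg.Omega.NO3S.OneQ.TIq.Base

section


/-!
# NO-3S, `OneSz`: the group-theoretic end (bb OMEGA #19637 (E4))

`NoE A` : `A` is an elementary abelian TI-subgroup with `N_A(B) = 1` for all conjugates `B ≠ A`, not normal, `|A| ≥ 4`.

* `NoE.of` : from `1 ≠ a ∈ N_A(B) → B = A`;
* `NoE.isoSuzuki` : if `Z(⟨A^H⟩) = 1` and `A` has `|A|² + 1` conjugates then `⟨A^H⟩` is a Suzuki group, with a Sylow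
  2-subgroup of order `|A|²` whose involutions are in `A`.
-/

set_option autoImplicit false
set_option linter.unusedSectionVars false

namespace Cfsg.Agent.Omega.NO3S.OneQ.TIq

open Subgroup Pointwise
open Cfsg.Agent.WeakTI.Basic Cfsg.Agent.WeakTI.PairBasic Cfsg.Agent.WeakTI.ReduceTwo Cfsg.Agent.WeakTI.NoEdges
open Cfsg.Agent.WeakTI.QuotInv Cfsg.Agent.WeakTI.AxisQuot Cfsg.Agent.WeakTI.SubTransfer
open Cfsg.Agent.WeakTI.ReduceComponent Cfsg.Agent.WeakTI.ReduceMain Cfsg.Agent.WeakTI.BenderAct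
open Cfsg.Agent.WeakTI.FlatBorel (CritAll BenderAll)

universe u

variable {H : Type u} [Group H] {A B C : Subgroup H}

/-- `A` is elementary abelian, TI, without edges, not normal, `|A| ≥ 4` -/
structure NoE (A : Subgroup H) : Prop where
  wa : WTI A
  hno : ∀ B, ¬ Pair A B
  nn : ∃ B, Cj A B ∧ A ≠ B
  card : 4 ≤ Nat.card A

/-- the constructor: `1 ≠ a ∈ A` normalises no conjugate `B ≠ A` -/
theorem NoE.of (hc : ∀ a ∈ A, ∀ b ∈ A, a * b = b * a) (hsq : ∀ a ∈ A, a * a = 1) (h4 : 4 ≤ Nat.card A)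
    (hN : ∀ g a : H, a ∈ A → a ≠ 1 → a ∈ normalizer ((MulAut.conj g • A : Subgroup H) : Set H) →
      MulAut.conj g • A = A)
    (hnn : ∃ g : H, MulAut.conj g • A ≠ A) : NoE A := by
  have hne : A ≠ ⊥ := by
    rintro rfl
    rw [Subgroup.card_bot] at h4
    omega
  have hwa : WTI A :=
    { comm := hc
      sq := hsq
      ne := hne
      ti := by
        intro g
        by_cases h1 : MulAut.conj g • A ⊓ A = ⊥
        · exact Or.inr h1
        · obtain ⟨x, hx, hx1⟩ := exists_mem_ne_one h1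
          exact Or.inl (hN g x hx.2 hx1 (le_normalizer hx.1))
      wc := by
        intro g hg
        obtain ⟨a, ha, ha1⟩ := exists_mem_ne_one hne
        have h1 : g * a * g⁻¹ ∈ normalizer (A : Set H) := hg (conj_mem_cj ha)
        have h2 : a ∈ normalizer ((MulAut.conj g⁻¹ • A : Subgroup H) : Set H) := by
          rw [mem_normalizer_iff_cj] at h1 ⊢
          have h3 := congrArg (fun S => MulAut.conj g⁻¹ • S) h1
          simp only [← cj_mul] at h3
          rw [← cj_mul]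
          have e : g⁻¹ * (g * a * g⁻¹) = a * g⁻¹ := by group
          rwa [e] at h3
        have h3 := hN g⁻¹ a ha ha1 h2
        have h4 := congrArg (fun S => MulAut.conj g • S) h3
        simp only [← cj_mul, mul_inv_cancel, cj_one] at h4
        exact h4.symm }
  refine ⟨hwa, ?_, ?_, h4⟩
  · rintro B ⟨-, ⟨g, rfl⟩, hAB, hnb⟩
    obtain ⟨x, hx, hx1⟩ := exists_mem_ne_one hnb
    exact hAB (hN g x (mem_nrm.1 hx).1 hx1 (mem_nrm.1 hx).2).symm
  · obtain ⟨g, hg⟩ := hnn
    exact ⟨_, ⟨g, rfl⟩, fun e => hg e.symm⟩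

namespace NoE

theorem eq_of_commute [Finite H] (h : NoE A) (hB : Cj A B) (hC : Cj A C) {b c : H} (hb : b ∈ B) (hb1 : b ≠ 1)
    (hc : c ∈ C) (hc1 : c ≠ 1) (hbc : b * c = c * b) : B = C :=
  Cfsg.Agent.WeakTI.NoEdges.eq_of_commute h.wa h.hno hB hC hb hb1 hc hc1 hbc

/-- the normaliser of `A` contains every element fixing a nontrivial element of `A` -/
theorem eq_of_norm (h : NoE A) (hB : Cj A B) {a : H} (ha : a ∈ A) (ha1 : a ≠ 1) (haB : a ∈ normalizer (B : Set H)) :
    A = B := by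
  by_contra hne
  refine h.hno B ⟨h.wa, hB, hne, fun hbot => ha1 ?_⟩
  have h1 : a ∈ nrm A B := mem_nrm.2 ⟨ha, haB⟩
  rw [hbot] at h1
  exact mem_bot.1 h1

variable [Finite H]

/-- the passage to `X ≥ ⟨A^H⟩` -/
theorem noEdges_sub (h : NoE A) (D : Subgroup (soc A)) : ¬ Pair (A.subgroupOf (soc A)) D := by
  intro hp
  obtain ⟨C, hC, hCH, rfl⟩ := cj_of_cj_subgroupOf le_soc hp.cj
  exact h.hno C (pair_of_pair_subgroupOf h.wa le_soc hCH hp)

theorem sub (h : NoE A) : NoE (A.subgroupOf (soc A)) where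
  wa := h.wa.subgroupOf le_soc
  hno := h.noEdges_sub
  nn := by
    obtain ⟨B, hB, hAB⟩ := h.nn
    exact ⟨_, cj_subgroupOf_of_cj h.wa le_soc hB (cj_le_soc hB),
      fun he => hAB (subgroupOf_inj le_soc (cj_le_soc hB) he)⟩
  card := by
    rw [Nat.card_congr (Subgroup.subgroupOfEquivOfLe le_soc).toEquiv]
    exact h.card

theorem inf_pCore (h : NoE A) : A ⊓ pCore 2 H = ⊥ := by
  by_contra hne
  obtain ⟨x, ⟨hxA, hxO⟩, hx1⟩ := exists_mem_ne_one hne
  obtain ⟨B, hB, hAB⟩ := h.nn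
  exact hAB (h.eq_of_norm hB hxA hx1 (pCore_le_normalizer (h.wa.of_cj hB) hxO))

/-- central elements in members are trivial -/
theorem eq_one_of_central (h : NoE A) (hB : Cj A B) {z : H} (hz : z ∈ B) (hzc : z ∈ center H) : z = 1 := by
  by_contra hz1
  obtain ⟨C, hC, hAC⟩ := h.nn
  have h1 : ∀ D, Cj A D → B = D := by
    intro D hD
    obtain ⟨d, hd, hd1⟩ := exists_mem_ne_one (h.wa.of_cj hD).ne
    exact h.eq_of_commute hB hD hz hz1 hd hd1 (mem_center_iff.1 hzc d).symm
  exact hAC ((h1 A (Cj.refl A)).symm.trans (h1 C hC))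

/-- `Red A` if the conjugates of `A` generate and the centre is trivial -/
theorem red (h : NoE A) (hgen : normalClosure (A : Set H) = ⊤) (hZ : center H = ⊥) : Red A where
  wti := h.wa
  gen := hgen
  card := h.card
  ab := Cfsg.Agent.WeakTI.ReduceCenter.normal_abelian_eq_bot h.wa hgen h.card h.inf_pCore hZ
  odd := by
    rw [eq_bot_iff, ← hZ]
    exact Cfsg.Agent.WeakTI.ReduceCenter.pPrimeCore_le_center h.wa hgen h.card

/-- the number of conjugates in `⟨A^H⟩` -/
theorem card_sub (h : NoE A) :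
    Nat.card {D // Cj (A.subgroupOf (soc A)) D} = Nat.card {D // Cj A D} := by
  refine (Nat.card_congr (Equiv.ofBijective (fun D : {D // Cj A D} =>
    (⟨D.1.subgroupOf (soc A), cj_subgroupOf_of_cj h.wa le_soc D.2 (cj_le_soc D.2)⟩ :
      {D // Cj (A.subgroupOf (soc A)) D})) ⟨?_, ?_⟩)).symm
  · rintro ⟨D, hD⟩ ⟨D', hD'⟩ he
    exact Subtype.ext (subgroupOf_inj (cj_le_soc hD) (cj_le_soc hD') (congrArg Subtype.val he))
  · rintro ⟨D, hD⟩
    obtain ⟨C, hC, hCH, rfl⟩ := cj_of_cj_subgroupOf le_soc hD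
    exact ⟨⟨C, hC⟩, rfl⟩

/-- `NE A` in a simple group -/
theorem ne_of_simple (h : NoE A) (hs : IsSimpleGroup H) : NE A where
  wa := h.wa
  hno := h.hno
  card := h.card
  faithful := by
    rcases hs.eq_bot_or_eq_top_of_normal (kern A) inferInstance with h1 | h1
    · exact h1
    · exfalso
      obtain ⟨B, ⟨g, rfl⟩, hAB⟩ := h.nn
      have h2 : g ∈ normalizer (A : Set H) := kern_le_normalizer (h1 ▸ mem_top g)
      exact hAB (mem_normalizer_iff_cj.1 h2).symm

/-- the case `⟨A^H⟩ = H` -/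
theorem exists_bor (h : NoE A) (hcrit : CritAll.{u}) (hbend : BenderAll.{u})
    (hgen : normalClosure (A : Set H) = ⊤) (hZ : center H = ⊥)
    (hc : Nat.card {D // Cj A D} = Nat.card A ^ 2 + 1) :
    Cfsg.Lie.IsoSuzuki H ∧ ∃ T : Subgroup H, Bor A T ∧ Nat.card T = Nat.card A ^ 2 := by
  have hR := h.red hgen hZ
  obtain ⟨hs, hna⟩ := Cfsg.Agent.WeakTI.NoEdges.isSimpleGroup hR h.hno
  have hne := h.ne_of_simple hs
  have hA4 := h.card
  rcases hbend H hs hna (exists_stronglyEmbedded h.wa h.hno (normalizer_ne_top hR) (hcrit H hs hna)) with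
    ⟨F, i1, i2, hchar, -, ⟨e⟩⟩ | hS | ⟨F, i1, i2, q, hF, hq, -, ⟨e⟩⟩
  · exfalso
    have h1 := (bor_of_psl e hne).card_members hne
    rw [hc] at h1
    nlinarith
  · exact ⟨hS, Cfsg.Agent.WeakTI.BenderModel.bor_card_of_suzuki hS hne⟩
  · exfalso
    obtain ⟨T, hT, hTc⟩ := Cfsg.Agent.WeakTI.BenderModel.bor_card_of_psu hF hq e hne
    have h1 := hT.card_members hne
    rw [hc, hTc] at h1
    have h2 : Nat.card A ^ 2 < Nat.card A ^ 3 := Nat.pow_lt_pow_right (by omega) (by norm_num)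
    omega

/-- the largest 2-subgroup of `N(A)` is a Sylow 2-subgroup -/
theorem exists_sylow (h : NoE A) {T : Subgroup H} (hT : Bor A T) : ∃ P : Sylow 2 H, (P : Subgroup H) = T := by
  have : Fact (Nat.Prime 2) := ⟨Nat.prime_two⟩
  obtain ⟨P, hP⟩ := h.wa.isPGroup.exists_le_sylow
  have hPN := h.wa.le_normalizer_of_isPGroup P.isPGroup' hP
  have hPT : (P : Subgroup H) ≤ T := by
    intro x hx
    obtain ⟨k, hk⟩ := P.isPGroup' ⟨x, hx⟩
    exact hT.mem_of_pow x (hPN hx) k (congrArg Subtype.val hk)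
  have hT2 : IsPGroup 2 T := by
    intro x
    refine ⟨2, Subtype.ext ?_⟩
    have h1 := hT.pow x x.2
    simpa using h1
  exact ⟨P, (P.is_maximal' hT2 hPT).symm⟩

/-- **(E4)**: if `Z(⟨A^H⟩) = 1` and `A` has `|A|² + 1` conjugates then `⟨A^H⟩` is a Suzuki group, with a Sylow
2-subgroup of order `|A|²` whose involutions lie in `A`. -/
theorem isoSuzuki (h : NoE A) (hcrit : CritAll.{u}) (hbend : BenderAll.{u}) (hZ : center (soc A) = ⊥)
    (hc : Nat.card {D // Cj A D} = Nat.card A ^ 2 + 1) :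
    Cfsg.Lie.IsoSuzuki (soc A) ∧ ∃ P : Sylow 2 (soc A), Nat.card P = Nat.card A ^ 2 ∧
      (∀ x ∈ P, x * x = 1 → (x : H) ∈ A) ∧ ∀ x : soc A, (x : H) ∈ A → x ∈ P := by
  have h1 := h.sub
  have hcA : Nat.card (A.subgroupOf (soc A)) = Nat.card A :=
    Nat.card_congr (Subgroup.subgroupOfEquivOfLe le_soc).toEquiv
  obtain ⟨h2, T, hT, hTc⟩ := h1.exists_bor hcrit hbend (normalClosure_subgroupOf h.wa) hZ
    (by rw [h.card_sub, hc, hcA])
  obtain ⟨P, rfl⟩ := h1.exists_sylow hT
  refine ⟨h2, P, ?_, ?_, ?_⟩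
  · rw [← hcA]
    exact hTc
  · intro x hx hxx
    exact mem_subgroupOf.1 (hT.mem_of_sq x hx hxx)
  · intro x hx
    exact hT.le (mem_subgroupOf.2 hx)

end NoE

end Cfsg.Agent.Omega.NO3S.OneQ.TIq

end

section


/-!
# NO-3S, `OneSz`: the group-theoretic end over `TIq.Gen` (bb OMEGA #19637 (E4))

`Opp F L A` : `a ∈ A l` fixes no `m ∈ L` outside `F l`; `Reg F L Kt` : `Kt l` is regular on the points `≠ F l`.

* `Gen.cj_A` : `A l ^ h = A (h l)`; `Gen.noE` : `A l` has no edges;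
* `Gen.card_members` : the number of conjugates of `A l` is `|Kt l| + 1`;
* `Gen.center_soc` : `Z(⟨A^H⟩) = 1` if `dim_F M = 4`;
* `Gen.isoSuzuki` : `⟨A^H⟩` is a Suzuki group.
-/

set_option autoImplicit false
set_option linter.unusedSectionVars false

namespace Cfsg.Agent.Omega.NO3S.OneQ.TIq

open Subgroup Pointwise
open Cfsg.Agent.WeakTI.Basic Cfsg.Agent.WeakTI.PairBasic Cfsg.Agent.WeakTI.QuotInv
open Cfsg.Agent.WeakTI.FlatBorel (CritAll BenderAll)

universe u

/-- all pairs are opposite -/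
def Opp (F : Type*) {M H : Type*} [SMul F M] [Group H] [SMul H M] (L : Set M) (A : M → Subgroup H) : Prop :=
  ∀ {l m : M} {a : H}, l ∈ L → m ∈ L → NP F l m → a ∈ A l → a • m = m → a = 1

/-- `Kt l` is regular on the points different from `F l` -/
structure Reg (F : Type*) {M H : Type*} [Field F] [SMul F M] [Group H] [SMul H M] (L : Set M) (Kt : M → Subgroup H)
    (l : M) : Prop where
  trans : ∀ m ∈ L, ∀ m' ∈ L, NP F l m → NP F l m' → ∃ t ∈ Kt l, ∃ c : F, c ≠ 0 ∧ t • m = c • m'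
  eq_one : ∀ m ∈ L, NP F l m → ∀ t ∈ Kt l, ∀ c : F, t • m = c • m → t = 1

namespace Gen

variable {F M : Type*} {H : Type u} [Field F] [AddCommGroup M] [Module F M] [Group H] [DistribMulAction H M] {L : Set M}
    {A : M → Subgroup H} {I : M → Submodule F M} {al : M → M → H}

/-- `A l ^ h = A (h l)` -/
theorem cj_A (G : Gen F L A I al) {l : M} (hl : l ∈ L) (h : H) : MulAut.conj h • A l = A (h • l) := by
  ext x
  rw [mem_cj]
  constructor
  · intro hx
    have h1 := G.A_conj h hl hx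
    have e : h * (h⁻¹ * x * h) * h⁻¹ = x := by group
    rwa [e] at h1
  · intro hx
    have h1 := G.A_conj h⁻¹ (G.smul h hl) hx
    rwa [inv_smul_smul, inv_inv] at h1

/-- `A l = A m` only if `m ∈ F l` -/
theorem exists_of_A_eq (G : Gen F L A I al) {l m : M} (hl : l ∈ L) (hm : m ∈ L) (he : A l = A m) : ∃ c : F, m = c • l := by
  obtain ⟨a, ha, ha1⟩ := G.ne hl
  exact G.ti hl hm ha (he ▸ ha) ha1

theorem exists_of_norm (G : Gen F L A I al) {l : M} {h : H} (hl : l ∈ L) (hh : h ∈ normalizer (A l : Set H)) :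
    ∃ c : F, h • l = c • l := by
  rw [mem_normalizer_iff_cj, G.cj_A hl] at hh
  exact G.exists_of_A_eq hl (G.smul h hl) hh.symm

/-- no edges -/
theorem noE (G : Gen F L A I al) (ho : Opp F L A) {l m : M} (hl : l ∈ L) (hm : m ∈ L) (hlm : NP F l m)
    (h4 : 4 ≤ Nat.card (A l)) : NoE (A l) := by
  refine NoE.of (fun a ha b hb => G.A_comm hl ha hb) (fun a ha => G.sq hl ha) h4 ?_ ?_
  · intro g a ha ha1 haN
    rw [G.cj_A hl] at haN ⊢
    obtain ⟨c, hc⟩ := G.exists_of_norm (G.smul g hl) haN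
    have h1 := G.fix_of_inv (G.smul g hl) (G.sq hl ha) hc
    by_cases hn : NP F l (g • l)
    · exact absurd (ho hl (G.smul g hl) hn ha h1) ha1
    · unfold NP at hn
      push Not at hn
      obtain ⟨d, hd⟩ := hn
      have hd0 : d ≠ 0 := by
        rintro rfl
        rw [zero_smul] at hd
        exact G.ne_zero (G.smul g hl) hd
      rw [hd, G.A_sm hd0 hl]
  · obtain ⟨h, c, hc, he⟩ := G.trans hl hm
    refine ⟨h, fun h1 => ?_⟩
    rw [G.cj_A hl, he, G.A_sm hc hm] at h1
    obtain ⟨d, hd⟩ := G.exists_of_A_eq hl hm h1.symm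
    exact hlm d hd

/-- the number of conjugates -/
theorem card_members [Finite H] (G : Gen F L A I al) {Kt : M → Subgroup H} {l m : M} (hl : l ∈ L) (hm : m ∈ L)
    (hlm : NP F l m) (hfix : ∀ t ∈ Kt l, t • l = l) (hR : Reg F L Kt l) :
    Nat.card {D // Cj (A l) D} = Nat.card (Kt l) + 1 := by
  have hlm' := G.np_symm hl hm hlm
  have key : ∀ t : H, t ∈ Kt l → NP F l (t • m) := by
    intro t ht c hc
    apply hlm c
    have h1 : t • m = t • (c • l) := by rw [hc, G.lin, hfix t ht]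
    exact smul_left_cancel t h1
  have hfin : Finite (Kt l) := inferInstance
  rw [← Finite.card_option]
  symm
  let f : Option (Kt l) → {D // Cj (A l) D} := fun x =>
    match x with
    | none => ⟨A l, Cj.refl _⟩
    | some t => ⟨MulAut.conj (t : H) • A m, by
        obtain ⟨h, c, hc, he⟩ := G.trans hl hm
        refine ⟨t * h, ?_⟩
        rw [cj_mul, G.cj_A hl, he, G.A_sm hc hm]⟩
  have hA : ∀ t : H, MulAut.conj t • A m = A (t • m) := fun t => G.cj_A hm t
  refine Nat.card_congr (Equiv.ofBijective f ⟨?_, ?_⟩)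
  · rintro (_ | x) (_ | y) he
    · rfl
    · exfalso
      have h1 : A l = MulAut.conj (y : H) • A m := congrArg Subtype.val he
      rw [hA] at h1
      obtain ⟨c, hc⟩ := G.exists_of_A_eq hl (G.smul _ hm) h1
      exact key y y.2 c hc
    · exfalso
      have h1 : MulAut.conj (x : H) • A m = A l := congrArg Subtype.val he
      rw [hA] at h1
      obtain ⟨c, hc⟩ := G.exists_of_A_eq hl (G.smul _ hm) h1.symm
      exact key x x.2 c hc
    · have h1 : MulAut.conj (x : H) • A m = MulAut.conj (y : H) • A m := congrArg Subtype.val he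
      rw [hA, hA] at h1
      obtain ⟨c, hc⟩ := G.exists_of_A_eq (G.smul _ hm) (G.smul _ hm) h1
      have h2 : ((x : H)⁻¹ * y) • m = c • m := by
        rw [mul_smul, hc, G.lin, inv_smul_smul]
      have h3 := hR.eq_one m hm hlm _ (mul_mem (inv_mem x.2) y.2) c h2
      rw [Subtype.ext (inv_mul_eq_one.1 h3)]
  · rintro ⟨D, g, rfl⟩
    by_cases hn : NP F l (g • l)
    · obtain ⟨t, ht, c, hc, he⟩ := hR.trans m hm (g • l) (G.smul g hl) hlm hn
      refine ⟨some ⟨t, ht⟩, Subtype.ext ?_⟩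
      show MulAut.conj t • A m = MulAut.conj g • A l
      rw [hA, he, G.A_sm hc (G.smul g hl), G.cj_A hl]
    · unfold NP at hn
      push Not at hn
      obtain ⟨d, hd⟩ := hn
      have hd0 : d ≠ 0 := by
        rintro rfl
        rw [zero_smul] at hd
        exact G.ne_zero (G.smul g hl) hd
      refine ⟨none, Subtype.ext ?_⟩
      show A l = MulAut.conj g • A l
      rw [G.cj_A hl, hd, G.A_sm hd0 hl]

/-- `H → End_F(M)` -/
noncomputable def toEnd (G : Gen F L A I al) : H →* (M →ₗ[F] M) where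
  toFun h :=
    { toFun := fun m => h • m
      map_add' := fun x y => smul_add h x y
      map_smul' := fun c x => G.lin h c x }
  map_one' := LinearMap.ext fun m => one_smul H m
  map_mul' a b := LinearMap.ext fun m => mul_smul a b m

theorem toEnd_apply (G : Gen F L A I al) (h : H) (m : M) : G.toEnd h m = h • m := rfl

theorem sq_one' (G : Gen F L A I al) {l : M} (hl : l ∈ L) {c : F} (h : c * c = 1) : c = 1 :=
  G.sq_one hl (by rw [h, one_smul])

/-- elements of `⟨A^H⟩` have determinant 1 -/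
theorem det_soc (G : Gen F L A I al) {l : M} (hl : l ∈ L) {h : H} (hh : h ∈ soc (A l)) :
    LinearMap.det (G.toEnd h) = 1 := by
  let δ : H →* F := (LinearMap.det : (M →ₗ[F] M) →* F).comp G.toEnd
  have h1 : soc (A l) ≤ δ.ker := by
    refine normalClosure_le_normal fun a ha => ?_
    rw [SetLike.mem_coe, MonoidHom.mem_ker]
    refine G.sq_one' hl ?_
    rw [← map_mul, G.sq hl ha, map_one]
  exact MonoidHom.mem_ker.1 (h1 hh)

/-- **`Z(⟨A^H⟩) = 1`** -/
theorem center_soc [Finite H] (G : Gen F L A I al) (hf : ∀ h : H, (∀ m : M, h • m = m) → h = 1) {l : M} (hl : l ∈ L)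
    (hE : NoE (A l)) (h4 : Module.finrank F M = 4) : center (soc (A l)) = ⊥ := by
  rw [Subgroup.eq_bot_iff_forall]
  rintro ⟨c, hcs⟩ hc
  rw [mem_center_iff] at hc
  have hcc : ∀ s ∈ soc (A l), s * c = c * s := fun s hs => congrArg Subtype.val (hc ⟨s, hs⟩)
  -- `c` normalises `A l`
  have hcN : c ∈ normalizer (A l : Set H) := by
    rw [mem_normalizer_iff]
    intro x
    constructor
    · intro hx
      rw [← hcc x (le_soc hx), mul_inv_cancel_right]
      exact hx
    · intro hx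
      have h1 : c * x * c⁻¹ ∈ soc (A l) := le_soc hx
      have h2 := hcc _ h1
      have h3 : c * x * c⁻¹ = x := by
        have h4 : c * x * c⁻¹ * c = c * (c * x * c⁻¹) := h2
        rw [inv_mul_cancel_right] at h4
        exact (mul_left_cancel h4).symm
      rwa [h3] at hx
  obtain ⟨γ, hγ⟩ := G.exists_of_norm hl hcN
  -- `c` is the scalar `γ` on `L`
  have hL : ∀ m ∈ L, c • m = γ • m := by
    intro m hm
    obtain ⟨h, d, hd, he⟩ := G.trans hl hm
    obtain ⟨s, hs, hEq⟩ := hE.wa.exists_conj_of_le (B := MulAut.conj h • A l) ⟨h, rfl⟩ le_soc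
      (cj_le_soc ⟨h, rfl⟩)
    rw [G.cj_A hl, G.cj_A hl] at hEq
    obtain ⟨d', hd'⟩ := G.exists_of_A_eq (G.smul s hl) (G.smul h hl) hEq.symm
    have h1 : c • (s • l) = γ • (s • l) := by
      rw [← mul_smul, ← hcc s hs, mul_smul, hγ, G.lin]
    have h2 : c • (h • l) = γ • (h • l) := by
      rw [hd', G.lin, h1, smul_comm]
    rw [he, G.lin, smul_comm γ d] at h2
    exact (smul_right_injective M hd) h2
  have hM : G.toEnd c = γ • LinearMap.id := by
    refine LinearMap.ext_on G.gen fun m hm => ?_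
    rw [G.toEnd_apply, LinearMap.smul_apply, LinearMap.id_apply]
    exact hL m hm
  have h1 := G.det_soc hl hcs
  rw [hM, LinearMap.det_smul, h4, LinearMap.det_id, mul_one] at h1
  have h2 : γ = 1 := by
    apply G.sq_one' hl
    apply G.sq_one' hl
    calc γ * γ * (γ * γ) = γ ^ 4 := by ring
      _ = 1 := h1
  apply Subtype.ext
  refine hf c fun m => ?_
  rw [← G.toEnd_apply, hM, h2, one_smul]
  rfl

/-- **(E4)** -/
theorem isoSuzuki [Finite H] (G : Gen F L A I al) (hcrit : CritAll.{u}) (hbend : BenderAll.{u})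
    (hf : ∀ h : H, (∀ m : M, h • m = m) → h = 1) (ho : Opp F L A) (h4 : Module.finrank F M = 4)
    {Kt : M → Subgroup H} {l m : M} (hl : l ∈ L) (hm : m ∈ L) (hlm : NP F l m)
    (hA : 4 ≤ Nat.card (A l)) (hfix : ∀ t ∈ Kt l, t • l = l) (hR : Reg F L Kt l)
    (hKt : Nat.card (Kt l) = Nat.card (A l) ^ 2) :
    Cfsg.Lie.IsoSuzuki (soc (A l)) ∧ ∃ P : Sylow 2 (soc (A l)), Nat.card P = Nat.card (A l) ^ 2 ∧
      (∀ x ∈ P, x * x = 1 → (x : H) ∈ A l) ∧ ∀ x : soc (A l), (x : H) ∈ A l → x ∈ P := by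
  have hE := G.noE ho hl hm hlm hA
  refine hE.isoSuzuki hcrit hbend (G.center_soc hf hl hE h4) ?_
  rw [G.card_members hl hm hlm hfix hR, hKt]

end Gen

end Cfsg.Agent.Omega.NO3S.OneQ.TIq

end
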